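import Cfsg.Agent.Nodes.Ty
import Cfsg.Agent.Nodes.Perp

/-!
# NI (F2'): the output: a chart of type `B₃` in the position `(c, d, A, B, A')`

Labels of a chart of type `.B 3` (`Nodes/Ty.lean`): the Cartan matrix of `C₃`, `R` = the roots `± eᵢ ± eⱼ` (the long roots
of `B₃`), the other roots `± 2 eᵢ` are the short roots of `B₃`. (`form`, `cpr` and the cone relation `Btwn` do not
depend on the labels.)
-/

set_option autoImplicit false
set_option linter.dupNamespace false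

namespace Cfsg.Agent.OddHalf.NI.FTwo

open Cfsg
open CoxeterSystem Cfsg.Agent.ChevalleyStructure.CoxeterGeom Cfsg.Agent.Tits.Roots Cfsg.Agent.Tits.Core
  Cfsg.Agent.Tits.RootComb Cfsg.Agent.Nodes.Comb Cfsg.Agent.Nodes.Reps Cfsg.Agent.Nodes.BNOf
  Cfsg.Agent.Nodes.RGDLib Cfsg.Agent.Nodes.Chart Cfsg.Agent.Nodes.Coroot Cfsg.Agent.Nodes.FreeTorus

variable {N : Type*} [Group N] {Om : Set (Subgroup N)} {p : ℕ}

/-- `C` is a chart of type `B₃` of `N` (`Spin₇(F)` or `Ω₇(F)`), all root groups have order `|F|`, `c` is the involution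
of the short `SL₂(F)`, `A` the short and `B`, `A'` the long `SL₂(F)` of an orthogonal frame. -/
structure PosB3 (C : Chart Om p (⊤ : Subgroup N)) (F : Type) [Field F] [Fintype F] (c d : N)
    (A B A' : Subgroup N) (r r' b : C.I → ℤ) : Prop where
  ty : C.IsTy (.B 3)
  odd : Odd (Fintype.card F)
  charP : CharP F p
  r_mem : r ∈ C.R
  r'_mem : r' ∈ C.R
  b_root : IsRoot C.cs C.h b
  b_not : b ∉ C.R
  rr' : form C.cs C.h r r' = 0
  br : form C.cs C.h b r = 0
  br' : form C.cs C.h b r' = 0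
  /-- the roots orthogonal to `r` -/
  perp : ∀ y, IsRoot C.cs C.h y → form C.cs C.h y r = 0 → y = r' ∨ y = -r' ∨ y = b ∨ y = -b
  /-- the roots outside `R` -/
  short : ∀ y, IsRoot C.cs C.h y → y ∉ C.R → y = b ∨ y = -b ∨ ∃ s ∈ C.R, y = b - cpr C.cs C.h b s • s
  zx : ∀ s ∈ C.R, C.Z s = C.X s
  sl : ∀ y, IsRoot C.cs C.h y → Nonempty (↥(LL C.X y) ≃* Matrix.SpecialLinearGroup (Fin 2) F)
  card : ∀ y, IsRoot C.cs C.h y → Nat.card (C.X y) = Fintype.card F
  comm : ∀ y, IsRoot C.cs C.h y → ∀ a ∈ C.X y, ∀ a' ∈ C.X y, a * a' = a' * a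
  A_eq : A = LL C.X b
  B_eq : B = LL C.X r
  A'_eq : A' = LL C.X r'
  zr : C.z r = d
  zr' : C.z r' = c * d
  /-- `z s z s' = c` for orthogonal long roots `s ≠ ± s'` -/
  zz : ∀ s ∈ C.R, ∀ s' ∈ C.R, form C.cs C.h s s' = 0 → C.z s * C.z s' = c
  c_mem : ∀ y, IsRoot C.cs C.h y → y ∉ C.R → c ∈ LL C.X y
  c_center : c ∈ Subgroup.center N
  c_order : orderOf c = 2
  d_order : orderOf d = 2

/-- `N` has a chart of type `B₃` over `F` in the position `(c, d, A, B, A')`. -/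
def ChartB3 (F : Type) [Field F] [Fintype F] (N : Type*) [Group N] (c d : N) (A B A' : Subgroup N) : Prop :=
  ∃ (Om : Set (Subgroup N)) (p : ℕ) (C : Chart Om p (⊤ : Subgroup N)) (r r' b : C.I → ℤ),
    Cfsg.Agent.Cit.Hyp Om ∧ PosB3 C F c d A B A' r r' b

end Cfsg.Agent.OddHalf.NI.FTwo
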