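import Cfsg.Agent.Cit.Defs
import Cfsg.Agent.SignalizersComponents.Components
import Cfsg.Agent.SignalizersComponents.SLQuasisimple
import Cfsg.Agent.LieClassical.SLTwoSylowTwo
import Cfsg.Agent.Lib.AutSL2Out

/-!
# NI (F2'): a member of `Om` normalising a component `SL₂(F)`

* `act_inner` : a perfect subgroup normalising `J ≃ SL₂(F)` induces inner automorphisms;
* `z_comm` : if `K ≃ SL₂(F)` normalises `J ≃ SL₂(F)` (same order) then the involution of `K` centralises `J`;
* `comm_of_normalizes` : `J` a component of `D`, `K ≤ D` a member of `Om`, `K` normalises `J`, `zz K ∉ J`: then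
  `J` and `K` commute.
-/

set_option autoImplicit false
set_option linter.style.haveILetI false

namespace Cfsg.Agent.OddHalf.NI.FTwo

open Subgroup Cfsg
open Cfsg.Agent.Cit (cj mem_cj conj_mem_cj zz Hyp)
open Cfsg.Agent.SignalizersComponents.Components
open scoped commutatorElement

variable {G : Type*} [Group G]

/-- `SL₂(F)`, `|F| > 3` odd -/
structure SL (F : Type*) [Field F] [Fintype F] (X : Type*) [Group X] : Prop where
  odd : Odd (Fintype.card F)
  three : 3 < Fintype.card F
  equiv : Nonempty (X ≃* Matrix.SpecialLinearGroup (Fin 2) F)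

namespace SL

variable {F : Type*} [Field F] [Fintype F] {X Y : Type*} [Group X] [Group Y]

theorem congr (h : SL F X) (e : X ≃* Y) : SL F Y := by
  obtain ⟨f⟩ := h.equiv
  exact ⟨h.odd, h.three, ⟨e.symm.trans f⟩⟩

theorem quasisimple (h : SL F X) : IsQuasisimple X := by
  obtain ⟨f⟩ := h.equiv
  exact isQuasisimple_of_mulEquiv f.symm
    (SignalizersComponents.SLQuasisimple.isQuasisimple_two (by rw [Nat.card_eq_fintype_card]; have := h.three; omega))

theorem finite (h : SL F X) : Finite X := by
  obtain ⟨f⟩ := h.equiv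
  exact Finite.of_equiv _ f.symm.toEquiv

theorem card_eq (h : SL F X) (h' : SL F Y) : Nat.card X = Nat.card Y := by
  obtain ⟨f⟩ := h.equiv
  obtain ⟨f'⟩ := h'.equiv
  exact Nat.card_congr (f.trans f'.symm).toEquiv

/-- exactly one involution -/
theorem unique (h : SL F X) : ∃ z : X, orderOf z = 2 ∧ ∀ t : X, orderOf t = 2 → t = z := by
  obtain ⟨f⟩ := h.equiv
  have h2' := SignalizersComponents.SLQuasisimple.two_ne_zero_of_odd h.odd
  have hne : (-1 : Matrix.SpecialLinearGroup (Fin 2) F) ≠ 1 := by
    intro h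
    have h3 := congrArg (fun g : Matrix.SpecialLinearGroup (Fin 2) F =>
      (g : Matrix (Fin 2) (Fin 2) F) 0 0) h
    simp at h3
    apply h2'
    have h4 : (1 : F) + 1 = 0 := by
      nth_rewrite 1 [← h3]
      ring
    rw [← h4]
    norm_num
  have ho : orderOf (-1 : Matrix.SpecialLinearGroup (Fin 2) F) = 2 :=
    orderOf_eq_prime (by simp) hne
  refine ⟨f.symm (-1), ?_, ?_⟩
  · rw [f.symm.orderOf_eq, ho]
  · intro t ht
    apply f.injective
    rw [MulEquiv.apply_symm_apply]
    have h3 : orderOf (f t) = 2 := by rw [f.orderOf_eq, ht]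
    apply LieClassical.SLTwoSylowTwo.eq_neg_one_of_sq h2'
    · intro h
      rw [h, orderOf_one] at h3
      omega
    · have h4 := pow_orderOf_eq_one (f t)
      rwa [h3] at h4

/-- the centre of a central element: `z` is an involution, then it is central -/
theorem mem_center (h : SL F X) {z : X} (hz : orderOf z = 2) : z ∈ center X := by
  obtain ⟨w, -, hw⟩ := h.unique
  rw [mem_center_iff]
  intro g
  have h1 := hw z hz
  have h2 := hw (g * z * g⁻¹) (by rw [← hz]; exact (MulAut.conj g).orderOf_eq z)
  have h3 : g * z * g⁻¹ = z := h2.trans h1.symm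
  exact mul_inv_eq_iff_eq_mul.1 h3

end SL

/-! ### A perfect group normalising `SL₂(F)` -/

theorem SL.commutator_le_inn {F : Type*} [Field F] [Fintype F] {X : Type*} [Group X] (h : SL F X) :
    commutator (MulAut X) ≤ (MulAut.conj : X →* MulAut X).range := by
  obtain ⟨e⟩ := h.equiv
  rw [commutator_def, Subgroup.commutator_le]
  intro α _ β _
  obtain ⟨s, hs⟩ := Lib.AutSL2Out.commutator_inner (MulAut.congr e α) (MulAut.congr e β)
  refine ⟨e.symm s, ?_⟩
  apply (MulAut.congr e).injective
  have h1 : MulAut.congr e ⁅α, β⁆ = MulAut.congr e α * MulAut.congr e β * (MulAut.congr e α)⁻¹ *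
      (MulAut.congr e β)⁻¹ := by
    rw [commutatorElement_def, map_mul, map_mul, map_mul, map_inv, map_inv]
  rw [h1]
  ext1 x
  rw [hs x]
  change e (e.symm s * e.symm x * (e.symm s)⁻¹) = _
  rw [map_mul, map_mul, map_inv, MulEquiv.apply_symm_apply, MulEquiv.apply_symm_apply]

theorem act_inner {F : Type*} [Field F] [Fintype F] {J K : Subgroup G} (hJ : SL F J)
    (hKJ : K ≤ normalizer (J : Set G)) (hK : ⁅K, K⁆ = K) {k : G} (hk : k ∈ K) :
    ∃ s ∈ J, ∀ x ∈ J, k * x * k⁻¹ = s * x * s⁻¹ := by
  set K' := K.subgroupOf (normalizer (J : Set G)) with hK'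
  have hK'' : ⁅K', K'⁆ = K' := by
    apply Subgroup.map_injective (normalizer (J : Set G)).subtype_injective
    rw [map_commutator, map_subgroupOf_eq_of_le hKJ, hK]
  have h1 : K'.map J.normalizerMonoidHom ≤ (MulAut.conj : J →* MulAut J).range := by
    refine le_trans ?_ hJ.commutator_le_inn
    rw [← hK'', map_commutator, commutator_def]
    exact commutator_mono le_top le_top
  obtain ⟨s, hs⟩ := h1 (mem_map_of_mem _ (show (⟨k, hKJ hk⟩ : normalizer (J : Set G)) ∈ K' from hk))
  refine ⟨s, s.2, fun x hx => ?_⟩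
  have h2 := congrArg (fun f : MulAut J => ((f ⟨x, hx⟩ : J) : G)) hs
  exact h2.symm

theorem commutator_eq_of_quasisimple {K : Subgroup G} (h : IsQuasisimple K) : ⁅K, K⁆ = K := by
  have h1 := h.1
  exact Subgroup.isPerfect_iff.mp h1

/-- the involution of `K` centralises `J` -/
theorem z_comm [Finite G] {F : Type*} [Field F] [Fintype F] {J K : Subgroup G} (hJ : SL F J) (hKs : SL F K)
    (hKJ : K ≤ normalizer (J : Set G)) {z : G} (hz : z ∈ K) (hz2 : orderOf z = 2) :
    J ≤ centralizer {z} := by
  have hperf := commutator_eq_of_quasisimple hKs.quasisimple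
  -- the kernel
  set N : Subgroup K := (centralizer (J : Set G)).subgroupOf K with hN
  have hNn : N.Normal := by
    refine ⟨fun n hn g => ?_⟩
    rw [hN, mem_subgroupOf, mem_centralizer_iff] at hn ⊢
    intro x hx
    have hg := hKJ g.2
    have h1 : (g : G)⁻¹ * x * g ∈ J := by
      have := (mem_normalizer_iff.1 (inv_mem hg) x).1 hx
      rwa [inv_inv] at this
    have h2 := hn _ h1
    simp only [Subgroup.coe_mul, Subgroup.coe_inv]
    calc x * (g * n * (g : G)⁻¹) = g * (((g : G)⁻¹ * x * g) * n) * (g : G)⁻¹ := by group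
      _ = g * (n * ((g : G)⁻¹ * x * g)) * (g : G)⁻¹ := by rw [h2]
      _ = g * n * (g : G)⁻¹ * x := by group
  have hmem : z ∈ centralizer (J : Set G) := by
    by_contra hcon
    -- then `N = 1`
    have hN1 : N = ⊥ := by
      rcases quasisimple_normal hKs.quasisimple N hNn with h1 | h1
      · exfalso
        apply hcon
        have h2 : (⟨z, hz⟩ : K) ∈ N := by rw [h1]; trivial
        exact h2
      · rw [eq_bot_iff]
        intro x hx
        rw [mem_bot]
        by_contra hx1
        -- `x` is central, so `x` is an involution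
        have hcx : x * x = 1 := by
          obtain ⟨f⟩ := hKs.equiv
          have h3 : f x ∈ center (Matrix.SpecialLinearGroup (Fin 2) F) := by
            rw [mem_center_iff]
            intro g
            have h4 := (mem_center_iff.1 (h1 hx)) (f.symm g)
            have h5 := congrArg f h4
            rwa [map_mul, map_mul, MulEquiv.apply_symm_apply] at h5
          rw [Matrix.SpecialLinearGroup.mem_center_iff] at h3
          obtain ⟨a, ha, hax⟩ := h3
          apply f.injective
          rw [map_mul, map_one]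
          apply Subtype.ext
          rw [Fintype.card_fin] at ha
          change ((f x : Matrix.SpecialLinearGroup (Fin 2) F) : Matrix (Fin 2) (Fin 2) F) *
            ((f x : Matrix.SpecialLinearGroup (Fin 2) F) : Matrix (Fin 2) (Fin 2) F) = 1
          rw [← hax, ← map_mul, ← pow_two, ha, map_one]
        obtain ⟨w, -, hw⟩ := hKs.unique
        have h3 : x = w := hw x (orderOf_eq_prime (by rw [pow_two]; exact hcx) hx1)
        have h4 : (⟨z, hz⟩ : K) = w := hw _ (by rw [← Subgroup.orderOf_coe]; exact hz2)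
        rw [h3, ← h4] at hx
        exact hcon hx
    -- the map `K → J / Z(J)`
    have h1 : ∀ k : K, ∃ s : J, ∀ x ∈ J, (k : G) * x * (k : G)⁻¹ = s * x * (s : G)⁻¹ := by
      intro k
      obtain ⟨s, hs, h2⟩ := act_inner hJ hKJ hperf k.2
      exact ⟨⟨s, hs⟩, h2⟩
    choose s hs using h1
    have hinj : Function.Injective fun k : K => (QuotientGroup.mk (s k) : J ⧸ center J) := by
      intro k l hkl
      have h2 : (s k)⁻¹ * s l ∈ center J := QuotientGroup.eq.1 hkl
      have h3 : k⁻¹ * l ∈ N := by
        rw [hN, mem_subgroupOf, mem_centralizer_iff]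
        intro x hx
        have h4 := hs l x hx
        have h5 : ((s l : G)) * x * (s l : G)⁻¹ ∈ J := J.mul_mem (J.mul_mem (s l).2 hx) (J.inv_mem (s l).2)
        have h6 : (k : G)⁻¹ * (s l * x * (s l : G)⁻¹) * k = (s k : G)⁻¹ * (s l * x * (s l : G)⁻¹) * s k := by
          have h7 := hs k ((s k : G)⁻¹ * (s l * x * (s l : G)⁻¹) * s k)
            (J.mul_mem (J.mul_mem (J.inv_mem (s k).2) h5) (s k).2)
          have h8 : (s k : G) * ((s k : G)⁻¹ * (s l * x * (s l : G)⁻¹) * s k) * (s k : G)⁻¹ =
            s l * x * (s l : G)⁻¹ := by group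
          rw [h8] at h7
          calc (k : G)⁻¹ * (s l * x * (s l : G)⁻¹) * k
              = (k : G)⁻¹ * ((k : G) * ((s k : G)⁻¹ * (s l * x * (s l : G)⁻¹) * s k) * (k : G)⁻¹) * k := by rw [h7]
            _ = _ := by group
        have h9 : ((s k : G)⁻¹ * s l) * x = x * ((s k : G)⁻¹ * s l) := by
          have := congrArg (Subtype.val : J → G) ((mem_center_iff.1 h2) ⟨x, hx⟩)
          exact this.symm
        have h10 : (k : G)⁻¹ * (l * x * (l : G)⁻¹) * k = x := by
          rw [h4, h6]
          calc (s k : G)⁻¹ * (s l * x * (s l : G)⁻¹) * s k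
              = (((s k : G)⁻¹ * s l) * x) * ((s k : G)⁻¹ * s l)⁻¹ := by group
            _ = x := by rw [h9]; group
        simp only [Subgroup.coe_mul, Subgroup.coe_inv]
        have h11 : ((k : G)⁻¹ * l) * x = x * ((k : G)⁻¹ * l) := by
          calc ((k : G)⁻¹ * l) * x = ((k : G)⁻¹ * (l * x * (l : G)⁻¹) * k) * ((k : G)⁻¹ * l) := by group
            _ = x * ((k : G)⁻¹ * l) := by rw [h10]
        exact h11.symm
      rw [hN1, mem_bot] at h3
      exact inv_mul_eq_one.1 h3
    have h2 := Nat.card_le_card_of_injective _ hinj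
    have h3 : Nat.card K = Nat.card J := hKs.card_eq hJ
    have h4 : Nat.card J = Nat.card (J ⧸ center J) * Nat.card (center J) := Subgroup.card_eq_card_quotient_mul_card_subgroup _
    have h5 : 1 < Nat.card (center J) := by
      obtain ⟨w, hw2, -⟩ := hJ.unique
      have h6 := hJ.mem_center hw2
      refine Finite.one_lt_card_iff_nontrivial.2 ⟨⟨⟨w, h6⟩, 1, fun h7 => ?_⟩⟩
      have h8 : w = 1 := congrArg Subtype.val h7
      rw [h8, orderOf_one] at hw2
      omega
    have h6 : 0 < Nat.card (J ⧸ center J) := Nat.card_pos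
    rw [← h3] at h4
    have h7 : Nat.card (J ⧸ center J) * 2 ≤ Nat.card (J ⧸ center J) * Nat.card (center J) :=
      Nat.mul_le_mul le_rfl h5
    omega
  intro x hx
  rw [mem_centralizer_singleton_iff]
  exact (mem_centralizer_iff.1 hmem x hx)

/-- **A member of `Om` normalising a component.** -/
theorem comm_of_normalizes [Finite G] {Om : Set (Subgroup G)} (h : Hyp Om) {F : Type*} [Field F] [Fintype F]
    {D J K : Subgroup G} (hJD : J ≤ D) (hJ : (J.subgroupOf D).IsSubnormal) (hJs : SL F J) (hK : K ∈ Om)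
    (hKD : K ≤ D) (hKs : SL F K) (hKJ : K ≤ normalizer (J : Set G)) (hz : zz K ∉ J) :
    ∀ x ∈ J, ∀ y ∈ K, x * y = y * x := by
  have hJz : J ≤ centralizer {zz K} := z_comm hJs hKs hKJ (h.zz_mem hK) (h.orderOf_zz hK)
  set M : Subgroup G := D ⊓ centralizer {zz K} with hM
  have hJM : J ≤ M := le_inf hJD hJz
  have hKM : K ≤ M := le_inf hKD (h.le_centralizer hK)
  have key : ∀ {A H : Subgroup G}, A ≤ H → (A.subgroupOf H).IsSubnormal → M ≤ H →
      (A.subgroupOf M).IsSubnormal := by
    intro A H _ hA hMH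
    have h1 := hA.comap (Subgroup.inclusion hMH)
    exact h1
  have h1 : IsComponent (J.subgroupOf M) :=
    ⟨key hJD hJ inf_le_left, isQuasisimple_of_mulEquiv (subgroupOfEquivOfLe hJM).symm hJs.quasisimple⟩
  have h2 : IsComponent (K.subgroupOf M) :=
    ⟨key (h.le_centralizer hK) (h.sub K hK) inf_le_right,
      isQuasisimple_of_mulEquiv (subgroupOfEquivOfLe hKM).symm hKs.quasisimple⟩
  have hne : J.subgroupOf M ≠ K.subgroupOf M := by
    intro h3
    apply hz
    have h4 : (⟨zz K, hKM (h.zz_mem hK)⟩ : M) ∈ K.subgroupOf M := h.zz_mem hK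
    rw [← h3] at h4
    exact h4
  have h3 := component_le_centralizer_of_ne h1 h2 hne
  intro x hx y hy
  have h4 := mem_centralizer_iff.1 (h3 (show (⟨x, hJM hx⟩ : M) ∈ J.subgroupOf M from hx)) ⟨y, hKM hy⟩ hy
  exact (congrArg Subtype.val h4).symm

end Cfsg.Agent.OddHalf.NI.FTwo
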