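import Mathlib
import Cfsg.Agent.Nodes.Perp
import Cfsg.Agent.Nodes.NormalForm
import Cfsg.Agent.SignalizersComponents.PCompCore
import Cfsg.Agent.OddHalf.NI.FTwo.Norm

/-!
# NI (F2'): components `SL₂(F)` of a group with classical root groups

`C : Cls cs h p T n X R Z z`, `J ≃ SL₂(F)` subnormal in `GG`, `p ∣ |J|`, all `KK Z s ≃ SL₂(F)` members of `Om`.

* `KK_le_normalizer` : the `KK Z s` normalise `J`;
* `X_comm` : if no conjugate of a `z s` lies in `J` then `J` commutes with `X x` unless `x ∉ R` is orthogonal to `R`;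
* `exists_bad` : so there is such a root `x`, and `X x` does not commute with `J`.
-/

set_option autoImplicit false
set_option linter.unusedSectionVars false
set_option linter.dupNamespace false

namespace Cfsg.Agent.OddHalf.NI.FTwo

open Cfsg
open CoxeterSystem Cfsg.Agent.ChevalleyStructure.CoxeterGeom Cfsg.Agent.Tits.Roots Cfsg.Agent.Tits.Core
  Cfsg.Agent.Tits.RootComb Cfsg.Agent.Nodes.Comb Cfsg.Agent.Nodes.Reps Cfsg.Agent.Nodes.BNOf
  Cfsg.Agent.Nodes.RGDLib Cfsg.Agent.Nodes.Chart Cfsg.Agent.Nodes.Coroot Cfsg.Agent.Nodes.FreeTorus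
  Cfsg.Agent.Nodes.SubComb Cfsg.Agent.Nodes.Bruhat Cfsg.Agent.Nodes.StabComb Cfsg.Agent.Nodes.Perp
open Cfsg.Agent.Cit (Hyp zz)
open Cfsg.Agent.Cit.TypeDet (cm cm_symm cm_iff_le_centralizer cm_mono)
open Cfsg.Agent.SignalizersComponents.Components
open scoped commutatorElement

variable {I W Y : Type*} [Fintype I] [DecidableEq I] [Group W] [Fintype W] [Group Y] {M : CoxeterMatrix I}
  {cs : CoxeterSystem M W} {A : I → I → ℤ} {h : IsCartan M A} {p : ℕ} {T : Subgroup Y} {n : I → Y}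
  {X : (I → ℤ) → Subgroup Y} {R : Set (I → ℤ)} {Z : (I → ℤ) → Subgroup Y} {z : (I → ℤ) → Y}

theorem U_le_GG : RGD.Sup X (RGD.Pos cs h) ≤ GG cs h T X := RGD.U_le_B.trans B_le_GG

/-- `U` has index prime to `p` in `GG`. -/
theorem not_dvd_index_U [Finite Y] [Fact p.Prime] (D : RGD cs h p T n X) :
    ¬ p ∣ ((RGD.Sup X (RGD.Pos cs h)).subgroupOf (GG cs h T X)).index := by
  set U := RGD.Sup X (RGD.Pos cs h) with hU
  have h1 : IsPGroup p (U.subgroupOf (GG cs h T X)) :=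
    D.isPGroup_Upos.comap_subtype
  obtain ⟨P, hP⟩ := h1.exists_le_sylow
  have h2 : U ≤ (P : Subgroup (GG cs h T X)).map (GG cs h T X).subtype := by
    intro x hx
    exact ⟨⟨x, U_le_GG hx⟩, hP (show (⟨x, U_le_GG hx⟩ : GG cs h T X) ∈ U.subgroupOf _ from hx), rfl⟩
  have h3 := Nodes.NormalForm.eq_U_of_isPGroup D (P.isPGroup'.map (GG cs h T X).subtype) h2
    (Subgroup.map_subtype_le _)
  have h4 : U.subgroupOf (GG cs h T X) = P := by
    rw [hU, ← h3, Subgroup.subgroupOf, Subgroup.comap_map_eq_self_of_injective (GG cs h T X).subtype_injective]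
  rw [h4]
  exact P.not_dvd_index

/-- A subnormal subgroup of `GG` of order divisible by `p` meets `U`. -/
theorem inf_U_ne_bot [Finite Y] [Fact p.Prime] (D : RGD cs h p T n X) {J : Subgroup Y} (hJ : J ≤ GG cs h T X)
    (hs : (J.subgroupOf (GG cs h T X)).IsSubnormal) (hp : p ∣ Nat.card J) :
    ∃ x ∈ J, x ∈ RGD.Sup X (RGD.Pos cs h) ∧ x ≠ 1 := by
  by_contra hcon
  push Not at hcon
  apply not_dvd_index_U D
  refine dvd_trans ?_ (SignalizersComponents.PCompCore.relIndex_dvd_index_of_subnormal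
    ((RGD.Sup X (RGD.Pos cs h)).subgroupOf (GG cs h T X)) hs)
  rw [Subgroup.relIndex_subgroupOf hJ, ← Subgroup.inf_relIndex_right]
  have h1 : RGD.Sup X (RGD.Pos cs h) ⊓ J = ⊥ := by
    rw [Subgroup.eq_bot_iff_forall]
    exact fun x hx => hcon x hx.2 hx.1
  rw [h1, Subgroup.relIndex_bot_left]
  exact hp

/-- the data of this file -/
structure Dat (F : Type*) [Field F] [Fintype F] (cs : CoxeterSystem M W) {A : I → I → ℤ} (h : IsCartan M A) (p : ℕ)
    (T : Subgroup Y) (X : (I → ℤ) → Subgroup Y) (J : Subgroup Y) : Prop where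
  prime : p.Prime
  odd : p ≠ 2
  sl : SL F J
  dvd : p ∣ Nat.card J
  le : J ≤ GG cs h T X
  sub : (J.subgroupOf (GG cs h T X)).IsSubnormal

variable {F : Type*} [Field F] [Fintype F] {J : Subgroup Y}

/-- subnormality passes to conjugates by elements of the group -/
theorem subnormal_cj {G : Type*} [Group G] {H J : Subgroup G} {g : G} (hg : g ∈ H)
    (hs : (J.subgroupOf H).IsSubnormal) : ((cj g J).subgroupOf H).IsSubnormal := by
  have h1 := hs.map (f := (MulAut.conj (⟨g, hg⟩ : H)).toMonoidHom) (MulAut.conj (⟨g, hg⟩ : H)).surjective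
  convert h1 using 1
  ext x
  rw [Subgroup.mem_subgroupOf, mem_cj, Subgroup.mem_map]
  constructor
  · intro hx
    refine ⟨(⟨g, hg⟩ : H)⁻¹ * x * ⟨g, hg⟩, ?_, ?_⟩
    · rw [Subgroup.mem_subgroupOf]
      exact hx
    · change (⟨g, hg⟩ : H) * ((⟨g, hg⟩ : H)⁻¹ * x * ⟨g, hg⟩) * (⟨g, hg⟩ : H)⁻¹ = x
      group
  · rintro ⟨y, hy, rfl⟩
    rw [Subgroup.mem_subgroupOf] at hy
    change g⁻¹ * (g * (y : G) * g⁻¹) * g ∈ J
    have e : g⁻¹ * (g * (y : G) * g⁻¹) * g = y := by group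
    rw [e]; exact hy

theorem Dat.conj (D : Dat F cs h p T X J) {g : Y} (hg : g ∈ GG cs h T X) :
    Dat F cs h p T X (Nodes.Reps.cj g J) where
  prime := D.prime
  odd := D.odd
  sl := D.sl.congr (J.equivMapOfInjective (MulAut.conj g).toMonoidHom (MulAut.conj g).injective)
  dvd := by
    have h1 : Nat.card (Nodes.Reps.cj g J) = Nat.card J :=
      Subgroup.card_map_of_injective (MulAut.conj g).injective
    rw [h1]; exact D.dvd
  le := by
    rw [← cj_eq_of_mem hg]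
    exact cj_mono g D.le
  sub := subnormal_cj hg D.sub

/-- distinct conjugates of `J` commute -/
theorem Dat.comm (D : Dat F cs h p T X J) {g : Y} (hg : g ∈ GG cs h T X) (hne : cj g J ≠ J) :
    ∀ x ∈ J, ∀ y ∈ cj g J, x * y = y * x := by
  have D' := D.conj hg
  have h1 : IsComponent (J.subgroupOf (GG cs h T X)) :=
    ⟨D.sub, isQuasisimple_of_mulEquiv (Subgroup.subgroupOfEquivOfLe D.le).symm D.sl.quasisimple⟩
  have h2 : IsComponent ((Nodes.Reps.cj g J).subgroupOf (GG cs h T X)) :=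
    ⟨D'.sub, isQuasisimple_of_mulEquiv (Subgroup.subgroupOfEquivOfLe D'.le).symm D'.sl.quasisimple⟩
  have hne' : J.subgroupOf (GG cs h T X) ≠ (Nodes.Reps.cj g J).subgroupOf (GG cs h T X) := by
    intro h3
    apply hne
    have h4 := congrArg (Subgroup.map (GG cs h T X).subtype) h3
    rw [Subgroup.map_subgroupOf_eq_of_le D.le, Subgroup.map_subgroupOf_eq_of_le D'.le] at h4
    exact h4.symm
  have h3 := component_le_centralizer_of_ne h1 h2 hne'
  intro x hx y hy
  have h4 := Subgroup.mem_centralizer_iff.1 (h3 (show (⟨x, D.le hx⟩ : GG cs h T X) ∈ J.subgroupOf _ from hx))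
    ⟨y, D'.le hy⟩ hy
  exact (congrArg Subtype.val h4).symm

/-- a `p`-element of `J` commuting with `J` is trivial -/
theorem Dat.eq_one (D : Dat F cs h p T X J) {x : Y} (hx : x ∈ J) (hc : ∀ y ∈ J, x * y = y * x) {k : ℕ}
    (hk : x ^ p ^ k = 1) : x = 1 := by
  have h1 : (⟨x, hx⟩ : J) ∈ Subgroup.center J := by
    rw [Subgroup.mem_center_iff]
    intro y
    exact Subtype.ext (hc y y.2).symm
  have h2 : x * x = 1 := by
    obtain ⟨f⟩ := D.sl.equiv
    have h3 : f ⟨x, hx⟩ ∈ Subgroup.center (Matrix.SpecialLinearGroup (Fin 2) F) := by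
      rw [Subgroup.mem_center_iff]
      intro g
      have h4 := (Subgroup.mem_center_iff.1 h1) (f.symm g)
      have h5 := congrArg f h4
      rwa [map_mul, map_mul, MulEquiv.apply_symm_apply] at h5
    rw [Matrix.SpecialLinearGroup.mem_center_iff] at h3
    obtain ⟨a, ha, hax⟩ := h3
    have h4 : (⟨x, hx⟩ : J) * ⟨x, hx⟩ = 1 := by
      apply f.injective
      rw [map_mul, map_one]
      apply Subtype.ext
      rw [Fintype.card_fin] at ha
      change ((f ⟨x, hx⟩ : Matrix.SpecialLinearGroup (Fin 2) F) : Matrix (Fin 2) (Fin 2) F) *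
        ((f ⟨x, hx⟩ : Matrix.SpecialLinearGroup (Fin 2) F) : Matrix (Fin 2) (Fin 2) F) = 1
      rw [← hax, ← map_mul, ← pow_two, ha, map_one]
    exact congrArg Subtype.val h4
  have h5 : orderOf x ∣ 2 := orderOf_dvd_of_pow_eq_one (by rw [pow_two]; exact h2)
  have h6 : orderOf x ∣ p ^ k := orderOf_dvd_of_pow_eq_one hk
  have h7 : Nat.Coprime 2 (p ^ k) := by
    apply Nat.Coprime.pow_right
    rw [Nat.coprime_primes Nat.prime_two D.prime]
    exact fun e => D.odd e.symm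
  exact orderOf_eq_one_iff.1 (Nat.dvd_one.1 (by rw [← h7]; exact Nat.dvd_gcd h5 h6))

/-- the dominant case -/
theorem Z_le_normalizer_of_dom [Finite Y] (C : Cls cs h p T n X R Z z) (D : Dat F cs h p T X J) {s : I → ℤ}
    (hs : s ∈ R) (hd : Dom A s) : Z s ≤ Subgroup.normalizer (J : Set Y) := by
  have : Fact p.Prime := ⟨D.prime⟩
  intro g hg
  rw [mem_normalizer_iff_cj]
  by_contra hne
  have hgG : g ∈ GG cs h T X := X_le_GG (C.root s hs) (C.le s hs hg)
  obtain ⟨x, hxJ, hxU, hx1⟩ := inf_U_ne_bot C.rgd D.le D.sub D.dvd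
  apply hx1
  obtain ⟨k, hk⟩ := C.rgd.isPGroup_Upos ⟨x, hxU⟩
  refine D.eq_one hxJ ?_ (k := k) (congrArg Subtype.val hk)
  -- `g` commutes with `x`
  have h1 : RGD.Sup X (RGD.Pos cs h) ≤ Subgroup.centralizer (Z s : Set Y) := by
    refine RGD.Sup_le fun y hy => Nodes.ClsNorm.X_le_centralizer C hs hy.1 ?_
    rw [form_comm]
    exact form_nonneg_of_dom cs h hd hy.2
  have h2 := Subgroup.mem_centralizer_iff.1 (h1 hxU) g hg
  have h3 : x ∈ Nodes.Reps.cj g J := by
    have : x = g * x * g⁻¹ := by rw [h2]; group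
    rw [this]; exact conj_mem_cj.2 hxJ
  exact fun y hy => (D.comm hgG hne y hy x h3).symm

theorem Z_le_normalizer [Finite Y] (C : Cls cs h p T n X R Z z) (D : Dat F cs h p T X J) {s : I → ℤ}
    (hs : s ∈ R) : Z s ≤ Subgroup.normalizer (J : Set Y) := by
  obtain ⟨w, hw⟩ := Nodes.ClsNorm.exists_dominant (cs := cs) (h := h) s
  obtain ⟨k, hk⟩ := exists_rp cs C.rgd.nsys w
  have hkG : k ∈ GG cs h T X := NN_le_GG C.rgd ⟨_, hk⟩
  have h1 := Z_le_normalizer_of_dom C (D.conj hkG) (C.act s hs w) hw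
  intro g hg
  have h2 : k * g * k⁻¹ ∈ Z (rep cs h w s) := by
    rw [← Nodes.ClsNorm.conj_Z C hk hs]
    exact conj_mem_cj.2 hg
  have h3 := mem_normalizer_iff_cj.1 (h1 h2)
  rw [mem_normalizer_iff_cj]
  rw [← cj_mul] at h3
  have h4 := congrArg (cj k⁻¹) h3
  rw [← cj_mul, cj_inv_cj] at h4
  have e : k⁻¹ * (k * g * k⁻¹ * k) = g := by group
  rwa [e] at h4

/-- **The classical groups normalise `J`.** -/
theorem KK_le_normalizer [Finite Y] (C : Cls cs h p T n X R Z z) (D : Dat F cs h p T X J) {s : I → ℤ}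
    (hs : s ∈ R) : KK Z s ≤ Subgroup.normalizer (J : Set Y) :=
  sup_le (Z_le_normalizer C D hs) (Z_le_normalizer C D (Nodes.Perp.neg_mem C hs))

theorem Dat.not_comm (D : Dat F cs h p T X J) : ¬ ∀ x ∈ J, ∀ y ∈ J, x * y = y * x := by
  intro hc
  obtain ⟨x, hx⟩ : ∃ x ∈ J, orderOf x = p := by
    have : Fact p.Prime := ⟨D.prime⟩
    have := D.sl.finite
    obtain ⟨x, hx⟩ := exists_prime_orderOf_dvd_card' p D.dvd
    exact ⟨x, x.2, by rw [Subgroup.orderOf_coe]; exact hx⟩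
  have h1 := D.eq_one (k := 1) hx.1 (fun y hy => hc x hx.1 y hy) (by rw [pow_one, ← hx.2, pow_orderOf_eq_one])
  rw [h1, orderOf_one] at hx
  exact D.prime.one_lt.ne hx.2

/-- the hypotheses on the classical groups -/
structure Big (F : Type*) [Field F] [Fintype F] (Om : Set (Subgroup Y)) (R : Set (I → ℤ))
    (Z : (I → ℤ) → Subgroup Y) (z : (I → ℤ) → Y) : Prop where
  hyp : Hyp Om
  mem : ∀ s ∈ R, KK Z s ∈ Om
  sl : ∀ s ∈ R, SL F (KK Z s)
  z_ne : ∀ s ∈ R, z s ≠ 1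

variable {Om : Set (Subgroup Y)}

theorem Big.zz_eq [Finite Y] (B : Big F Om R Z z) (C : Cls cs h p T n X R Z z) {s : I → ℤ} (hs : s ∈ R) :
    zz (KK Z s) = z s := by
  obtain ⟨w, hw, hu⟩ := (B.sl s hs).unique
  have h1 := hu ⟨zz (KK Z s), B.hyp.zz_mem (B.mem s hs)⟩
    (by rw [← Subgroup.orderOf_coe]; exact B.hyp.orderOf_zz (B.mem s hs))
  have h2 := hu ⟨z s, C.z_mem s hs⟩ (by
    rw [← Subgroup.orderOf_coe]
    exact orderOf_eq_prime (by rw [pow_two]; exact C.z_sq s hs) (B.z_ne s hs))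
  exact congrArg Subtype.val (h1.trans h2.symm)

theorem KK_le_GG (C : Cls cs h p T n X R Z z) {s : I → ℤ} (hs : s ∈ R) : KK Z s ≤ GG cs h T X :=
  sup_le ((C.le s hs).trans (X_le_GG (C.root s hs)))
    ((C.le _ (Nodes.Perp.neg_mem C hs)).trans (X_le_GG (C.root s hs).neg))

/-- **The classical groups commute with `J`.** -/
theorem KK_comm [Finite Y] (C : Cls cs h p T n X R Z z) (B : Big F Om R Z z) (D : Dat F cs h p T X J)
    {s : I → ℤ} (hs : s ∈ R) (hz : z s ∉ J) : ∀ x ∈ J, ∀ y ∈ KK Z s, x * y = y * x :=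
  comm_of_normalizes B.hyp D.le D.sub D.sl (B.mem s hs) (KK_le_GG C hs) (B.sl s hs) (KK_le_normalizer C D hs)
    (by rw [B.zz_eq C hs]; exact hz)

/-- an element of odd order is a power of its square -/
theorem mem_of_sq_mem {H : Subgroup Y} {y : Y} {k : ℕ} (hodd : Odd k) (hk : y ^ k = 1) (h2 : y * y ∈ H) : y ∈ H := by
  obtain ⟨m, hm⟩ := hodd
  rw [hm, pow_succ, pow_mul, pow_two] at hk
  have h3 : y = ((y * y) ^ m)⁻¹ := by
    have := eq_inv_of_mul_eq_one_left hk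
    rw [this, inv_inv]
  rw [h3]
  exact inv_mem (pow_mem h2 m)

/-- **Root groups commuting with `J`.** -/
theorem X_comm [Finite Y] (C : Cls cs h p T n X R Z z) (B : Big F Om R Z z) (D : Dat F cs h p T X J)
    (hz : ∀ s ∈ R, ∀ d ∈ GG cs h T X, z s ∉ cj d J) {y : I → ℤ} (hy : IsRoot cs h y)
    (hyR : y ∈ R ∨ ∃ s ∈ R, form cs h y s ≠ 0) : ∀ a ∈ J, ∀ b ∈ X y, a * b = b * a := by
  have key : ∀ s ∈ R, ∀ d ∈ GG cs h T X, ∀ a ∈ J, ∀ b ∈ KK Z s, a * (d⁻¹ * b * d) = (d⁻¹ * b * d) * a := by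
    intro s hs d hd a ha b hb
    have h1 := KK_comm C B (D.conj hd) hs (hz s hs d hd) (d * a * d⁻¹) (conj_mem_cj.2 ha) b hb
    calc a * (d⁻¹ * b * d) = d⁻¹ * ((d * a * d⁻¹) * b) * d := by group
      _ = d⁻¹ * (b * (d * a * d⁻¹)) * d := by rw [h1]
      _ = (d⁻¹ * b * d) * a := by group
  have key1 : ∀ s ∈ R, ∀ a ∈ J, ∀ b ∈ KK Z s, a * b = b * a := by
    intro s hs a ha b hb
    have := key s hs 1 (one_mem _) a ha b hb
    simpa using this
  intro a ha b hb
  have hbG : b ∈ GG cs h T X := X_le_GG hy hb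
  obtain ⟨k, hk⟩ := C.rgd.pgrp' hy ⟨b, hb⟩
  have hk' : b ^ p ^ k = 1 := congrArg Subtype.val hk
  have hodd : Odd (p ^ k) := (D.prime.odd_of_ne_two D.odd).pow
  have hcen : b ∈ Subgroup.centralizer {a} := by
    refine mem_of_sq_mem hodd hk' ?_
    by_cases hyR' : y ∈ R
    · -- `z b⁻¹ z b⁻¹ ∈ Z y`
      have h1 := C.z_inv_self y hyR' b⁻¹ (inv_mem hb)
      have h2 := key1 y hyR' a ha _ (Subgroup.mem_sup_left (T := Z (-y)) h1)
      have h3 := key1 y hyR' a ha _ (C.z_mem y hyR')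
      have h4 := key y hyR' b hbG a ha _ (C.z_mem y hyR')
      -- b * b = (z b⁻¹ z b⁻¹)⁻¹ * z * (b⁻¹ z b)
      have e : b * b = (z y * b⁻¹ * z y * b⁻¹)⁻¹ * z y * (b⁻¹ * z y * b) := by group
      rw [e]
      rw [Subgroup.mem_centralizer_singleton_iff]
      have c1 : Commute a (z y * b⁻¹ * z y * b⁻¹) := h2
      have c2 : Commute a (z y) := h3
      have c3 : Commute a (b⁻¹ * z y * b) := h4
      exact ((c1.inv_right.mul_right c2).mul_right c3).eq.symm
    · obtain ⟨s, hs, h0⟩ := hyR.resolve_left hyR'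
      have hys : y ≠ s := fun e => hyR' (e ▸ hs)
      have hys' : y ≠ -s := fun e => hyR' (e ▸ Nodes.Perp.neg_mem C hs)
      have h1 := C.z_inv s hs y hy hys hys' h0 b⁻¹ (inv_mem hb)
      rw [inv_inv] at h1
      have c2 : Commute a (z s) := key1 s hs a ha _ (C.z_mem s hs)
      have c3 : Commute a (b⁻¹ * z s * b) := key s hs b hbG a ha _ (C.z_mem s hs)
      have e : b * b = z s * (b⁻¹ * z s * b) := by
        calc b * b = z s * b⁻¹ * z s * b := by rw [h1]
          _ = _ := by group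
      rw [e, Subgroup.mem_centralizer_singleton_iff]
      exact (c2.mul_right c3).eq.symm
  exact (Subgroup.mem_centralizer_singleton_iff.1 hcen).symm

/-- **There is a root `b ∉ R` orthogonal to `R` with `X b` not commuting with `J`.** -/
theorem exists_bad [Finite Y] (C : Cls cs h p T n X R Z z) (B : Big F Om R Z z) (D : Dat F cs h p T X J)
    (hz : ∀ s ∈ R, ∀ d ∈ GG cs h T X, z s ∉ cj d J) :
    ∃ b, IsRoot cs h b ∧ b ∉ R ∧ (∀ s ∈ R, form cs h b s = 0) ∧ ¬ ∀ x ∈ J, ∀ y ∈ X b, x * y = y * x := by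
  by_contra hcon
  push Not at hcon
  have : Fact p.Prime := ⟨D.prime⟩
  -- all root groups commute with `J`
  have h1 : ∀ y, IsRoot cs h y → ∀ a ∈ J, ∀ b ∈ X y, a * b = b * a := by
    intro y hy
    by_cases h2 : y ∈ R ∨ ∃ s ∈ R, form cs h y s ≠ 0
    · exact X_comm C B D hz hy h2
    · push Not at h2
      exact hcon y hy h2.1 h2.2
  have h2 : G1 cs h X ≤ Subgroup.centralizer (J : Set Y) := by
    refine RGD.Sup_le fun y hy b hb => ?_
    rw [Subgroup.mem_centralizer_iff]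
    exact fun a ha => h1 y hy a ha b hb
  -- `J ∩ G1` contains a nontrivial element of `U`
  obtain ⟨x, hxJ, hxU, hx1⟩ := inf_U_ne_bot C.rgd D.le D.sub D.dvd
  have hxG : x ∈ G1 cs h X := RGD.Sup_mono (fun y hy => hy.1) hxU
  apply hx1
  obtain ⟨k, hk⟩ := C.rgd.isPGroup_Upos ⟨x, hxU⟩
  refine D.eq_one hxJ (fun y hy => ?_) (k := k) (congrArg Subtype.val hk)
  exact (Subgroup.mem_centralizer_iff.1 (h2 hxG) y hy).symm

end Cfsg.Agent.OddHalf.NI.FTwo
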