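import Cfsg.Agent.Nodes.RelFrame
import Cfsg.Agent.OddHalf.NI.FTwo.Gen

/-!
# NI (F2'): the Levi subgroup of `r⊥`

`C : Cls ..`, `GG = ⊤`, `r ∈ R`, `J ≃ SL₂(F)` commuting with `KK Z r`, subnormal in `C(z r)`, and no conjugate of a
`z s` lies in `J`:

* `levi` : `J` commutes with all `KK Z s`, `s ∈ R` orthogonal to `r`, and there is a root `b ∉ R`, orthogonal to `r` and
  to all `s ∈ R` orthogonal to `r`, such that `X b` does not commute with `J`;
* `le_T_DD`, `le_T_DD₂` : subgroups commuting with `KK Z r` (and `KK Z r'`) lie in `T ⊔ DD {r}` (`T ⊔ DD {r, r'}`).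
-/

set_option autoImplicit false
set_option linter.unusedSectionVars false
set_option linter.dupNamespace false

namespace Cfsg.Agent.OddHalf.NI.FTwo

open Cfsg
open CoxeterSystem Cfsg.Agent.ChevalleyStructure.CoxeterGeom Cfsg.Agent.Tits.Roots Cfsg.Agent.Tits.Core
  Cfsg.Agent.Tits.RootComb Cfsg.Agent.Nodes.Comb Cfsg.Agent.Nodes.Reps Cfsg.Agent.Nodes.BNOf
  Cfsg.Agent.Nodes.RGDLib Cfsg.Agent.Nodes.Chart Cfsg.Agent.Nodes.Coroot Cfsg.Agent.Nodes.FreeTorus
  Cfsg.Agent.Nodes.SubComb Cfsg.Agent.Nodes.Bruhat Cfsg.Agent.Nodes.StabComb Cfsg.Agent.Nodes.Perp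
  Cfsg.Agent.Nodes.Sub Cfsg.Agent.Nodes.ClsSub
open Cfsg.Agent.Cit (Hyp zz)
open Cfsg.Agent.Cit.TypeDet (cm cm_symm cm_iff_le_centralizer cm_mono)
open Cfsg.Agent.SignalizersComponents.Components
open scoped commutatorElement

variable {I W Y : Type*} [Fintype I] [DecidableEq I] [Group W] [Fintype W] [Group Y] {M : CoxeterMatrix I}
  {cs : CoxeterSystem M W} {A : I → I → ℤ} {h : IsCartan M A} {p : ℕ} {T : Subgroup Y} {n : I → Y}
  {X : (I → ℤ) → Subgroup Y} {R : Set (I → ℤ)} {Z : (I → ℤ) → Subgroup Y} {z : (I → ℤ) → Y}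
variable {F : Type*} [Field F] [Fintype F] {J : Subgroup Y} {Om : Set (Subgroup Y)}

/-- the hypotheses on `J` -/
structure Sit (F : Type*) [Field F] [Fintype F] (p : ℕ) (R : Set (I → ℤ)) (Z : (I → ℤ) → Subgroup Y)
    (z : (I → ℤ) → Y) (r : I → ℤ) (J : Subgroup Y) : Prop where
  prime : p.Prime
  odd : p ≠ 2
  sl : SL F J
  dvd : p ∣ Nat.card J
  mem : r ∈ R
  comm : ∀ x ∈ J, ∀ y ∈ KK Z r, x * y = y * x
  sub : (J.subgroupOf (Subgroup.centralizer {z r})).IsSubnormal
  ne : ∀ s ∈ R, ∀ d : Y, z s ∉ cj d J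

theorem levi_dom [Finite Y] (C : Cls cs h p T n X R Z z) (B : Big F Om R Z z) (hG : GG cs h T X = ⊤) {r : I → ℤ}
    (S : Sit F p R Z z r J) (hd : Dom A r) :
    (∀ s ∈ R, form cs h s r = 0 → ∀ x ∈ J, ∀ y ∈ KK Z s, x * y = y * x) ∧
      ∃ b, IsRoot cs h b ∧ b ∉ R ∧ form cs h b r = 0 ∧ (∀ s ∈ R, form cs h s r = 0 → form cs h b s = 0) ∧
        ¬ ∀ x ∈ J, ∀ y ∈ X b, x * y = y * x := by
  -- `J ≤ L_J`
  have hJL : J ≤ LJ cs h T X (orth cs h r) := by
    refine Nodes.Frame.le_LJ_of_centralizes C S.mem hd (by rw [hG]; exact le_top) (fun a ha b hb => ?_)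
      (fun a ha b hb => ?_)
    · exact S.comm a ha b (Subgroup.mem_sup_left hb)
    · exact S.comm a ha b (Subgroup.mem_sup_right hb)
  have hLz : LJ cs h T X (orth cs h r) ≤ Subgroup.centralizer {z r} := by
    intro l hl
    rw [Subgroup.mem_centralizer_singleton_iff]
    exact (Nodes.ClsNorm.z_comm_LJ C S.mem hd hl).symm
  have hsub : (J.subgroupOf (LJ cs h T X (orth cs h r))).IsSubnormal := S.sub.comap (Subgroup.inclusion hLz)
  -- the Levi chart
  set K : Set I := orth cs h r with hK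
  have : DecidablePred (· ∈ K) := Classical.decPred _
  let f : K ↪ I := Function.Embedding.subtype _
  have hfr : Set.range f = K := Subtype.range_coe
  let cs' : CoxeterSystem (leviMatrix f M) (leviMatrix f M).Group := (leviMatrix f M).toCoxeterSystem
  have hfin : Finite (leviMatrix f M).Group :=
    (levi_subSys (cs := cs) (h := h) f).finite cs' (levi_isCartan f h)
  let _ : Fintype (leviMatrix f M).Group := Fintype.ofFinite _
  have C' := cls_levi C f cs'
  set β : K → I → ℤ := fun j => sr (f j) with hβ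
  have hGG : GG cs' (levi_isCartan f h) T (fun c => X (iota β c)) = LJ cs h T X K := by
    rw [GG_levi (cs := cs) (h := h) f cs' T X, hfr]
  have hroot : ∀ x, IsRoot cs h x → form cs h x r = 0 →
      ∃ c, IsRoot cs' (levi_isCartan f h) c ∧ x = iota β c := by
    intro x hx h0
    refine (mem_RootsJ_range_iff (cs := cs) (h := h) f cs').1 ?_
    rw [hfr]
    exact (Nodes.ClsNorm.mem_RootsJ_orth_iff hd hx).2 h0
  have hroot' : ∀ c, IsRoot cs' (levi_isCartan f h) c →
      IsRoot cs h (iota β c) ∧ form cs h (iota β c) r = 0 := by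
    intro c hc
    have h3 : iota β c ∈ RootsJ cs h (Set.range f) := (mem_RootsJ_range_iff (cs := cs) (h := h) f cs').2 ⟨c, hc, rfl⟩
    rw [hfr] at h3
    exact ⟨h3.1, (Nodes.ClsNorm.mem_RootsJ_orth_iff hd h3.1).1 h3⟩
  have hform : ∀ c d, IsRoot cs' (levi_isCartan f h) d →
      (form cs h (iota β c) (iota β d) = 0 ↔ form cs' (levi_isCartan f h) c d = 0) := fun c d hd =>
    form_iota_eq_zero_iff (cs' := cs') (h' := levi_isCartan f h) (levi_subSys f) c hd
  have hKK : ∀ c, KK (fun c => Z (iota β c)) c = KK Z (iota β c) := by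
    intro c
    unfold KK
    simp only [map_neg]
  have B' : Big F Om {c | IsRoot cs' (levi_isCartan f h) c ∧ iota β c ∈ R} (fun c => Z (iota β c))
      (fun c => z (iota β c)) :=
    ⟨B.hyp, fun c hc => by rw [hKK]; exact B.mem _ hc.2, fun c hc => by rw [hKK]; exact B.sl _ hc.2,
      fun c hc => B.z_ne _ hc.2⟩
  have D' : Dat F cs' (levi_isCartan f h) p T (fun c => X (iota β c)) J :=
    ⟨S.prime, S.odd, S.sl, S.dvd, by rw [hGG]; exact hJL, by rw [hGG]; exact hsub⟩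
  constructor
  · intro s hs hsr x hx y hy
    obtain ⟨c, hc, rfl⟩ := hroot s (C.root s hs) hsr
    refine KK_comm C' B' D' (s := c) ⟨hc, hs⟩ ?_ x hx y (by rw [hKK]; exact hy)
    have := S.ne _ hs 1
    rwa [cj_one] at this
  · obtain ⟨b, hb, hbR, hbo, hbn⟩ := exists_bad C' B' D' (fun s hs d _ => S.ne _ hs.2 d)
    refine ⟨iota β b, (hroot' b hb).1, fun h0 => hbR ⟨hb, h0⟩, (hroot' b hb).2, fun s hs hsr => ?_, hbn⟩
    obtain ⟨c, hc, rfl⟩ := hroot s (C.root s hs) hsr
    rw [hform b c hc]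
    exact hbo c ⟨hc, hs⟩

theorem commute_cj {J K : Subgroup Y} (g : Y) :
    (∀ x ∈ cj g J, ∀ y ∈ cj g K, x * y = y * x) ↔ ∀ x ∈ J, ∀ y ∈ K, x * y = y * x :=
  Cfsg.Agent.Cit.TypeDet.cm_cj

theorem subnormal_cj_cent {J : Subgroup Y} {t : Y} (g : Y)
    (hs : (J.subgroupOf (Subgroup.centralizer {t})).IsSubnormal) :
    ((cj g J).subgroupOf (Subgroup.centralizer {g * t * g⁻¹})).IsSubnormal := by
  have h1 : Subgroup.centralizer {g * t * g⁻¹} = cj g (Subgroup.centralizer {t}) := (Cit.cj_centralizer g t).symm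
  rw [h1]
  let H := Subgroup.centralizer ({t} : Set Y)
  let e : H ≃* (cj g H : Subgroup Y) := H.equivMapOfInjective (MulAut.conj g).toMonoidHom (MulAut.conj g).injective
  have h1 := hs.map (f := e.toMonoidHom) e.surjective
  convert h1 using 1
  ext x
  rw [Subgroup.mem_subgroupOf, Subgroup.mem_map]
  constructor
  · intro hx
    have hx' : g⁻¹ * (x : Y) * g ∈ J := mem_cj.1 hx
    have hxH : g⁻¹ * (x : Y) * g ∈ H := mem_cj.1 x.2
    refine ⟨⟨_, hxH⟩, hx', Subtype.ext ?_⟩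
    change g * (g⁻¹ * (x : Y) * g) * g⁻¹ = x
    group
  · rintro ⟨y, hy, rfl⟩
    change g * (y : Y) * g⁻¹ ∈ cj g J
    exact conj_mem_cj.2 hy

theorem Sit.cj [Finite Y] (C : Cls cs h p T n X R Z z) {r : I → ℤ} (S : Sit F p R Z z r J) {w : W} {k : Y}
    (hk : Rp cs C.rgd.nsys w k) : Sit F p R Z z (rep cs h w r) (Nodes.Reps.cj k J) where
  prime := S.prime
  odd := S.odd
  sl := S.sl.congr (J.equivMapOfInjective (MulAut.conj k).toMonoidHom (MulAut.conj k).injective)
  dvd := by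
    have h1 : Nat.card (Nodes.Reps.cj k J) = Nat.card J :=
      Subgroup.card_map_of_injective (MulAut.conj k).injective
    rw [h1]; exact S.dvd
  mem := C.act r S.mem w
  comm := by
    rw [← Nodes.Perp.conj_KK C hk S.mem, commute_cj]
    exact S.comm
  sub := by
    rw [← Nodes.ClsNorm.conj_z C hk S.mem]
    exact subnormal_cj_cent k S.sub
  ne := by
    intro s hs d
    rw [← cj_mul]
    exact S.ne s hs _

/-- **The Levi subgroup of `r⊥`.** -/
theorem levi [Finite Y] (C : Cls cs h p T n X R Z z) (B : Big F Om R Z z) (hG : GG cs h T X = ⊤) {r : I → ℤ}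
    (S : Sit F p R Z z r J) :
    (∀ s ∈ R, form cs h s r = 0 → ∀ x ∈ J, ∀ y ∈ KK Z s, x * y = y * x) ∧
      ∃ b, IsRoot cs h b ∧ b ∉ R ∧ form cs h b r = 0 ∧ (∀ s ∈ R, form cs h s r = 0 → form cs h b s = 0) ∧
        ¬ ∀ x ∈ J, ∀ y ∈ X b, x * y = y * x := by
  obtain ⟨w, hw⟩ := Nodes.ClsNorm.exists_dominant (cs := cs) (h := h) r
  obtain ⟨k, hk⟩ := exists_rp cs C.rgd.nsys w
  obtain ⟨h1, b, hb, hbR, hbr, hbo, hbn⟩ := levi_dom C B hG (S.cj C hk) hw
  constructor
  · intro s hs hsr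
    have h2 := h1 (rep cs h w s) (C.act s hs w) (by rw [form_rep]; exact hsr)
    rw [← Nodes.Perp.conj_KK C hk hs] at h2
    exact (commute_cj k).1 h2
  · refine ⟨rep cs h w⁻¹ b, hb.act _, fun h0 => hbR ?_, ?_, fun s hs hsr => ?_, fun h0 => hbn ?_⟩
    · have := C.act _ h0 w
      rwa [rep_apply_inv] at this
    · rw [form_rep_left, inv_inv]; exact hbr
    · rw [form_rep_left, inv_inv]
      exact hbo _ (C.act s hs w) (by rw [form_rep]; exact hsr)
    · have h2 : Nodes.Reps.cj k (X (rep cs h w⁻¹ b)) = X b := by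
        rw [C.rgd.conj_rp hk (hb.act _), rep_apply_inv]
      rw [← h2]
      exact (commute_cj k).2 h0

/-! ### Subgroups commuting with classical groups -/

theorem LJ_orth_eq {r : I → ℤ} (hd : Dom A r) : LJ cs h T X (orth cs h r) = T ⊔ DD cs h X {r} := by
  unfold LJ DD
  congr 2
  ext x
  constructor
  · intro hx
    exact ⟨hx.1, fun f hf => by rw [Set.mem_singleton_iff.1 hf]; exact (Nodes.ClsNorm.mem_RootsJ_orth_iff hd hx.1).1 hx⟩
  · intro hx
    exact (Nodes.ClsNorm.mem_RootsJ_orth_iff hd hx.1).2 (hx.2 r rfl)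

theorem cj_T_DD [Finite Y] (D : RGD cs h p T n X) {w : W} {k : Y} (hk : Rp cs D.nsys w k) (E : Set (I → ℤ)) :
    cj k (T ⊔ DD cs h X E) ≤ T ⊔ DD cs h X (rep cs h w '' E) := by
  have hT : cj k T = T := mem_normalizer_iff_cj.1 hk.mem_normalizer
  rw [cj_sup, hT]
  refine sup_le_sup_left ?_ _
  intro x hx
  rw [mem_cj] at hx
  have h1 := conj_mem_Sup D hk (S := Perp cs h E) (S' := Perp cs h (rep cs h w '' E)) (fun x hx => hx.1)
    (fun y hy => ⟨hy.1.act _, by
      rintro _ ⟨e, he, rfl⟩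
      rw [form_rep]; exact hy.2 e he⟩) hx
  have h2 : k * (k⁻¹ * x * k) * k⁻¹ = x := by group
  rwa [h2] at h1

/-- A subgroup commuting with `KK Z r` lies in `T ⊔ DD {r}`. -/
theorem le_T_DD [Finite Y] (C : Cls cs h p T n X R Z z) {r : I → ℤ} (hr : r ∈ R) {K : Subgroup Y}
    (hK : K ≤ GG cs h T X) (hc : ∀ x ∈ K, ∀ y ∈ KK Z r, x * y = y * x) : K ≤ T ⊔ DD cs h X {r} := by
  obtain ⟨w, hw⟩ := Nodes.ClsNorm.exists_dominant (cs := cs) (h := h) r
  obtain ⟨k, hk⟩ := exists_rp cs C.rgd.nsys w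
  have hkG : k ∈ GG cs h T X := NN_le_GG C.rgd ⟨_, hk⟩
  have h0 : cj k K ≤ GG cs h T X := by
    rw [← cj_eq_of_mem hkG]; exact cj_mono k hK
  have h1 : ∀ x ∈ cj k K, ∀ y ∈ KK Z (rep cs h w r), x * y = y * x := by
    rw [← Nodes.Perp.conj_KK C hk hr]
    exact (commute_cj k).2 hc
  have h2 : cj k K ≤ LJ cs h T X (orth cs h (rep cs h w r)) :=
    Nodes.Frame.le_LJ_of_centralizes C (C.act r hr w) hw h0 (fun a ha b hb => h1 a ha b (Subgroup.mem_sup_left hb))
      (fun a ha b hb => h1 a ha b (Subgroup.mem_sup_right hb))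
  rw [LJ_orth_eq hw] at h2
  have h3 := cj_mono k⁻¹ h2
  rw [cj_inv_cj] at h3
  refine h3.trans ((cj_T_DD C.rgd hk.inv _).trans (sup_le_sup_left (DD_mono ?_) _))
  rintro _ rfl
  exact ⟨_, rfl, by rw [rep_inv_apply]⟩

/-- A subgroup commuting with `KK Z r` and `KK Z r'` lies in `T ⊔ DD {r, r'}`. -/
theorem le_T_DD₂ [Finite Y] (C : Cls cs h p T n X R Z z) {r r' : I → ℤ} (hr : r ∈ R) (hr' : r' ∈ R)
    (hrr : form cs h r' r = 0) {K : Subgroup Y}
    (hK : K ≤ GG cs h T X) (hc : ∀ x ∈ K, ∀ y ∈ KK Z r, x * y = y * x)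
    (hc' : ∀ x ∈ K, ∀ y ∈ KK Z r', x * y = y * x) : K ≤ T ⊔ DD cs h X {r, r'} := by
  -- the dominant case
  have key : ∀ {r r' : I → ℤ} {K : Subgroup Y}, r ∈ R → r' ∈ R → form cs h r' r = 0 → Dom A r → K ≤ GG cs h T X →
      (∀ x ∈ K, ∀ y ∈ KK Z r, x * y = y * x) → (∀ x ∈ K, ∀ y ∈ KK Z r', x * y = y * x) →
      K ≤ T ⊔ DD cs h X {r, r'} := by
    intro r r' K hr hr' hrr hd hK hc hc'
    have h2 : K ≤ LJ cs h T X (orth cs h r) :=
      Nodes.Frame.le_LJ_of_centralizes C hr hd hK (fun a ha b hb => hc a ha b (Subgroup.mem_sup_left hb))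
        (fun a ha b hb => hc a ha b (Subgroup.mem_sup_right hb))
    set K₀ : Set I := orth cs h r with hK₀
    have : DecidablePred (· ∈ K₀) := Classical.decPred _
    let f : K₀ ↪ I := Function.Embedding.subtype _
    have hfr : Set.range f = K₀ := Subtype.range_coe
    let cs' : CoxeterSystem (leviMatrix f M) (leviMatrix f M).Group := (leviMatrix f M).toCoxeterSystem
    have hfin : Finite (leviMatrix f M).Group :=
      (levi_subSys (cs := cs) (h := h) f).finite cs' (levi_isCartan f h)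
    let _ : Fintype (leviMatrix f M).Group := Fintype.ofFinite _
    have C' := cls_levi C f cs'
    set β : K₀ → I → ℤ := fun j => sr (f j) with hβ
    have hGG : GG cs' (levi_isCartan f h) T (fun c => X (iota β c)) = LJ cs h T X K₀ := by
      rw [GG_levi (cs := cs) (h := h) f cs' T X, hfr]
    have hroot : ∀ x, IsRoot cs h x → form cs h x r = 0 →
        ∃ c, IsRoot cs' (levi_isCartan f h) c ∧ x = iota β c := by
      intro x hx h0
      refine (mem_RootsJ_range_iff (cs := cs) (h := h) f cs').1 ?_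
      rw [hfr]
      exact (Nodes.ClsNorm.mem_RootsJ_orth_iff hd hx).2 h0
    have hroot' : ∀ c, IsRoot cs' (levi_isCartan f h) c →
        IsRoot cs h (iota β c) ∧ form cs h (iota β c) r = 0 := by
      intro c hc
      have h3 : iota β c ∈ RootsJ cs h (Set.range f) :=
        (mem_RootsJ_range_iff (cs := cs) (h := h) f cs').2 ⟨c, hc, rfl⟩
      rw [hfr] at h3
      exact ⟨h3.1, (Nodes.ClsNorm.mem_RootsJ_orth_iff hd h3.1).1 h3⟩
    have hform : ∀ c d, IsRoot cs' (levi_isCartan f h) d →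
        (form cs h (iota β c) (iota β d) = 0 ↔ form cs' (levi_isCartan f h) c d = 0) := fun c d hd =>
      form_iota_eq_zero_iff (cs' := cs') (h' := levi_isCartan f h) (levi_subSys f) c hd
    obtain ⟨c, hcr, hce⟩ := hroot r' (C.root r' hr') hrr
    have h3 := le_T_DD C' (r := c) ⟨hcr, by rw [← hce]; exact hr'⟩ (K := K) (by rw [hGG]; exact h2) (by
      intro x hx y hy
      refine hc' x hx y ?_
      have h4 : KK (fun c => Z (iota β c)) c = KK Z r' := by
        unfold KK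
        simp only [map_neg]
        rw [← hce]
      rw [← h4]; exact hy)
    refine h3.trans (sup_le_sup_left ?_ _)
    refine RGD.Sup_le fun x hx => RGD.le_Sup (S := Perp cs h {r, r'}) ⟨(hroot' x hx.1).1, ?_⟩
    intro e he
    rcases he with rfl | he
    · exact (hroot' x hx.1).2
    · rw [Set.mem_singleton_iff.1 he, hce, hform _ _ hcr]
      exact hx.2 c rfl
  obtain ⟨w, hw⟩ := Nodes.ClsNorm.exists_dominant (cs := cs) (h := h) r
  obtain ⟨k, hk⟩ := exists_rp cs C.rgd.nsys w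
  have hkG : k ∈ GG cs h T X := NN_le_GG C.rgd ⟨_, hk⟩
  have h0 : cj k K ≤ GG cs h T X := by
    rw [← cj_eq_of_mem hkG]; exact cj_mono k hK
  have h2 := key (C.act r hr w) (C.act r' hr' w) (by rw [form_rep]; exact hrr) hw h0
    (by rw [← Nodes.Perp.conj_KK C hk hr]; exact (commute_cj k).2 hc)
    (by rw [← Nodes.Perp.conj_KK C hk hr']; exact (commute_cj k).2 hc')
  have h3 := cj_mono k⁻¹ h2
  rw [cj_inv_cj] at h3
  refine h3.trans ((cj_T_DD C.rgd hk.inv _).trans (sup_le_sup_left (DD_mono ?_) _))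
  rintro x hx
  rcases hx with rfl | hx
  · exact ⟨_, Or.inl rfl, by rw [rep_inv_apply]⟩
  · rw [Set.mem_singleton_iff.1 hx]
    exact ⟨_, Or.inr rfl, by rw [rep_inv_apply]⟩

end Cfsg.Agent.OddHalf.NI.FTwo
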