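import Cfsg.Agent.S0276
import Cfsg.Agent.SignalizersComponents.PCompCore
import Cfsg.Agent.OddHalf.NI.FTwo.Norm

/-!
# NI (F2'): rank one groups with a component `SL₂(F)`

`R1 p B U n` : `Y = B ∪ U n B`, `U ≤ B` normal in `B`, an abelian Sylow `p`-subgroup of `Y`, `n⁻¹ u n ∈ B` only for
`u = 1`.

`R1.main` : if `J ≃ SL₂(F)`, `F` of characteristic `p`, is subnormal in `Y` then `U ≤ J`, `|U| = |F|`, `J` is normal in
`Y`, and `J` is contained in every normal subgroup containing `U`.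
-/

set_option autoImplicit false

namespace Cfsg.Agent.OddHalf.NI.FTwo

open Subgroup Cfsg
open Cfsg.Agent.Cit (cj mem_cj conj_mem_cj cj_def cj_cj_inv)
open Cfsg.Agent.SignalizersComponents.Components

section

variable {Y : Type*} [Group Y] {F : Type*} [Field F] [Fintype F] {J : Subgroup Y} {p : ℕ}

/-- a `p`-element of `J ≃ SL₂(F)` commuting with `J` is trivial -/
theorem SL.eq_one (h : SL F J) (hp : p.Prime) (hodd : p ≠ 2) {x : Y} (hx : x ∈ J) (hc : ∀ y ∈ J, x * y = y * x)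
    {k : ℕ} (hk : x ^ p ^ k = 1) : x = 1 := by
  have h1 : (⟨x, hx⟩ : J) ∈ Subgroup.center J := by
    rw [Subgroup.mem_center_iff]
    intro y
    exact Subtype.ext (hc y y.2).symm
  have h2 : x * x = 1 := by
    obtain ⟨f⟩ := h.equiv
    have h3 : f ⟨x, hx⟩ ∈ Subgroup.center (Matrix.SpecialLinearGroup (Fin 2) F) := by
      rw [Subgroup.mem_center_iff]
      intro g
      have h4 := (Subgroup.mem_center_iff.1 h1) (f.symm g)
      have h5 := congrArg f h4
      rwa [map_mul, map_mul, MulEquiv.apply_symm_apply] at h5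
    rw [Matrix.SpecialLinearGroup.mem_center_iff] at h3
    obtain ⟨a, ha, hax⟩ := h3
    have h4 : (⟨x, hx⟩ : J) * ⟨x, hx⟩ = 1 := by
      apply f.injective
      rw [map_mul, map_one]
      apply Subtype.ext
      rw [Fintype.card_fin] at ha
      change ((f ⟨x, hx⟩ : Matrix.SpecialLinearGroup (Fin 2) F) : Matrix (Fin 2) (Fin 2) F) *
        ((f ⟨x, hx⟩ : Matrix.SpecialLinearGroup (Fin 2) F) : Matrix (Fin 2) (Fin 2) F) = 1
      rw [← hax, ← map_mul, ← pow_two, ha, map_one]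
    exact congrArg Subtype.val h4
  have h5 : orderOf x ∣ 2 := orderOf_dvd_of_pow_eq_one (by rw [pow_two]; exact h2)
  have h6 : orderOf x ∣ p ^ k := orderOf_dvd_of_pow_eq_one hk
  have h7 : Nat.Coprime 2 (p ^ k) := by
    apply Nat.Coprime.pow_right
    rw [Nat.coprime_primes Nat.prime_two hp]
    exact fun e => hodd e.symm
  exact orderOf_eq_one_iff.1 (Nat.dvd_one.1 (by rw [← h7]; exact Nat.dvd_gcd h5 h6))

theorem SL.card (h : SL F J) : Nat.card J = Fintype.card F * (Fintype.card F ^ 2 - 1) := by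
  obtain ⟨f⟩ := h.equiv
  rw [Nat.card_congr f.toEquiv]
  exact Cfsg.Agent.S0276.card_sl_two rfl

theorem SL.cj (h : SL F J) (g : Y) : SL F (Cit.cj g J) :=
  h.congr (Cit.cjEquiv g J)

/-- a normal subgroup of `J ≃ SL₂(F)` which is abelian has no `p`-elements -/
theorem SL.eq_one_of_normal (h : SL F J) (hp : p.Prime) (hodd : p ≠ 2) {N : Subgroup J} (hN : N.Normal)
    (hab : ∀ x ∈ N, ∀ y ∈ N, x * y = y * x) {x : J} (hx : x ∈ N) {k : ℕ} (hk : x ^ p ^ k = 1) : x = 1 := by
  have h1 : ∀ y ∈ J, (x : Y) * y = y * x := by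
    intro y hy
    rcases quasisimple_normal h.quasisimple N hN with h2 | h2
    · exact congrArg Subtype.val (hab x hx ⟨y, hy⟩ (by rw [h2]; trivial))
    · exact (congrArg Subtype.val ((mem_center_iff.1 (h2 hx)) ⟨y, hy⟩)).symm
  have h3 := h.eq_one hp hodd x.2 h1 (k := k) (congrArg Subtype.val hk)
  exact Subtype.ext h3

theorem numeric {q u l : ℕ} (hq : 2 ≤ q) (hu : 0 < u) (hd : q ∣ u) (h : (1 + u) * l + 1 = q * q) : u = q := by
  obtain ⟨m, rfl⟩ := hd
  have hm : 0 < m := Nat.pos_of_mul_pos_left hu |> fun _ => by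
    rcases Nat.eq_zero_or_pos m with h0 | h0
    · rw [h0, mul_zero] at hu; omega
    · exact h0
  have h1 : q ∣ l + 1 := by
    have h2 : l + 1 + q * (m * l) = q * q := by rw [← h]; ring
    exact (Nat.dvd_add_left (Dvd.intro _ rfl)).1 (h2 ▸ Dvd.intro _ rfl)
  have h2 : q ≤ l + 1 := Nat.le_of_dvd (by omega) h1
  by_contra hne
  have hm2 : 2 ≤ m := by
    rcases Nat.lt_or_ge m 2 with h0 | h0
    · exfalso; apply hne
      have : m = 1 := by omega
      rw [this, mul_one]
    · exact h0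
  obtain ⟨k, rfl⟩ : ∃ k, q = k + 1 := ⟨q - 1, by omega⟩
  have h3 : k ≤ l := by omega
  have h4 : (1 + (k + 1) * 2) * k ≤ (1 + (k + 1) * m) * l :=
    Nat.mul_le_mul (by gcongr) h3
  nlinarith

end

/-- rank one groups with abelian `U` -/
structure R1 {Y : Type*} [Group Y] (p : ℕ) (B U : Subgroup Y) (nn : Y) : Prop where
  le : U ≤ B
  norm : B ≤ normalizer (U : Set Y)
  cases : ∀ g : Y, g ∈ B ∨ ∃ u ∈ U, ∃ b ∈ B, g = u * nn * b
  inj : ∀ u ∈ U, nn⁻¹ * u * nn ∈ B → u = 1
  comm : ∀ x ∈ U, ∀ y ∈ U, x * y = y * x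
  pgrp : IsPGroup p U
  ndvd : ¬ p ∣ U.index

namespace R1

variable {Y : Type*} [Group Y] {p : ℕ} {B U : Subgroup Y} {nn : Y}

/-- `U` is a TI subgroup, `N(U) = B` -/
theorem ti (H : R1 p B U nn) {g x : Y} (hx : x ∈ U) (hx1 : x ≠ 1) (hg : g * x * g⁻¹ ∈ U) : g ∈ B := by
  rcases H.cases g with h1 | ⟨u, hu, b, hb, rfl⟩
  · exact h1
  · exfalso
    have h2 : b * x * b⁻¹ ∈ U := (mem_normalizer_iff.1 (H.norm hb) x).1 hx
    have h3 : nn * (b * x * b⁻¹) * nn⁻¹ ∈ U := by
      have : nn * (b * x * b⁻¹) * nn⁻¹ = u⁻¹ * (u * nn * b * x * (u * nn * b)⁻¹) * u := by group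
      rw [this]
      exact mul_mem (mul_mem (inv_mem hu) hg) hu
    have h4 := H.inj _ h3 (by
      have : nn⁻¹ * (nn * (b * x * b⁻¹) * nn⁻¹) * nn = b * x * b⁻¹ := by group
      rw [this]
      exact H.le h2)
    apply hx1
    have : x = b⁻¹ * nn⁻¹ * (nn * (b * x * b⁻¹) * nn⁻¹) * nn * b := by group
    rw [this, h4]; group

theorem card_quotient [Finite Y] (H : R1 p B U nn) (hU : U ≠ ⊥) : B.index = 1 + Nat.card U := by
  have hn : nn ∉ B := by
    intro hn
    apply hU
    rw [eq_bot_iff_forall]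
    exact fun x hx => H.inj x hx (mul_mem (mul_mem (inv_mem hn) (H.le hx)) hn)
  have e : Option U ≃ Y ⧸ B := by
    refine Equiv.ofBijective (fun o => o.elim (QuotientGroup.mk 1) fun u => QuotientGroup.mk (u * nn)) ⟨?_, ?_⟩
    · intro a b hab
      rcases a with _ | u <;> rcases b with _ | v
      · rfl
      · exfalso
        have h1 := QuotientGroup.eq.1 (show (QuotientGroup.mk (1 : Y) : Y ⧸ B) = QuotientGroup.mk (v * nn) from hab)
        rw [inv_one, one_mul] at h1
        apply hn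
        have : nn = (v : Y)⁻¹ * (v * nn) := by group
        rw [this]
        exact mul_mem (inv_mem (H.le v.2)) h1
      · exfalso
        have h1 := QuotientGroup.eq.1 (show (QuotientGroup.mk (u * nn : Y) : Y ⧸ B) = QuotientGroup.mk 1 from hab)
        rw [mul_one] at h1
        apply hn
        have : nn = (u : Y)⁻¹ * (u * nn)⁻¹⁻¹ := by group
        rw [this]
        exact mul_mem (inv_mem (H.le u.2)) (inv_mem h1)
      · have h1 := QuotientGroup.eq.1
          (show (QuotientGroup.mk (u * nn : Y) : Y ⧸ B) = QuotientGroup.mk (v * nn) from hab)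
        have h2 : nn⁻¹ * ((u : Y)⁻¹ * v) * nn ∈ B := by
          have : nn⁻¹ * ((u : Y)⁻¹ * v) * nn = (u * nn : Y)⁻¹ * (v * nn) := by group
          rw [this]; exact h1
        have h3 := H.inj _ (mul_mem (inv_mem u.2) v.2) h2
        have h4 : (u : Y) = v := inv_mul_eq_one.1 h3
        rw [Subtype.ext h4]
    · intro x
      obtain ⟨g, rfl⟩ := QuotientGroup.mk_surjective x
      rcases H.cases g with h1 | ⟨u, hu, b, hb, rfl⟩
      · exact ⟨none, QuotientGroup.eq.2 (by rw [inv_one, one_mul]; exact h1)⟩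
      · refine ⟨some ⟨u, hu⟩, QuotientGroup.eq.2 ?_⟩
        have : ((u : Y) * nn)⁻¹ * (u * nn * b) = b := by group
        change ((u : Y) * nn)⁻¹ * (u * nn * b) ∈ B
        rw [this]; exact hb
  rw [Subgroup.index, ← Nat.card_congr e, Finite.card_option, add_comm]

variable {F : Type*} [Field F] [Fintype F] {J : Subgroup Y}

/-- a subnormal subgroup of order divisible by `p` meets `U` -/
theorem exists_mem [Finite Y] (H : R1 p B U nn) (hs : J.IsSubnormal) (hp : p ∣ Nat.card J) : ∃ x ∈ J, x ∈ U ∧ x ≠ 1 := by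
  by_contra hcon
  push Not at hcon
  apply H.ndvd
  refine dvd_trans ?_ (SignalizersComponents.PCompCore.relIndex_dvd_index_of_subnormal U hs)
  rw [← Subgroup.inf_relIndex_right]
  have h1 : U ⊓ J = ⊥ := by
    rw [Subgroup.eq_bot_iff_forall]
    exact fun x hx => hcon x hx.2 hx.1
  rw [h1, Subgroup.relIndex_bot_left]
  exact hp

theorem pow_eq_one (H : R1 p B U nn) {x : Y} (hx : x ∈ U) : ∃ k : ℕ, x ^ p ^ k = 1 := by
  obtain ⟨k, hk⟩ := H.pgrp ⟨x, hx⟩
  exact ⟨k, congrArg Subtype.val hk⟩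

theorem not_le_B [Finite Y] (H : R1 p B U nn) (hp : p.Prime) (hodd : p ≠ 2) (hJ : SL F J) (hs : J.IsSubnormal)
    (hd : p ∣ Nat.card J) : ¬ J ≤ B := by
  intro hJB
  obtain ⟨x, hxJ, hxU, hx1⟩ := H.exists_mem hs hd
  apply hx1
  have hN : (U.subgroupOf J).Normal := by
    refine ⟨fun y hy g => ?_⟩
    rw [mem_subgroupOf] at hy ⊢
    exact (mem_normalizer_iff.1 (H.norm (hJB g.2)) y).1 hy
  obtain ⟨k, hk⟩ := H.pow_eq_one hxU
  have h1 := hJ.eq_one_of_normal hp hodd hN (fun a ha b hb => Subtype.ext (H.comm a ha b hb))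
    (x := ⟨x, hxJ⟩) hxU (k := k) (Subtype.ext hk)
  exact congrArg Subtype.val h1

theorem normal [Finite Y] (H : R1 p B U nn) (hp : p.Prime) (hodd : p ≠ 2) (hJ : SL F J) (hs : J.IsSubnormal)
    (hd : p ∣ Nat.card J) : J.Normal := by
  have key : ∀ g : Y, Cit.cj g J = J := by
    intro g
    by_contra hne
    have h1 : IsComponent J := ⟨hs, hJ.quasisimple⟩
    have hs' : (Cit.cj g J).IsSubnormal := hs.map (MulAut.conj g).surjective
    have hd' : p ∣ Nat.card (Cit.cj g J) := by rw [Cit.card_cj]; exact hd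
    have h2 : IsComponent (Cit.cj g J) := ⟨hs', (hJ.cj g).quasisimple⟩
    have h3 := component_le_centralizer_of_ne h1 h2 (Ne.symm hne)
    obtain ⟨x, hxJ, hxU, hx1⟩ := H.exists_mem hs hd
    apply H.not_le_B hp hodd (hJ.cj g) hs' hd'
    intro y hy
    refine H.ti hxU hx1 ?_
    have h4 := mem_centralizer_iff.1 (h3 hxJ) y hy
    have : y * x * y⁻¹ = x := by rw [h4]; group
    rw [this]; exact hxU
  refine ⟨fun x hx g => ?_⟩
  rw [← key g]
  exact conj_mem_cj hx

/-- **The main result.** -/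
theorem main [Finite Y] (H : R1 p B U nn) (hp : p.Prime) (hodd : p ≠ 2) [CharP F p] (hJ : SL F J)
    (hs : J.IsSubnormal) : U ≤ J ∧ Nat.card U = Fintype.card F ∧ J.Normal ∧
      ∀ K : Subgroup Y, K.Normal → U ≤ K → J ≤ K := by
  classical
  have : Fact p.Prime := ⟨hp⟩
  set q := Fintype.card F with hq
  obtain ⟨⟨k, hk0⟩, -, hk⟩ := FiniteField.card F p
  simp only [PNat.mk_coe] at hk
  rw [← hq] at hk
  have hq2 : 2 ≤ q := by have := hJ.three; omega
  have hcJ : Nat.card J = q * (q ^ 2 - 1) := hJ.card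
  have hd : p ∣ Nat.card J := by
    rw [hcJ, hk]
    exact Dvd.dvd.mul_right (dvd_pow_self p (by omega)) _
  have hn := H.normal hp hodd hJ hs hd
  -- `|J ∩ U| = q`
  have hcop : Nat.Coprime p (q ^ 2 - 1) := by
    rw [Nat.Prime.coprime_iff_not_dvd hp]
    intro h1
    have h2 : p ∣ q ^ 2 := by
      rw [hk, ← pow_mul]; exact dvd_pow_self p (by omega)
    have h3 : 1 ≤ q ^ 2 := Nat.one_le_pow _ _ (by omega)
    have h4 : p ∣ q ^ 2 - (q ^ 2 - 1) := Nat.dvd_sub h2 h1
    have h5 : q ^ 2 - (q ^ 2 - 1) = 1 := by omega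
    rw [h5] at h4
    exact hp.one_lt.ne' (Nat.dvd_one.1 h4)
  have hndvd : ¬ p ∣ U.relIndex J := fun h1 => H.ndvd (dvd_trans h1
    (SignalizersComponents.PCompCore.relIndex_dvd_index_of_subnormal U hs))
  have hmul : Nat.card (U ⊓ J : Subgroup Y) * U.relIndex J = q * (q ^ 2 - 1) := by
    rw [← hcJ, ← Subgroup.inf_relIndex_right]
    have h1 : Nat.card ((U ⊓ J).subgroupOf J) = Nat.card (U ⊓ J : Subgroup Y) :=
      Nat.card_congr (subgroupOfEquivOfLe inf_le_right).toEquiv
    rw [← h1, Subgroup.relIndex]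
    exact Subgroup.card_mul_index _
  have hPU : IsPGroup p (U ⊓ J : Subgroup Y) := H.pgrp.to_le inf_le_left
  obtain ⟨j, hj⟩ := IsPGroup.iff_card.1 hPU
  have hP : Nat.card (U ⊓ J : Subgroup Y) = q := by
    apply Nat.dvd_antisymm
    · have h1 : Nat.card (U ⊓ J : Subgroup Y) ∣ q * (q ^ 2 - 1) := Dvd.intro _ hmul
      rw [hj] at h1 ⊢
      exact (Nat.Coprime.pow_left j hcop).dvd_of_dvd_mul_right h1
    · have h1 : q ∣ Nat.card (U ⊓ J : Subgroup Y) * U.relIndex J := by rw [hmul]; exact Dvd.intro _ rfl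
      have h2 : Nat.Coprime q (U.relIndex J) := by
        rw [hk]
        exact Nat.Coprime.pow_left _ ((Nat.Prime.coprime_iff_not_dvd hp).2 hndvd)
      exact h2.dvd_of_dvd_mul_right h1
  -- `Y = J B`
  obtain ⟨g, hgJ, hgB⟩ : ∃ g ∈ J, g ∉ B := by
    by_contra hcon
    push Not at hcon
    exact H.not_le_B hp hodd hJ hs hd hcon
  have hnn : nn ∈ J ⊔ B := by
    rcases H.cases g with h1 | ⟨u, hu, b, hb, rfl⟩
    · exact absurd h1 hgB
    · have : nn = u⁻¹ * (u * nn * b) * b⁻¹ := by group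
      rw [this]
      exact mul_mem (mul_mem (inv_mem (mem_sup_right (H.le hu))) (mem_sup_left hgJ)) (inv_mem (mem_sup_right hb))
  have htop : J ⊔ B = ⊤ := by
    rw [eq_top_iff]
    intro y _
    rcases H.cases y with h1 | ⟨u, hu, b, hb, rfl⟩
    · exact mem_sup_right h1
    · exact mul_mem (mul_mem (mem_sup_right (H.le hu)) hnn) (mem_sup_right hb)
  -- the index
  have hU : U ≠ ⊥ := by
    intro h1
    rw [h1, bot_inf_eq, Subgroup.card_bot] at hP
    omega
  have hindex : B.index * Nat.card (J ⊓ B : Subgroup Y) = Nat.card J := by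
    have h1 : J.relIndex (B ⊔ J) = J.relIndex B := Subgroup.relIndex_sup_right B J
    rw [sup_comm, htop, Subgroup.relIndex_top_right] at h1
    have h2 : Nat.card J * J.index = Nat.card Y := Subgroup.card_mul_index J
    have h3 : Nat.card B * B.index = Nat.card Y := Subgroup.card_mul_index B
    have h4 : Nat.card (J ⊓ B : Subgroup Y) * J.relIndex B = Nat.card B := by
      rw [← Subgroup.inf_relIndex_right]
      have h5 : Nat.card ((J ⊓ B).subgroupOf B) = Nat.card (J ⊓ B : Subgroup Y) :=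
        Nat.card_congr (subgroupOfEquivOfLe inf_le_right).toEquiv
      rw [← h5, Subgroup.relIndex]
      exact Subgroup.card_mul_index _
    have h5 : 0 < J.relIndex B := Nat.pos_of_ne_zero (Subgroup.index_ne_zero_of_finite (H := J.subgroupOf B))
    rw [h1] at h2
    have h6 : (B.index * Nat.card (J ⊓ B : Subgroup Y)) * J.relIndex B = Nat.card J * J.relIndex B := by
      rw [h2, ← h3, ← h4]; ring
    exact Nat.eq_of_mul_eq_mul_right h5 h6
  rw [H.card_quotient hU, hcJ] at hindex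
  -- `q ∣ |J ∩ B|`
  have hdB : q ∣ Nat.card (J ⊓ B : Subgroup Y) := by
    rw [← hP]
    exact Subgroup.card_dvd_of_le (le_inf inf_le_right (inf_le_left.trans H.le))
  obtain ⟨l, hl⟩ := hdB
  have hdU : q ∣ Nat.card U := by
    rw [← hP]
    exact Subgroup.card_dvd_of_le inf_le_left
  have hnum : (1 + Nat.card U) * l + 1 = q * q := by
    rw [hl] at hindex
    have h1 : q * ((1 + Nat.card U) * l) = q * (q ^ 2 - 1) := by rw [← hindex]; ring
    have h2 := Nat.eq_of_mul_eq_mul_left (by omega) h1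
    have h3 : 1 ≤ q ^ 2 := Nat.one_le_pow _ _ (by omega)
    rw [h2]
    have : q ^ 2 = q * q := by ring
    omega
  have hcU : Nat.card U = q := numeric hq2 Nat.card_pos hdU hnum
  have hUJ : U ≤ J := by
    have h1 : U ⊓ J = U := Subgroup.eq_of_le_of_card_ge inf_le_left (by rw [hP, hcU])
    rw [← h1]; exact inf_le_right
  refine ⟨hUJ, hcU, hn, fun K hK hUK => ?_⟩
  have hN : (K.subgroupOf J).Normal := hK.subgroupOf J
  rcases quasisimple_normal hJ.quasisimple _ hN with h1 | h1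
  · exact subgroupOf_eq_top.1 h1
  · exfalso
    obtain ⟨x, hxJ, hxU, hx1⟩ := H.exists_mem hs hd
    obtain ⟨m, hm⟩ := H.pow_eq_one hxU
    apply hx1
    refine hJ.eq_one hp hodd hxJ (fun y hy => ?_) (k := m) hm
    exact (congrArg Subtype.val ((mem_center_iff.1 (h1 (show (⟨x, hxJ⟩ : J) ∈ K.subgroupOf J from hUK hxU))) ⟨y, hy⟩)).symm

end R1

end Cfsg.Agent.OddHalf.NI.FTwo
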