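import Cfsg.Agent.OddHalf.NI.FTwo.Gen
import Cfsg.Agent.OddHalf.NI.FTwo.RankOne

/-!
# NI (F2'): Levi subgroups of rank one

* `not_dvd_index_UJ` : `U_J` has index prime to `p` in the Levi subgroup `L_J`;
* `r1` : `L_{i}` is a rank one group in the sense of `R1` if `X α_i` is abelian;
* `eq_LL_sr`, `eq_LL` : a component `J ≃ SL₂(F)` of `T ⟨X b, X (-b)⟩`, `X b` abelian, is `⟨X b, X (-b)⟩`.
-/

set_option autoImplicit false
set_option linter.unusedSectionVars false
set_option linter.dupNamespace false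

namespace Cfsg.Agent.OddHalf.NI.FTwo

open Cfsg
open CoxeterSystem Cfsg.Agent.ChevalleyStructure.CoxeterGeom Cfsg.Agent.Tits.Roots Cfsg.Agent.Tits.Core
  Cfsg.Agent.Tits.RootComb Cfsg.Agent.Nodes.Comb Cfsg.Agent.Nodes.Reps Cfsg.Agent.Nodes.BNOf
  Cfsg.Agent.Nodes.RGDLib Cfsg.Agent.Nodes.Chart Cfsg.Agent.Nodes.Coroot Cfsg.Agent.Nodes.FreeTorus
  Cfsg.Agent.Nodes.SubComb Cfsg.Agent.Nodes.Bruhat Cfsg.Agent.Nodes.StabComb Cfsg.Agent.Nodes.Perp
  Cfsg.Agent.Nodes.Sub Cfsg.Agent.Nodes.ClsSub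
open Cfsg.Agent.SignalizersComponents.Components
open scoped commutatorElement

variable {I W Y : Type*} [Fintype I] [DecidableEq I] [Group W] [Fintype W] [Group Y] {M : CoxeterMatrix I}
  {cs : CoxeterSystem M W} {A : I → I → ℤ} {h : IsCartan M A} {p : ℕ} {T : Subgroup Y} {n : I → Y}
  {X : (I → ℤ) → Subgroup Y}

/-- `U_J` has index prime to `p` in `L_J`. -/
theorem not_dvd_index_UJ [Finite Y] [Fact p.Prime] (D : RGD cs h p T n X) (J : Set I) :
    ¬ p ∣ ((UJ cs h X J).subgroupOf (LJ cs h T X J)).index := by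
  have : DecidablePred (· ∈ J) := Classical.decPred _
  let f : J ↪ I := Function.Embedding.subtype _
  have hfr : Set.range f = J := Subtype.range_coe
  let cs' : CoxeterSystem (leviMatrix f M) (leviMatrix f M).Group := (leviMatrix f M).toCoxeterSystem
  have hfin : Finite (leviMatrix f M).Group :=
    (levi_subSys (cs := cs) (h := h) f).finite cs' (levi_isCartan f h)
  let _ : Fintype (leviMatrix f M).Group := Fintype.ofFinite _
  have h1 := not_dvd_index_U (rgd_levi D f cs')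
  rw [GG_levi (cs := cs) (h := h) f cs' T X, hfr] at h1
  have h2 : RGD.Sup (fun c => X (iota (fun j => sr (f j)) c)) (RGD.Pos cs' (levi_isCartan f h)) = UJ cs h X J := by
    symm
    refine Sup_eq_of_forall (fun x hx => ?_) (fun c hc => ?_)
    · obtain ⟨c, hc, e⟩ := (mem_RootsJ_range_iff (cs := cs) (h := h) f cs').1
        (show x ∈ RootsJ cs h (Set.range f) by rw [hfr]; exact PosJ_subset J hx)
      refine ⟨c, ⟨hc, fun j => ?_⟩, by rw [e]⟩
      have := hx.2.1 (f j)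
      rw [e, iota_levi_apply] at this
      exact this
    · refine ⟨iota (fun j => sr (f j)) c, ⟨(levi_subSys f).isRoot_iota hc.1, fun k => ?_, fun k hk => ?_⟩, rfl⟩
      · by_cases hk : ∃ j, f j = k
        · obtain ⟨j, rfl⟩ := hk
          rw [iota_levi_apply]
          exact hc.2 j
        · push Not at hk
          rw [iota_levi_apply_ne f c hk]; rfl
      · exact iota_levi_apply_ne f c fun j hj => hk (hj ▸ j.2)
  rw [h2] at h1
  exact h1

theorem X_le_LJ_singleton (i : I) : X (sr i) ≤ LJ cs h T X {i} :=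
  X_le_LJ (PosJ_subset _ (sr_mem_PosJ (Set.mem_singleton i)))

theorem mem_WJ_singleton {i : I} {w : W} (hw : w ∈ WJ cs {i}) : w = 1 ∨ w = cs.simple i := by
  obtain ⟨ω, hω, rfl⟩ := Tits.Exchange.exists_word_of_mem_WJ cs hw
  clear hw
  induction ω with
  | nil => left; rw [wordProd_nil]
  | cons j ω ih =>
    have hj : j = i := hω j (by simp)
    subst hj
    rw [wordProd_cons]
    rcases ih (fun k hk => hω k (by simp [hk])) with h1 | h1
    · right; rw [h1, mul_one]
    · left; rw [h1, cs.simple_mul_simple_self]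

theorem PosJ_singleton (i : I) : PosJ cs h {i} = {sr i} := by
  ext x
  rw [Set.mem_singleton_iff]
  constructor
  · intro hx
    by_contra hne
    obtain ⟨k, hk, h1⟩ := exists_coeff hx.1 hx.2.1 hne
    have := hx.2.2 k hk
    omega
  · rintro rfl
    exact sr_mem_PosJ rfl

theorem UJ_singleton (i : I) : UJ cs h X {i} = X (sr i) := by
  unfold UJ
  rw [PosJ_singleton]
  apply le_antisymm
  · exact RGD.Sup_le fun x hx => by rw [Set.mem_singleton_iff.1 hx]
  · exact RGD.le_Sup rfl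

theorem LJ_singleton (i : I) : LJ cs h T X {i} = T ⊔ LL X (sr i) := by
  unfold LJ
  apply le_antisymm
  · refine sup_le_sup_left (RGD.Sup_le fun x hx => ?_) _
    rcases hx.1.pos_or_neg with h0 | h0
    · have : x ∈ PosJ cs h {i} := ⟨hx.1, h0, hx.2⟩
      rw [PosJ_singleton, Set.mem_singleton_iff] at this
      rw [this]; exact le_sup_left
    · have h1 := RootsJ.neg hx
      have : -x ∈ PosJ cs h {i} := ⟨h1.1, neg_nonneg.2 h0, h1.2⟩
      rw [PosJ_singleton, Set.mem_singleton_iff] at this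
      have h2 : x = -sr i := by rw [← this, neg_neg]
      rw [h2]; exact le_sup_right
  · refine sup_le_sup_left (sup_le (RGD.le_Sup ?_) (RGD.le_Sup ?_)) _
    · exact PosJ_subset _ (sr_mem_PosJ rfl)
    · exact RootsJ.neg (PosJ_subset _ (sr_mem_PosJ rfl))

theorem BJ_singleton (i : I) : BJ cs h T X {i} = T ⊔ X (sr i) := by
  unfold BJ
  rw [UJ_singleton]

theorem mem_BJ_singleton (D : RGD cs h p T n X) {i : I} {g : Y} (hg : g ∈ BJ cs h T X {i}) :
    ∃ u ∈ X (sr i), ∃ t ∈ T, g = u * t := by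
  rw [BJ_singleton] at hg
  have h1 : T ≤ Subgroup.normalizer (X (sr i) : Set Y) := fun t ht =>
    mem_normalizer_iff_cj.2 (D.tor _ (isRoot_sr cs h i) t ht)
  rw [sup_comm] at hg
  have h2 : g ∈ ((X (sr i) ⊔ T : Subgroup Y) : Set Y) := hg
  rw [Subgroup.coe_mul_of_right_le_normalizer_left _ _ h1, Set.mem_mul] at h2
  obtain ⟨u, hu, t, ht, e⟩ := h2
  exact ⟨u, hu, t, ht, e.symm⟩

theorem BJ_le_normalizer_X (D : RGD cs h p T n X) (i : I) :
    BJ cs h T X {i} ≤ Subgroup.normalizer (X (sr i) : Set Y) := by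
  rw [BJ_singleton]
  exact sup_le (fun t ht => mem_normalizer_iff_cj.2 (D.tor _ (isRoot_sr cs h i) t ht)) Subgroup.le_normalizer

/-- `L_i` is a rank one group. -/
theorem r1 [Finite Y] [Fact p.Prime] (D : RGD cs h p T n X) (i : I)
    (hab : ∀ x ∈ X (sr i), ∀ y ∈ X (sr i), x * y = y * x) :
    R1 p ((BJ cs h T X {i}).subgroupOf (LJ cs h T X {i})) ((X (sr i)).subgroupOf (LJ cs h T X {i}))
      ⟨n i, n_mem_LJ D (Set.mem_singleton i)⟩ where
  le := fun x hx => X_le_BJ (sr_mem_PosJ (cs := cs) (h := h) (Set.mem_singleton i)) hx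
  norm := by
    intro b hb
    rw [Subgroup.mem_normalizer_iff]
    intro x
    rw [Subgroup.mem_subgroupOf, Subgroup.mem_subgroupOf]
    exact (Subgroup.mem_normalizer_iff.1 (BJ_le_normalizer_X D i hb)) x
  cases := by
    rintro ⟨g, hg⟩
    obtain ⟨w, hw, b₁, hb₁, k, hk, b₂, hb₂, e⟩ := exists_cellJ D hg
    rcases mem_WJ_singleton hw with rfl | rfl
    · left
      have hg' : g ∈ BJ cs h T X {i} := by
        rw [e]
        exact mul_mem (mul_mem hb₁ (T_le_BJ hk.mem_of_one)) hb₂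
      exact hg'
    · right
      obtain ⟨u, hu, t, ht, e₁⟩ := mem_BJ_singleton D hb₁
      have huL : u ∈ LJ cs h T X {i} := X_le_LJ_singleton i hu
      -- `t k = n i t'`
      have h1 : Rp cs D.nsys (cs.simple i) (t * k) := by
        have := (rp_of_mem (cs := cs) (hN := D.nsys) ht).mul hk
        rwa [one_mul] at this
      have h2 : (n i)⁻¹ * (t * k) ∈ T := (rp_simple cs D.nsys i).unique h1
      have hb : (n i)⁻¹ * (t * k) * b₂ ∈ BJ cs h T X {i} := mul_mem (T_le_BJ h2) hb₂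
      refine ⟨⟨u, huL⟩, hu, ⟨(n i)⁻¹ * (t * k) * b₂, BJ_le_LJ hb⟩, hb, Subtype.ext ?_⟩
      change g = u * n i * ((n i)⁻¹ * (t * k) * b₂)
      rw [e, e₁]; group
  inj := by
    rintro ⟨u, huL⟩ hu hB
    have hk : Rp cs D.nsys (cs.simple i) (n i)⁻¹ := by
      have := (rp_simple cs D.nsys i).inv
      rwa [cs.inv_simple] at this
    have hB' : (n i)⁻¹ * u * (n i)⁻¹⁻¹ ∈ RGD.B cs h T X := by
      rw [inv_inv]
      exact BJ_le_B (cs := cs) (h := h) (T := T) (X := X) {i} hB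
    have hu' : u ∈ X (sr i) := hu
    have h1 : u = 1 := eq_one_of_conj_mem_B D hu' hk hB'
    exact Subtype.ext h1
  comm := fun x hx y hy => Subtype.ext (hab x hx y hy)
  pgrp := (D.pgrp i).comap_subtype
  ndvd := by
    have h1 := not_dvd_index_UJ D {i}
    rwa [UJ_singleton] at h1

variable {F : Type*} [Field F] [Fintype F] {J : Subgroup Y}

/-- A component `SL₂(F)` of a Levi subgroup of rank one. -/
theorem eq_LL_sr [Finite Y] (D : RGD cs h p T n X) (hp : p.Prime) (hodd : p ≠ 2) [CharP F p] (hJ : SL F J) {i : I}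
    (hab : ∀ x ∈ X (sr i), ∀ y ∈ X (sr i), x * y = y * x) (hle : J ≤ T ⊔ LL X (sr i))
    (hs : (J.subgroupOf (T ⊔ LL X (sr i))).IsSubnormal) :
    J = LL X (sr i) ∧ Nat.card (X (sr i)) = Fintype.card F := by
  have : Fact p.Prime := ⟨hp⟩
  rw [← LJ_singleton (cs := cs) (h := h)] at hle hs
  have hsl : SL F (J.subgroupOf (LJ cs h T X {i})) := hJ.congr (Subgroup.subgroupOfEquivOfLe hle).symm
  obtain ⟨h1, h2, h3, h4⟩ := (r1 D i hab).main hp hodd hsl hs
  have hXL : X (sr i) ≤ LJ cs h T X {i} := X_le_LJ_singleton i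
  have hXJ : X (sr i) ≤ J := fun x hx => h1 (show (⟨x, hXL hx⟩ : LJ cs h T X {i}) ∈ (X (sr i)).subgroupOf _ from hx)
  have hn : n i ∈ LJ cs h T X {i} := n_mem_LJ D (Set.mem_singleton i)
  have hXJ' : X (-sr i) ≤ J := by
    have h5 : X (-sr i) = cj (n i) (X (sr i)) := by
      rw [D.conj i _ (isRoot_sr cs h i), rep_simple_sr]
    rw [h5]
    intro x hx
    rw [mem_cj] at hx
    have h6 := h3.conj_mem ⟨(n i)⁻¹ * x * n i, hXL hx⟩ (hXJ hx) ⟨n i, hn⟩
    have h7 : (n i) * ((n i)⁻¹ * x * n i) * (n i)⁻¹ ∈ J := h6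
    have h8 : (n i) * ((n i)⁻¹ * x * n i) * (n i)⁻¹ = x := by group
    rwa [h8] at h7
  have hLJ : LL X (sr i) ≤ J := sup_le hXJ hXJ'
  refine ⟨le_antisymm ?_ hLJ, ?_⟩
  · -- `LL` is normal in `L`
    have hLLe : LL X (sr i) ≤ LJ cs h T X {i} := hLJ.trans hle
    have hN : ((LL X (sr i)).subgroupOf (LJ cs h T X {i})).Normal := by
      rw [Subgroup.normal_subgroupOf_iff_le_normalizer hLLe, LJ_singleton]
      refine sup_le ?_ Subgroup.le_normalizer
      intro t ht
      rw [mem_normalizer_iff_cj]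
      unfold LL
      rw [cj_sup, D.tor _ (isRoot_sr cs h i) t ht, D.tor _ (isRoot_sr cs h i).neg t ht]
    have h5 := h4 _ hN (fun x hx => (le_sup_left : X (sr i) ≤ LL X (sr i)) hx)
    intro x hx
    exact h5 (show (⟨x, hle hx⟩ : LJ cs h T X {i}) ∈ J.subgroupOf _ from hx)
  · rw [← h2]
    exact (Nat.card_congr (Subgroup.subgroupOfEquivOfLe hXL).toEquiv).symm

theorem cj_LL {w : W} {g : Y} (D : RGD cs h p T n X) (hg : Rp cs D.nsys w g) {b : I → ℤ} (hb : IsRoot cs h b) :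
    cj g (LL X b) = LL X (rep cs h w b) := by
  unfold LL
  rw [cj_sup, D.conj_rp hg hb, D.conj_rp hg hb.neg, map_neg]

theorem cj_T {w : W} {g : Y} (D : RGD cs h p T n X) (hg : Rp cs D.nsys w g) : cj g T = T :=
  mem_normalizer_iff_cj.1 hg.mem_normalizer

theorem subnormal_cj' {G : Type*} [Group G] {H J : Subgroup G} {g : G} (hs : (J.subgroupOf H).IsSubnormal) :
    ((cj g J).subgroupOf (cj g H)).IsSubnormal := by
  let e : H ≃* (cj g H : Subgroup G) := H.equivMapOfInjective (MulAut.conj g).toMonoidHom (MulAut.conj g).injective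
  have h1 := hs.map (f := e.toMonoidHom) e.surjective
  convert h1 using 1
  ext x
  rw [Subgroup.mem_subgroupOf, Subgroup.mem_map]
  constructor
  · intro hx
    have hx' : g⁻¹ * (x : G) * g ∈ J := mem_cj.1 hx
    have hxH : g⁻¹ * (x : G) * g ∈ H := mem_cj.1 x.2
    refine ⟨⟨_, hxH⟩, hx', Subtype.ext ?_⟩
    change g * (g⁻¹ * (x : G) * g) * g⁻¹ = x
    group
  · rintro ⟨y, hy, rfl⟩
    change g * (y : G) * g⁻¹ ∈ cj g J
    exact conj_mem_cj.2 hy

/-- **A component `SL₂(F)` of `T ⟨X b, X (-b)⟩`.** -/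
theorem eq_LL [Finite Y] (D : RGD cs h p T n X) (hp : p.Prime) (hodd : p ≠ 2) [CharP F p] (hJ : SL F J)
    {b : I → ℤ} (hb : IsRoot cs h b) (hab : ∀ x ∈ X b, ∀ y ∈ X b, x * y = y * x) (hle : J ≤ T ⊔ LL X b)
    (hs : (J.subgroupOf (T ⊔ LL X b)).IsSubnormal) :
    J = LL X b ∧ Nat.card (X b) = Fintype.card F := by
  obtain ⟨w, i, rfl⟩ := hb
  obtain ⟨k, hk⟩ := exists_rp cs D.nsys w⁻¹
  have hX : cj k (X (rep cs h w (sr i))) = X (sr i) := by
    rw [D.conj_rp hk ⟨w, i, rfl⟩, rep_inv_apply]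
  have hTL : cj k (T ⊔ LL X (rep cs h w (sr i))) = T ⊔ LL X (sr i) := by
    rw [cj_sup, cj_T D hk, cj_LL D hk ⟨w, i, rfl⟩, rep_inv_apply]
  have h1 := eq_LL_sr D hp hodd (J := cj k J) (hJ.cj k) (i := i) ?_ ?_ ?_
  · obtain ⟨h2, h3⟩ := h1
    constructor
    · have h4 := congrArg (cj k⁻¹) h2
      rw [cj_inv_cj] at h4
      rw [h4]
      have h5 : cj k (LL X (rep cs h w (sr i))) = LL X (sr i) := by
        rw [cj_LL D hk ⟨w, i, rfl⟩, rep_inv_apply]
      rw [← h5, cj_inv_cj]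
    · rw [← h3, ← hX]
      exact (Subgroup.card_map_of_injective (MulAut.conj k).injective).symm
  · intro x hx y hy
    rw [← hX, mem_cj] at hx hy
    have h2 := hab _ hx _ hy
    calc x * y = k * ((k⁻¹ * x * k) * (k⁻¹ * y * k)) * k⁻¹ := by group
      _ = k * ((k⁻¹ * y * k) * (k⁻¹ * x * k)) * k⁻¹ := by rw [h2]
      _ = y * x := by group
  · rw [← hTL]; exact cj_mono k hle
  · rw [← hTL]; exact subnormal_cj' hs

end Cfsg.Agent.OddHalf.NI.FTwo
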