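import Cfsg.Agent.Nodes.Perp
import Cfsg.Agent.OddHalf.NI.FTwo.LeviOne

/-!
# NI (F2'): the product of two involutions `z s`, `z s'`

`zprod` : if `b ∉ R` is a root, `s ∈ R` not orthogonal to `b`, and `⟨X b, X (-b)⟩` has exactly one involution `j`, central
in it, then `z s * z (s_b s) = j`.
-/

set_option autoImplicit false
set_option linter.unusedSectionVars false
set_option linter.dupNamespace false

namespace Cfsg.Agent.OddHalf.NI.FTwo

open Cfsg
open CoxeterSystem Cfsg.Agent.ChevalleyStructure.CoxeterGeom Cfsg.Agent.Tits.Roots Cfsg.Agent.Tits.Core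
  Cfsg.Agent.Tits.RootComb Cfsg.Agent.Nodes.Comb Cfsg.Agent.Nodes.Reps Cfsg.Agent.Nodes.BNOf
  Cfsg.Agent.Nodes.RGDLib Cfsg.Agent.Nodes.Chart Cfsg.Agent.Nodes.Coroot Cfsg.Agent.Nodes.FreeTorus
  Cfsg.Agent.Nodes.SubComb Cfsg.Agent.Nodes.Bruhat Cfsg.Agent.Nodes.StabComb Cfsg.Agent.Nodes.Perp

variable {I W Y : Type*} [Fintype I] [DecidableEq I] [Group W] [Fintype W] [Group Y] {M : CoxeterMatrix I}
  {cs : CoxeterSystem M W} {A : I → I → ℤ} {h : IsCartan M A} {p : ℕ} {T : Subgroup Y} {n : I → Y}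
  {X : (I → ℤ) → Subgroup Y} {R : Set (I → ℤ)} {Z : (I → ℤ) → Subgroup Y} {z : (I → ℤ) → Y}

/-- `w² = 1` for a reflection -/
theorem sq_eq_one_of_refl {b : I → ℤ} (hb : IsRoot cs h b) {w : W}
    (hw : ∀ y, rep cs h w y = y - cpr cs h y b • b) : w * w = 1 := by
  apply eq_one_of_nonneg cs h
  intro i
  change 0 ≤ rep cs h (w * w) (sr i)
  rw [rep_mul_apply, hw (sr i), hw]
  have h1 : cpr cs h (sr i - cpr cs h (sr i) b • b) b = - cpr cs h (sr i) b := by
    rw [sub_eq_add_neg, cpr_add cs h _ _ hb, cpr_neg cs h _ hb, cpr_smul cs h _ _ hb, cpr_self cs h hb]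
    ring
  rw [h1]
  have h2 : sr i - cpr cs h (sr i) b • b - -cpr cs h (sr i) b • b = (sr i : I → ℤ) := by module
  rw [h2]
  exact sr_nonneg i

theorem zprod (C : Cls cs h p T n X R Z z) {b s : I → ℤ} (hb : IsRoot cs h b) (hbR : b ∉ R) (hs : s ∈ R)
    (hsb : form cs h s b ≠ 0) {j : Y} (hjc : ∀ x ∈ LL X b, j * x = x * j)
    (hju : ∀ t ∈ LL X b, t * t = 1 → t ≠ 1 → t = j) : z s * z (s - cpr cs h s b • b) = j := by
  have hbs : b ≠ s := fun e => hbR (e ▸ hs)
  have hbs' : b ≠ -s := fun e => hbR (e ▸ Nodes.Perp.neg_mem C hs)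
  have hzz := C.z_sq s hs
  have hzi : (z s)⁻¹ = z s := inv_eq_of_mul_eq_one_left hzz
  have hf : form cs h b s ≠ 0 := by rw [form_comm]; exact hsb
  obtain ⟨b', hb', hb1⟩ : ∃ b' ∈ X (-b), b' ≠ 1 := by
    by_contra h0
    push Not at h0
    exact Nodes.StdConn.X_ne_bot C hb.neg ((Subgroup.eq_bot_iff_forall _).2 h0)
  obtain ⟨a, ha, c, hc, w, hm, hw⟩ := exists_refl_LL C.rgd hb hb' hb1
  set m := a * b' * c with hmd
  have hmL : m ∈ LL X b :=
    mul_mem (mul_mem (Subgroup.mem_sup_left ha) (Subgroup.mem_sup_right hb')) (Subgroup.mem_sup_left hc)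
  have hzm : m * z s * m⁻¹ = z (s - cpr cs h s b • b) := by
    rw [Nodes.ClsNorm.conj_z C hm hs, hw]
  have hs' : s - cpr cs h s b • b ∈ R := Nodes.Perp.refl_mem C hs hb
  rw [← hzm]
  set t := z s * (m * z s * m⁻¹) with ht
  have hz'T : m * z s * m⁻¹ ∈ T := by rw [hzm]; exact C.z_torus _ hs'
  have hz'z : (m * z s * m⁻¹) * (m * z s * m⁻¹) = 1 := by rw [hzm]; exact C.z_sq _ hs'
  -- `t² = 1`
  have htt : t * t = 1 := by
    have h1 := C.z_T s hs _ hz'T
    rw [ht]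
    calc z s * (m * z s * m⁻¹) * (z s * (m * z s * m⁻¹))
        = z s * ((m * z s * m⁻¹) * z s) * (m * z s * m⁻¹) := by group
      _ = z s * (z s * (m * z s * m⁻¹)) * (m * z s * m⁻¹) := by rw [h1]
      _ = (z s * z s) * ((m * z s * m⁻¹) * (m * z s * m⁻¹)) := by group
      _ = 1 := by rw [hzz, hz'z, mul_one]
  -- `z` inverts `X b`, `X (-b)`
  have hza : ∀ x ∈ X b, z s * x * z s = x⁻¹ := C.z_inv s hs b hb hbs hbs' hf
  have hzb : ∀ x ∈ X (-b), z s * x * z s = x⁻¹ :=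
    C.z_inv s hs (-b) hb.neg (fun e => hbs' (by rw [← e, neg_neg])) (fun e => hbs (neg_injective e))
      (by rw [form_neg_left]; exact neg_ne_zero.2 hf)
  have hzmz : z s * m * z s = a⁻¹ * b'⁻¹ * c⁻¹ := by
    rw [hmd, ← hza a ha, ← hzb b' hb', ← hza c hc]
    calc z s * (a * b' * c) * z s = z s * a * 1 * b' * 1 * c * z s := by group
      _ = z s * a * (z s * z s) * b' * (z s * z s) * c * z s := by rw [hzz]
      _ = _ := by group
  -- `t ∈ LL X b`
  have htL : t ∈ LL X b := by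
    have h1 : t = (z s * m * z s) * m⁻¹ := by rw [ht]; group
    rw [h1, hzmz]
    exact mul_mem (mul_mem (mul_mem (Subgroup.mem_sup_left (inv_mem ha)) (Subgroup.mem_sup_right (inv_mem hb')))
      (Subgroup.mem_sup_left (inv_mem hc))) (inv_mem hmL)
  refine hju t htL htt fun ht1 => ?_
  -- `t = 1`: `z m z = m`
  have h1 : z s * m * z s = m := by
    have h2 : t = (z s * m * z s) * m⁻¹ := by rw [ht]; group
    rw [ht1] at h2
    exact (mul_inv_eq_one.1 h2.symm)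
  rw [hzmz] at h1
  -- `b' = a⁻¹ m c⁻¹`, `b'⁻¹ = a m c`
  have e1 : b' = a⁻¹ * m * c⁻¹ := by rw [hmd]; group
  have e2 : b'⁻¹ = a * m * c := by rw [← h1]; group
  have e3 : (a⁻¹ * m * c⁻¹) * (a * m * c) = 1 := by rw [← e1, ← e2, mul_inv_cancel]
  have hmm : m * m ∈ T := by
    have h2 := hm.mul hm
    rw [sq_eq_one_of_refl hb hw] at h2
    exact h2.mem_of_one
  have e4 : m * (c⁻¹ * a) * m⁻¹ = (a * c⁻¹) * (m * m)⁻¹ := by
    have h2 : m * (c⁻¹ * a) * m = a * c⁻¹ := by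
      calc m * (c⁻¹ * a) * m = a * ((a⁻¹ * m * c⁻¹) * (a * m * c)) * c⁻¹ := by group
        _ = a * c⁻¹ := by rw [e3]; group
    calc m * (c⁻¹ * a) * m⁻¹ = (m * (c⁻¹ * a) * m) * (m * m)⁻¹ := by group
      _ = _ := by rw [h2]
  have hcjm : cj m (X b) = X (-b) := by
    rw [C.rgd.conj_rp hm hb, hw, cpr_self cs h hb]
    congr 1
    module
  have e5 := eq_one_of_mem_X_T C.rgd hb (u := m * (c⁻¹ * a) * m⁻¹) (a := a * c⁻¹) (t := (m * m)⁻¹)
    (by rw [← hcjm]; exact conj_mem_cj.2 (mul_mem (inv_mem hc) ha)) (mul_mem ha (inv_mem hc)) (inv_mem hmm) e4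
  have e6 : c = a := by
    have h2 : c⁻¹ * a = m⁻¹ * (m * (c⁻¹ * a) * m⁻¹) * m := by group
    rw [e5] at h2
    have h3 : c⁻¹ * a = 1 := by rw [h2]; group
    exact inv_mul_eq_one.1 h3
  have e7 : m * m = 1 := by
    rw [e5, e6, mul_inv_cancel, one_mul] at e4
    exact inv_eq_one.1 e4.symm
  -- so `m` is central in `LL X b`
  have hmc : ∀ x ∈ LL X b, m * x = x * m := by
    by_cases hm1 : m = 1
    · intro x _; rw [hm1, one_mul, mul_one]
    · rw [hju m hmL e7 hm1]; exact hjc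
  have h2 : cj m (X b) = X b := by
    ext x
    rw [mem_cj]
    constructor
    · intro hx
      have h3 := hmc _ (Subgroup.mem_sup_left (T := X (-b)) hx)
      have h4 : m⁻¹ * x * m = x := by
        have h5 : m * (m⁻¹ * x * m) * m⁻¹ = m⁻¹ * x * m := by rw [h3]; group
        have h6 : m * (m⁻¹ * x * m) * m⁻¹ = x := by group
        rw [← h5, h6]
      rwa [h4] at hx
    · intro hx
      have h3 := hmc _ (Subgroup.mem_sup_left (T := X (-b)) hx)
      have h4 : m⁻¹ * x * m = x := by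
        rw [mul_assoc, ← h3]; group
      rw [h4]; exact hx
  rw [h2] at hcjm
  have h3 := Nodes.OppDec.X_injective C.rgd hb hb.neg hcjm
  have h4 : b = 0 := by
    have h5 : (2 : ℤ) • b = 0 := by
      calc (2 : ℤ) • b = b + b := two_smul ℤ b
        _ = b + -b := by nth_rewrite 2 [h3]; rfl
        _ = 0 := add_neg_cancel b
    exact (smul_eq_zero.1 h5).resolve_left (by norm_num)
  exact hb.ne_zero h4

end Cfsg.Agent.OddHalf.NI.FTwo
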