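import Cfsg.Agent.Cit.TDef
import Cfsg.Agent.Nodes.ChartFrame
import Cfsg.Agent.OddHalf.NI.FTwo.ChartB
import Cfsg.Agent.OddHalf.NI.FTwo.Levi
import Cfsg.Agent.OddHalf.NI.FTwo.ZProd

/-!
# NI (F2'): the chart of type `B₃`

`pos_of_chart` : `C` a chart of `N = ⊤`, `J ≃ SL₂(F)` a component of `C(z r)`, `J ≠ KK Z r`, containing an involution
`j ∈ Z(N)`; then `C` has type `B₃` and `PosB3 C F j (z r) J (KK Z r) (KK Z r') r r' b`.
-/

set_option autoImplicit false
set_option linter.unusedSectionVars false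
set_option linter.dupNamespace false

namespace Cfsg.Agent.OddHalf.NI.FTwo

open Cfsg
open CoxeterSystem Cfsg.Agent.ChevalleyStructure.CoxeterGeom Cfsg.Agent.Tits.Roots Cfsg.Agent.Tits.Core
  Cfsg.Agent.Tits.RootComb Cfsg.Agent.Nodes.Comb Cfsg.Agent.Nodes.Reps Cfsg.Agent.Nodes.BNOf
  Cfsg.Agent.Nodes.RGDLib Cfsg.Agent.Nodes.Chart Cfsg.Agent.Nodes.Coroot Cfsg.Agent.Nodes.FreeTorus
  Cfsg.Agent.Nodes.SubComb Cfsg.Agent.Nodes.Bruhat Cfsg.Agent.Nodes.StabComb Cfsg.Agent.Nodes.Perp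
open Cfsg.Agent.Cit (Hyp zz)
open Cfsg.Agent.Cit.TypeDet (cm cm_symm cm_iff_le_centralizer cm_mono)
open Cfsg.Agent.SignalizersComponents.Components

/-- The facts on the roots of a chart (file `Comb.lean`). -/
structure CombFacts {N : Type*} [Group N] {Om : Set (Subgroup N)} {p : ℕ} {L : Subgroup N} (C : Chart Om p L)
    (τ : Nodes.Chart.Ty) : Prop where
  one : ∀ {r b}, r ∈ C.R → IsRoot C.cs C.h b → b ∉ C.R → form C.cs C.h b r = 0 →
    (∀ s ∈ C.R, form C.cs C.h s r = 0 → form C.cs C.h b s = 0) →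
    τ = .B 3 ∧ ∃ r' ∈ C.R, form C.cs C.h r' r = 0 ∧ r' ≠ r ∧ r' ≠ -r ∧
      (∀ y, IsRoot C.cs C.h y → form C.cs C.h y r = 0 → y = r' ∨ y = -r' ∨ y = b ∨ y = -b) ∧
      (∃ w, r' = r - cpr C.cs C.h r (rep C.cs C.h w b) • rep C.cs C.h w b ∧
        form C.cs C.h r (rep C.cs C.h w b) ≠ 0) ∧ ∃ s ∈ C.R, form C.cs C.h s b ≠ 0
  two : τ = .B 3 → ∀ {b y}, IsRoot C.cs C.h b → b ∉ C.R → IsRoot C.cs C.h y → y ∉ C.R →
    y = b ∨ y = -b ∨ ∃ s ∈ C.R, y = b - cpr C.cs C.h b s • s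

section

variable {I W Y : Type*} [Fintype I] [DecidableEq I] [Group W] [Fintype W] [Group Y] {M : CoxeterMatrix I}
  {cs : CoxeterSystem M W} {A : I → I → ℤ} {h : IsCartan M A} {p : ℕ} {T : Subgroup Y} {n : I → Y}
  {X : (I → ℤ) → Subgroup Y} {R : Set (I → ℤ)} {Z : (I → ℤ) → Subgroup Y} {z : (I → ℤ) → Y}

/-- reflections are in the Weyl group -/
theorem exists_refl_rep {s : I → ℤ} (hs : IsRoot cs h s) : ∃ w : W, ∀ y, rep cs h w y = y - cpr cs h y s • s := by
  obtain ⟨w, i, rfl⟩ := hs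
  exact ⟨rfl' cs w i, rep_rfl'_eq cs h w i⟩

/-- a root group inverted by a classical involution is abelian -/
theorem X_comm_self (C : Cls cs h p T n X R Z z) {b s : I → ℤ} (hb : IsRoot cs h b) (hbR : b ∉ R) (hs : s ∈ R)
    (hsb : form cs h s b ≠ 0) : ∀ x ∈ X b, ∀ y ∈ X b, x * y = y * x := by
  have hbs : b ≠ s := fun e => hbR (e ▸ hs)
  have hbs' : b ≠ -s := fun e => hbR (e ▸ Nodes.Perp.neg_mem C hs)
  have hzz := C.z_sq s hs
  have hf : form cs h b s ≠ 0 := by rw [form_comm]; exact hsb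
  have hza : ∀ x ∈ X b, z s * x * z s = x⁻¹ := C.z_inv s hs b hb hbs hbs' hf
  intro x hx y hy
  have h1 := hza _ (mul_mem hx hy)
  have h2 : z s * (x * y) * z s = x⁻¹ * y⁻¹ := by
    rw [← hza x hx, ← hza y hy]
    calc z s * (x * y) * z s = z s * x * 1 * y * z s := by group
      _ = z s * x * (z s * z s) * y * z s := by rw [hzz]
      _ = _ := by group
  rw [h2] at h1
  have h3 := congrArg (·⁻¹) h1
  simp only [mul_inv_rev, inv_inv] at h3
  exact h3.symm

end

variable {N : Type*} [Group N] {Om : Set (Subgroup N)} {p : ℕ}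

theorem pos_of_chart [Finite N] (C : Chart Om p (⊤ : Subgroup N)) (hOm : Hyp Om) {τ : Nodes.Chart.Ty}
    (hτ : C.IsTy τ) (hcomb : CombFacts C τ)
    (zx : (∀ r ∈ C.R, C.Z r = C.X r) ∨ ∃ n, τ = .C n) (F : Type) [Field F] [Fintype F] [CharP F p]
    (hsl : ∀ s ∈ C.R, SL F (KK C.Z s)) {r : C.I → ℤ} (hr : r ∈ C.R) {J : Subgroup N} (hJ : SL F J)
    (hJc : J ≤ Subgroup.centralizer {C.z r}) (hsub : (J.subgroupOf (Subgroup.centralizer {C.z r})).IsSubnormal)
    {j : N} (hj : j ∈ Subgroup.center N) (hjJ : j ∈ J) (hj2 : orderOf j = 2) (hzc : C.z r ∉ Subgroup.center N)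
    (hne : J ≠ KK C.Z r) :
    ∃ r' b, PosB3 C F j (C.z r) J (KK C.Z r) (KK C.Z r') r r' b := by
  have hG : GG C.cs C.h C.T C.X = ⊤ := Nodes.ChartFrame.GG_eq C
  have hp2 : Fact p.Prime := ⟨C.prime⟩
  -- all involutions `z s` are conjugate
  have hconj : ∀ s ∈ C.R, ∃ g : N, C.z s = g * C.z r * g⁻¹ := by
    intro s hs
    obtain ⟨w, rfl⟩ := C.trans r hr s hs
    obtain ⟨k, hk⟩ := exists_rp C.cs C.cls.rgd.nsys w
    exact ⟨k, (Nodes.ClsNorm.conj_z C.cls hk hr).symm⟩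
  have hzcen : ∀ s ∈ C.R, C.z s ∉ Subgroup.center N := by
    intro s hs hcen
    obtain ⟨g, hg⟩ := hconj s hs
    apply hzc
    have h1 : C.z r = C.z s := by
      have h2 : C.z r = g⁻¹ * C.z s * g := by rw [hg]; group
      rw [h2, mul_assoc, ← (Subgroup.mem_center_iff.1 hcen) g]; group
    rw [h1]; exact hcen
  have hzne : ∀ s ∈ C.R, C.z s ≠ 1 := fun s hs h0 => hzcen s hs (by rw [h0]; exact one_mem _)
  have B : Big F Om C.R C.Z C.z := ⟨hOm, C.om, hsl, hzne⟩
  have hzo : ∀ s ∈ C.R, orderOf (C.z s) = 2 := fun s hs =>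
    orderOf_eq_prime (by rw [pow_two]; exact C.cls.z_sq s hs) (hzne s hs)
  -- the involution of `J`
  have huJ : ∀ t ∈ J, orderOf t = 2 → t = j := by
    obtain ⟨w, -, hw⟩ := hJ.unique
    intro t ht ht2
    have h1 := hw ⟨t, ht⟩ (by rw [← Subgroup.orderOf_coe]; exact ht2)
    have h2 := hw ⟨j, hjJ⟩ (by rw [← Subgroup.orderOf_coe]; exact hj2)
    exact congrArg Subtype.val (h1.trans h2.symm)
  have hjcen : ∀ g : N, g * j * g⁻¹ = j := by
    intro g
    rw [(Subgroup.mem_center_iff.1 hj) g]; group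
  have hneJ : ∀ s ∈ C.R, ∀ d : N, C.z s ∉ cj d J := by
    intro s hs d hmem
    rw [mem_cj] at hmem
    have h1 : orderOf (d⁻¹ * C.z s * d) = 2 := by
      rw [← hzo s hs]
      have := (MulAut.conj d⁻¹).orderOf_eq (C.z s)
      simpa using this
    have h2 := huJ _ hmem h1
    apply hzcen s hs
    have h3 : C.z s = d * (d⁻¹ * C.z s * d) * d⁻¹ := by group
    rw [h3, h2, hjcen]; exact hj
  -- `J` and `KK Z r` commute
  have hKc : KK C.Z r ≤ Subgroup.centralizer {C.z r} := by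
    have h1 := hOm.le_centralizer (C.om r hr)
    change KK C.Z r ≤ Subgroup.centralizer {zz (KK C.Z r)} at h1
    rwa [B.zz_eq C.cls hr] at h1
  have hKsub : ((KK C.Z r).subgroupOf (Subgroup.centralizer {C.z r})).IsSubnormal := by
    have h1 := hOm.sub _ (C.om r hr)
    change ((KK C.Z r).subgroupOf (Subgroup.centralizer {zz (KK C.Z r)})).IsSubnormal at h1
    rwa [B.zz_eq C.cls hr] at h1
  have hcm : ∀ x ∈ J, ∀ y ∈ KK C.Z r, x * y = y * x := by
    have h1 : IsComponent (J.subgroupOf (Subgroup.centralizer {C.z r})) :=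
      ⟨hsub, isQuasisimple_of_mulEquiv (Subgroup.subgroupOfEquivOfLe hJc).symm hJ.quasisimple⟩
    have h2 : IsComponent ((KK C.Z r).subgroupOf (Subgroup.centralizer {C.z r})) :=
      ⟨hKsub, isQuasisimple_of_mulEquiv (Subgroup.subgroupOfEquivOfLe hKc).symm (hsl r hr).quasisimple⟩
    have hne' : J.subgroupOf (Subgroup.centralizer {C.z r}) ≠
        (KK C.Z r).subgroupOf (Subgroup.centralizer {C.z r}) := by
      intro h3
      apply hne
      have h4 := congrArg (Subgroup.map (Subgroup.centralizer {C.z r}).subtype) h3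
      rwa [Subgroup.map_subgroupOf_eq_of_le hJc, Subgroup.map_subgroupOf_eq_of_le hKc] at h4
    have h3 := component_le_centralizer_of_ne h1 h2 hne'
    intro x hx y hy
    have h4 := Subgroup.mem_centralizer_iff.1
      (h3 (show (⟨x, hJc hx⟩ : Subgroup.centralizer {C.z r}) ∈ J.subgroupOf _ from hx)) ⟨y, hKc hy⟩ hy
    exact (congrArg Subtype.val h4).symm
  -- the order of `J`
  have hdvd : p ∣ Nat.card J := by
    obtain ⟨⟨k, hk0⟩, -, hk⟩ := FiniteField.card F p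
    simp only [PNat.mk_coe] at hk
    rw [hJ.card, hk]
    exact Dvd.dvd.mul_right (dvd_pow_self p (by omega)) _
  have S : Sit F p C.R C.Z C.z r J := ⟨C.prime, C.odd, hJ, hdvd, hr, hcm, hsub, hneJ⟩
  obtain ⟨hKK, b, hb, hbR, hbr, hbo, -⟩ := levi C.cls B hG S
  obtain ⟨rfl, r', hr', hrr', hr'1, hr'2, hperp, ⟨w₀, hw₀, hw₀n⟩, s₀, hs₀, hs₀b⟩ := hcomb.one hr hb hbR hbr hbo
  have hZX : ∀ s ∈ C.R, C.Z s = C.X s := by
    rcases zx with h1 | ⟨n, h1⟩
    · exact h1
    · exact absurd h1 (by simp)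
  have hKL : ∀ s ∈ C.R, KK C.Z s = LL C.X s := by
    intro s hs
    unfold KK LL
    rw [hZX s hs, hZX _ (Nodes.Perp.neg_mem C.cls hs)]
  have hbr' : form C.cs C.h b r' = 0 := hbo r' hr' hrr'
  -- `J = LL X b`
  have hDD : DD C.cs C.h C.X {r, r'} ≤ LL C.X b := by
    refine RGD.Sup_le fun y hy => ?_
    have h1 := hy.2 r (Or.inl rfl)
    have h2 := hy.2 r' (Or.inr rfl)
    have h3 := form_pos C.cs C.h (C.cls.root r' hr').ne_zero
    rcases hperp y hy.1 h1 with rfl | rfl | rfl | rfl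
    · omega
    · rw [form_neg_left] at h2; omega
    · exact le_sup_left
    · exact le_sup_right
  have hJT : J ≤ C.T ⊔ LL C.X b := by
    refine (le_T_DD₂ C.cls hr hr' hrr' (by rw [hG]; exact le_top) hcm (hKK r' hr' hrr')).trans
      (sup_le_sup_left hDD _)
  have hTc : C.T ⊔ LL C.X b ≤ Subgroup.centralizer {C.z r} := by
    refine sup_le (fun t ht => ?_) (sup_le (fun x hx => ?_) (fun x hx => ?_))
    · rw [Subgroup.mem_centralizer_singleton_iff]
      exact (C.cls.z_T r hr t ht).symm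
    · rw [Subgroup.mem_centralizer_singleton_iff]
      exact X_cm_KK C.cls hr hb hbr x hx _ (C.cls.z_mem r hr)
    · rw [Subgroup.mem_centralizer_singleton_iff]
      exact X_cm_KK C.cls hr hb.neg (by rw [form_neg_left, hbr, neg_zero]) x hx _ (C.cls.z_mem r hr)
  have hsub' : (J.subgroupOf (C.T ⊔ LL C.X b)).IsSubnormal := hsub.comap (Subgroup.inclusion hTc)
  have hbab := X_comm_self C.cls hb hbR hs₀ hs₀b
  obtain ⟨hJb, hcb⟩ := eq_LL C.cls.rgd C.prime C.odd hJ hb hbab hJT hsub'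
  -- the product of the involutions
  have hzp : C.z r * C.z r' = j := by
    obtain ⟨k, hk⟩ := exists_rp C.cs C.cls.rgd.nsys w₀
    have hs : rep C.cs C.h w₀⁻¹ r ∈ C.R := C.cls.act r hr _
    have h1 : form C.cs C.h (rep C.cs C.h w₀⁻¹ r) b ≠ 0 := by
      rw [form_rep_left, inv_inv]; exact hw₀n
    have h2 := zprod C.cls hb hbR hs h1 (j := j)
      (fun x _ => ((Subgroup.mem_center_iff.1 hj) x).symm)
      (fun t ht htt ht1 => huJ t (by rw [hJb]; exact ht) (orderOf_eq_prime (by rw [pow_two]; exact htt) ht1))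
    have h3 : rep C.cs C.h w₀⁻¹ r - cpr C.cs C.h (rep C.cs C.h w₀⁻¹ r) b • b = rep C.cs C.h w₀⁻¹ r' := by
      have h4 : cpr C.cs C.h (rep C.cs C.h w₀⁻¹ r) b = cpr C.cs C.h r (rep C.cs C.h w₀ b) := by
        have h5 := cpr_rep C.cs C.h w₀ (rep C.cs C.h w₀⁻¹ r) hb
        rw [rep_apply_inv] at h5
        exact h5.symm
      rw [h4, hw₀, map_sub, map_smul, rep_inv_apply]
    rw [h3] at h2
    have h4 := congrArg (fun x => k * x * k⁻¹) h2
    simp only [hjcen] at h4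
    rw [← h4]
    have h5 := Nodes.ClsNorm.conj_z C.cls hk hs
    have h6 := Nodes.ClsNorm.conj_z C.cls hk (C.cls.act r' hr' w₀⁻¹)
    rw [rep_apply_inv] at h5 h6
    rw [← h5, ← h6]; group
  have hzz' : C.z r * C.z r = 1 := C.cls.z_sq r hr
  have hzr' : C.z r' = j * C.z r := by
    have h1 : C.z r' = C.z r * j := by rw [← hzp, ← mul_assoc, hzz', one_mul]
    rw [h1, (Subgroup.mem_center_iff.1 hj)]
  -- all roots outside `R` are conjugate to `b`
  have hshort : ∀ y, IsRoot C.cs C.h y → y ∉ C.R → ∃ w, y = rep C.cs C.h w b := by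
    intro y hy hyR
    rcases hcomb.two rfl hb hbR hy hyR with rfl | rfl | ⟨s, hs, rfl⟩
    · exact ⟨1, by rw [map_one, Module.End.one_apply]⟩
    · obtain ⟨w, hw⟩ := exists_refl_rep (cs := C.cs) (h := C.h) hb
      refine ⟨w, ?_⟩
      rw [hw, cpr_self C.cs C.h hb]; module
    · obtain ⟨w, hw⟩ := exists_refl_rep (cs := C.cs) (h := C.h) (C.cls.root s hs)
      exact ⟨w, (hw b).symm⟩
  have hXR : ∀ s ∈ C.R, ∀ a ∈ C.X s, ∀ a' ∈ C.X s, a * a' = a' * a := by
    intro s hs a ha a' ha'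
    refine C.cls.cent s hs s (C.cls.root s hs) ?_ a ha a' (by rw [hZX s hs]; exact ha')
    exact (form_pos C.cs C.h (C.cls.root s hs).ne_zero).le
  have hcR : ∀ s ∈ C.R, Nat.card (C.X s) = Fintype.card F := by
    intro s hs
    have h1 : SL F (LL C.X s) := by rw [← hKL s hs]; exact hsl s hs
    refine (eq_LL C.cls.rgd C.prime C.odd h1 (C.cls.root s hs) (hXR s hs) le_sup_right ?_).2
    have h2 : ((LL C.X s).subgroupOf (C.T ⊔ LL C.X s)).Normal := by
      rw [Subgroup.normal_subgroupOf_iff_le_normalizer le_sup_right]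
      refine sup_le ?_ Subgroup.le_normalizer
      intro t ht
      rw [mem_normalizer_iff_cj]
      unfold LL
      rw [cj_sup, C.cls.rgd.tor _ (C.cls.root s hs) t ht, C.cls.rgd.tor _ (C.cls.root s hs).neg t ht]
    exact h2.isSubnormal
  refine ⟨r', b, ?_⟩
  refine
    { ty := hτ
      odd := hJ.odd
      charP := inferInstance
      r_mem := hr
      r'_mem := hr'
      b_root := hb
      b_not := hbR
      rr' := by rw [form_comm]; exact hrr'
      br := hbr
      br' := hbr'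
      perp := hperp
      short := fun y hy hyR => hcomb.two rfl hb hbR hy hyR
      zx := hZX
      sl := ?_
      card := ?_
      comm := ?_
      A_eq := hJb
      B_eq := hKL r hr
      A'_eq := hKL r' hr'
      zr := rfl
      zr' := hzr'
      zz := ?_
      c_mem := ?_
      c_center := hj
      c_order := hj2
      d_order := hzo r hr }
  · intro y hy
    by_cases hyR : y ∈ C.R
    · rw [← hKL y hyR]; exact (hsl y hyR).equiv
    · obtain ⟨w, rfl⟩ := hshort y hy hyR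
      obtain ⟨k, hk⟩ := exists_rp C.cs C.cls.rgd.nsys w
      rw [← cj_LL C.cls.rgd hk hb, ← hJb]
      exact (hJ.cj k).equiv
  · intro y hy
    by_cases hyR : y ∈ C.R
    · exact hcR y hyR
    · obtain ⟨w, rfl⟩ := hshort y hy hyR
      obtain ⟨k, hk⟩ := exists_rp C.cs C.cls.rgd.nsys w
      rw [← C.cls.rgd.conj_rp hk hb, ← hcb]
      exact Subgroup.card_map_of_injective (MulAut.conj k).injective
  · intro y hy
    by_cases hyR : y ∈ C.R
    · exact hXR y hyR
    · obtain ⟨w, rfl⟩ := hshort y hy hyR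
      obtain ⟨k, hk⟩ := exists_rp C.cs C.cls.rgd.nsys w
      rw [← C.cls.rgd.conj_rp hk hb]
      exact (commute_cj k).2 hbab
  · intro s hs s' hs' hss'
    obtain ⟨w, rfl⟩ := C.trans r hr s hs
    obtain ⟨k, hk⟩ := exists_rp C.cs C.cls.rgd.nsys w
    have h1 : rep C.cs C.h w⁻¹ s' ∈ C.R := C.cls.act s' hs' _
    have h2 : form C.cs C.h (rep C.cs C.h w⁻¹ s') r = 0 := by
      rw [form_rep_left, inv_inv, form_comm]; exact hss'
    have h3 : C.z (rep C.cs C.h w⁻¹ s') = C.z r' := by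
      rcases hperp _ (C.cls.root _ h1) h2 with h4 | h4 | h4 | h4
      · rw [h4]
      · rw [h4, C.cls.z_neg r' hr']
      · exact absurd (h4 ▸ h1) hbR
      · exact absurd (by rw [← neg_neg b, ← h4]; exact Nodes.Perp.neg_mem C.cls h1) hbR
    have h5 := Nodes.ClsNorm.conj_z C.cls hk hr
    have h6 := Nodes.ClsNorm.conj_z C.cls hk h1
    rw [rep_apply_inv, h3] at h6
    rw [← h5, ← h6]
    calc k * C.z r * k⁻¹ * (k * C.z r' * k⁻¹) = k * (C.z r * C.z r') * k⁻¹ := by group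
      _ = j := by rw [hzp, hjcen]
  · intro y hy hyR
    obtain ⟨w, rfl⟩ := hshort y hy hyR
    obtain ⟨k, hk⟩ := exists_rp C.cs C.cls.rgd.nsys w
    rw [← cj_LL C.cls.rgd hk hb, ← hJb, ← hjcen k]
    exact conj_mem_cj.2 hjJ

end Cfsg.Agent.OddHalf.NI.FTwo
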