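import Cfsg.Agent.OddHalf.NI.FTwo.ChartB
import Cfsg.Agent.Nodes.ChartMap

/-!
# NI (F2'): conjugates of charts of `⊤ : Subgroup N`

* `cjTop C hcj g` : the conjugate of the chart `C` by `g` (same index type, Weyl group, roots);
* `PosB3.cj` : the conjugate of a chart of type `B₃` in the position `(c, d, A, B, A')`.
-/

set_option autoImplicit false
set_option linter.dupNamespace false

namespace Cfsg.Agent.OddHalf.NI.FTwo.CjTop

open Cfsg
open CoxeterSystem Cfsg.Agent.ChevalleyStructure.CoxeterGeom Cfsg.Agent.Tits.Roots Cfsg.Agent.Tits.Core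
  Cfsg.Agent.Tits.RootComb Cfsg.Agent.Nodes.Comb Cfsg.Agent.Nodes.Reps Cfsg.Agent.Nodes.BNOf
  Cfsg.Agent.Nodes.RGDLib Cfsg.Agent.Nodes.Chart Cfsg.Agent.Nodes.Coroot Cfsg.Agent.Nodes.FreeTorus
  Cfsg.Agent.Nodes Cfsg.Agent.OddHalf.NI.FTwo

variable {N : Type*} [Group N] {Om : Set (Subgroup N)} {p : ℕ}

/-- The conjugate of a chart of `⊤`. -/
noncomputable def cjTop (C : Chart Om p (⊤ : Subgroup N)) (hcj : ∀ K ∈ Om, ∀ g, cj g K ∈ Om) (g : N) :
    Chart Om p (⊤ : Subgroup N) :=
  { prime := C.prime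
    odd := C.odd
    I := C.I
    W := C.W
    M := C.M
    cs := C.cs
    A := C.A
    h := C.h
    T := cj g C.T
    n := fun i => g * C.n i * g⁻¹
    X := fun x => cj g (C.X x)
    R := C.R
    Z := fun x => cj g (C.Z x)
    z := fun x => g * C.z x * g⁻¹
    cls := ClsMap.cls_map_of_injective C.cls (MulAut.conj g).toMonoidHom (MulAut.conj g).injective
    irr := C.irr
    ne := C.ne
    T_le := le_top
    gen := by
      have h1 := RGDTypeA.G1_map C.cs C.h C.X (MulAut.conj g).toMonoidHom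
      have h2 : (⊤ : Subgroup N).map (MulAut.conj g).toMonoidHom = ⊤ :=
        Subgroup.map_top_of_surjective _ (MulAut.conj g).surjective
      rw [C.gen, h2] at h1
      exact h1
    trans := C.trans
    Rne := C.Rne
    om := by
      intro r hr
      rw [← cj_sup]
      exact hcj _ (C.om r hr) g
    om_conj := by
      intro K hK _
      obtain ⟨r, hr, k, _, e⟩ := C.om_conj (cj g⁻¹ K) (hcj K hK _) le_top
      refine ⟨r, hr, g * k * g⁻¹, Subgroup.mem_top _, ?_⟩
      rw [← cj_sup, ← cj_mul, inv_mul_cancel_right, cj_mul, ← e, cj_cj_inv] }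

theorem LL_cj {I : Type*} (X : (I → ℤ) → Subgroup N) (g : N) (x : I → ℤ) :
    LL (fun x => cj g (X x)) x = cj g (LL X x) := (cj_sup g _ _).symm

/-- The conjugate of `PosB3`. -/
theorem PosB3.cj {C : Chart Om p (⊤ : Subgroup N)} (hcj : ∀ K ∈ Om, ∀ g, Reps.cj g K ∈ Om) {F : Type} [Field F]
    [Fintype F] {c d : N} {A B A' : Subgroup N} {r r' b : C.I → ℤ} (P : PosB3 C F c d A B A' r r' b) (g : N) :
    PosB3 (cjTop C hcj g) F (g * c * g⁻¹) (g * d * g⁻¹) (Reps.cj g A) (Reps.cj g B) (Reps.cj g A') r r' b where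
  ty := P.ty
  odd := P.odd
  charP := P.charP
  r_mem := P.r_mem
  r'_mem := P.r'_mem
  b_root := P.b_root
  b_not := P.b_not
  rr' := P.rr'
  br := P.br
  br' := P.br'
  perp := P.perp
  short := P.short
  zx s hs := by
    have h1 := P.zx s hs
    change Reps.cj g (C.Z s) = Reps.cj g (C.X s)
    rw [h1]
  sl y hy := by
    obtain ⟨e⟩ := P.sl y hy
    have h1 : LL (cjTop C hcj g).X y = (LL C.X y).map (MulAut.conj g).toMonoidHom := LL_cj C.X g y
    rw [h1]
    exact ⟨((LL C.X y).equivMapOfInjective _ (MulAut.conj g).injective).symm.trans e⟩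
  card y hy := by
    rw [← P.card y hy]
    exact Nat.card_congr ((C.X y).equivMapOfInjective _ (MulAut.conj g).injective).symm.toEquiv
  comm y hy a ha a' ha' := by
    obtain ⟨x, hx, rfl⟩ := ha
    obtain ⟨x', hx', rfl⟩ := ha'
    rw [← map_mul, ← map_mul, P.comm y hy x hx x' hx']
  A_eq := by rw [P.A_eq]; exact (LL_cj C.X g b).symm
  B_eq := by rw [P.B_eq]; exact (LL_cj C.X g r).symm
  A'_eq := by rw [P.A'_eq]; exact (LL_cj C.X g r').symm
  zr := by
    change g * C.z r * g⁻¹ = _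
    rw [P.zr]
  zr' := by
    change g * C.z r' * g⁻¹ = _
    rw [P.zr']; group
  zz s hs s' hs' h0 := by
    change g * C.z s * g⁻¹ * (g * C.z s' * g⁻¹) = _
    rw [← P.zz s hs s' hs' h0]; group
  c_mem y hy hyR := by
    have h1 : LL (cjTop C hcj g).X y = Reps.cj g (LL C.X y) := LL_cj C.X g y
    rw [h1, mem_cj]
    have h2 := P.c_mem y hy hyR
    simpa [mul_assoc] using h2
  c_center := by
    have h1 := Subgroup.mem_center_iff.1 P.c_center g
    rw [h1, mul_inv_cancel_right]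
    exact P.c_center
  c_order := by
    rw [← P.c_order]
    exact orderOf_injective (MulAut.conj g).toMonoidHom (MulAut.conj g).injective c
  d_order := by
    rw [← P.d_order]
    exact orderOf_injective (MulAut.conj g).toMonoidHom (MulAut.conj g).injective d

theorem exists_cj {C : Chart Om p (⊤ : Subgroup N)} (hcj : ∀ K ∈ Om, ∀ g, Reps.cj g K ∈ Om) {F : Type} [Field F]
    [Fintype F] {c d : N} {A B A' : Subgroup N} {r r' b : C.I → ℤ} (P : PosB3 C F c d A B A' r r' b) (g : N) :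
    ∃ (C' : Chart Om p (⊤ : Subgroup N)) (r1 r1' b1 : C'.I → ℤ),
      PosB3 C' F (g * c * g⁻¹) (g * d * g⁻¹) (Reps.cj g A) (Reps.cj g B) (Reps.cj g A') r1 r1' b1 :=
  ⟨cjTop C hcj g, r, r', b, PosB3.cj hcj P g⟩

end Cfsg.Agent.OddHalf.NI.FTwo.CjTop
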