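import Cfsg.Agent.OddHalf.NI.FTwo.CombStd
import Cfsg.Agent.Cit.TDef

/-!
# Root combinatorics for (F2') (node NI)

`comb`: in a typed chart, a root `b` outside of `R` which is orthogonal to `r ∈ R` and to all members of `R` orthogonal
to `r` exists only in type `B 3`; there `b` is unique up to sign, and the other member `r'` of `R` orthogonal to `r` is
`r` minus a conjugate of `b`.
-/

set_option autoImplicit false
set_option linter.unusedSectionVars false

namespace Cfsg.Agent.OddHalf.NI.FTwo.Comb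

open CoxeterSystem Cfsg.Agent.ChevalleyStructure.CoxeterGeom Cfsg.Agent.Tits.Roots Cfsg.Agent.Nodes.Reps
  Cfsg.Agent.Nodes.Chart Cfsg.Agent.Nodes.Coroot Cfsg.Agent.Nodes.TyStd Cfsg.Agent.Nodes
  Cfsg.Agent.OddHalf.NI.FTwo.CombStd

theorem comb {G : Type*} [Group G] {Om : Set (Subgroup G)} {p : ℕ} {L : Subgroup G} (c : Chart Om p L)
    {τ : Nodes.Chart.Ty} (hτ : c.IsTy τ) (ok : Cit.KindOk τ) {r b : c.I → ℤ} (hr : r ∈ c.R)
    (hb : IsRoot c.cs c.h b) (hbR : b ∉ c.R) (h0 : form c.cs c.h b r = 0)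
    (ho : ∀ s ∈ c.R, form c.cs c.h s r = 0 → form c.cs c.h b s = 0) :
    τ = .B 3 ∧ ∃ r' ∈ c.R, form c.cs c.h r' r = 0 ∧ r' ≠ r ∧ r' ≠ -r ∧
      (∀ y, IsRoot c.cs c.h y → form c.cs c.h y r = 0 → y = r' ∨ y = -r' ∨ y = b ∨ y = -b) ∧
      (∃ w, r' = r - cpr c.cs c.h r (rep c.cs c.h w b) • rep c.cs c.h w b ∧
        form c.cs c.h r (rep c.cs c.h w b) ≠ 0) ∧
      ∃ s ∈ c.R, form c.cs c.h s b ≠ 0 := by
  have key : (∀ i, τ.long i) → False := by
    intro hl
    obtain ⟨e, -, h1⟩ := hτ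
    obtain ⟨w, i, rfl⟩ := hb
    exact hbR (c.cls.act _ ((h1 i).2 (hl _)) w)
  have H0 : Hy c.cs c.h c.R r b := ⟨hr, hb, hbR, h0, ho⟩
  cases τ with
  | A n => exact (key fun _ => trivial).elim
  | D n => exact (key fun _ => trivial).elim
  | E6 => exact (key fun _ => trivial).elim
  | E7 => exact (key fun _ => trivial).elim
  | E8 => exact (key fun _ => trivial).elim
  | G2 => exact ok.elim
  | B n =>
    obtain ⟨cs', -⟩ : ∃ cs' : CoxeterSystem (CoxeterMatrix.B n) (CoxeterMatrix.B n).Group, True :=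
      ⟨(CoxeterMatrix.B n).toCoxeterSystem, trivial⟩
    have hf : Finite (CoxeterMatrix.B n).Group := finite_of_isTy c hτ cs'
    have hfi : Fintype (CoxeterMatrix.B n).Group := Fintype.ofFinite _
    obtain ⟨e, hA, hl⟩ := hτ
    have hr1 : (fun i => (fun j => r (e.symm j)) (e i)) = r := by funext i; simp
    have hb1 : (fun i => (fun j => b (e.symm j)) (e i)) = b := by funext i; simp
    have hM : ∀ i j, c.M i j = CoxeterMatrix.B n (e i) (e j) := fun i j => c.M_apply hA i j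
    have hsr : ∀ i, sr i ∈ c.R ↔ sr (e i) ∈ KindBC.RB n := fun i => by
      rw [hl]; exact RKindsBC.sr_mem_RB.symm
    rw [← hr1, ← hb1] at H0
    have H' := Hy.dn (r := fun j => r (e.symm j)) (b := fun j => b (e.symm j)) (cs' := cs') (h' := TypeC.isCartan n) e hM hA c.cls.act (fun r hr => KindBC.root_RB cs' hr)
      (fun r hr w => KindBC.act_RB cs' hr w) c.cls.root hsr H0
    have hn : n = 3 := le_antisymm (le_three cs' H') ok
    subst hn
    have hr2 : (fun i => r (e.symm (e i))) = r := hr1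
    have hb2 : (fun i => b (e.symm (e i))) = b := hb1
    have O := Out.up (cs' := cs') (h' := TypeC.isCartan 3) (R := c.R) e hM hA c.cls.act
      (fun r hr => KindBC.root_RB cs' hr) (fun r hr w => KindBC.act_RB cs' hr w) hsr
      (KindBC.root_RB cs' H'.hr) H'.hb (out_B3 cs' H')
    change Out c.cs c.h c.R (fun i => r (e.symm (e i))) (fun i => b (e.symm (e i))) at O
    rw [hr2, hb2] at O
    exact ⟨rfl, O⟩
  | C n =>
    exfalso
    obtain ⟨cs', -⟩ : ∃ cs' : CoxeterSystem (CoxeterMatrix.B n) (CoxeterMatrix.B n).Group, True :=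
      ⟨(CoxeterMatrix.B n).toCoxeterSystem, trivial⟩
    have hf : Finite (CoxeterMatrix.B n).Group := finite_of_isTy c hτ cs'
    have hfi : Fintype (CoxeterMatrix.B n).Group := Fintype.ofFinite _
    obtain ⟨e, hA, hl⟩ := hτ
    have hr1 : (fun i => (fun j => r (e.symm j)) (e i)) = r := by funext i; simp
    have hb1 : (fun i => (fun j => b (e.symm j)) (e i)) = b := by funext i; simp
    have hM : ∀ i j, c.M i j = CoxeterMatrix.B n (e i) (e j) := fun i j => c.M_apply hA i j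
    have hsr : ∀ i, sr i ∈ c.R ↔ sr (e i) ∈ KindBC.RC n := fun i => by
      rw [hl]; exact RKindsBC.sr_mem_RC.symm
    rw [← hr1, ← hb1] at H0
    exact no_C cs' (Hy.dn (r := fun j => r (e.symm j)) (b := fun j => b (e.symm j)) (cs' := cs') (h' := TypeC.isCartan n) e hM hA c.cls.act (fun r hr => KindBC.root_RC cs' hr)
      (fun r hr w => KindBC.act_RC cs' hr w) c.cls.root hsr H0)
  | F4 =>
    exfalso
    obtain ⟨cs', -⟩ : ∃ cs' : CoxeterSystem CoxeterMatrix.F₄ CoxeterMatrix.F₄.Group, True :=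
      ⟨CoxeterMatrix.F₄.toCoxeterSystem, trivial⟩
    have hf : Finite CoxeterMatrix.F₄.Group := finite_of_isTy c hτ cs'
    have hfi : Fintype CoxeterMatrix.F₄.Group := Fintype.ofFinite _
    obtain ⟨e, hA, hl⟩ := hτ
    have hr1 : (fun i => (fun j => r (e.symm j)) (e i)) = r := by funext i; simp
    have hb1 : (fun i => (fun j => b (e.symm j)) (e i)) = b := by funext i; simp
    have hM : ∀ i j, c.M i j = CoxeterMatrix.F₄ (e i) (e j) := fun i j => c.M_apply hA i j
    have hsr : ∀ i, sr i ∈ c.R ↔ sr (e i) ∈ KindF.R cs' Ty.F4.isCartan := fun i => by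
      rw [hl]; exact (long_F4 cs' Ty.F4.isCartan (e i)).symm
    rw [← hr1, ← hb1] at H0
    have F := KindF.frameSys cs' Ty.F4.isCartan
    exact no_F4 cs' Ty.F4.isCartan (Hy.dn (r := fun j => r (e.symm j)) (b := fun j => b (e.symm j)) (cs' := cs') (h' := Ty.F4.isCartan) e hM hA c.cls.act F.root F.act
      c.cls.root hsr H0)

/-- the roots outside of `R` (the short roots of `B3`) are conjugate under the reflections in members of `R` -/
theorem comb_short {G : Type*} [Group G] {Om : Set (Subgroup G)} {p : ℕ} {L : Subgroup G} (c : Chart Om p L)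
    (hτ : c.IsTy (.B 3)) {b : c.I → ℤ} (hb : IsRoot c.cs c.h b) (hbR : b ∉ c.R) {y : c.I → ℤ}
    (hy : IsRoot c.cs c.h y) (hyR : y ∉ c.R) :
    y = b ∨ y = -b ∨ ∃ s ∈ c.R, y = b - cpr c.cs c.h b s • s := by
  obtain ⟨cs', -⟩ : ∃ cs' : CoxeterSystem (CoxeterMatrix.B 3) (CoxeterMatrix.B 3).Group, True :=
    ⟨(CoxeterMatrix.B 3).toCoxeterSystem, trivial⟩
  have hf : Finite (CoxeterMatrix.B 3).Group := finite_of_isTy c hτ cs'
  have hfi : Fintype (CoxeterMatrix.B 3).Group := Fintype.ofFinite _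
  obtain ⟨e, hA, hl⟩ : ∃ e : c.I ≃ Fin 3, (∀ i j, c.A i j = TypeC.A 3 (e i) (e j)) ∧
    ∀ i, sr i ∈ c.R ↔ (Ty.B 3).long (e i) := hτ
  have hM : ∀ i j, c.M i j = CoxeterMatrix.B 3 (e i) (e j) := fun i j => c.M_apply (τ := .B 3) (e := e) hA i j
  have hsr : ∀ i, sr i ∈ c.R ↔ sr (e i) ∈ KindBC.RB 3 := fun i => by
    rw [hl]; exact RKindsBC.sr_mem_RB.symm
  have key : ∀ x : c.I → ℤ, IsRoot c.cs c.h x → x ∉ c.R → (fun j => x (e.symm j)) ∈ KindBC.RC 3 := by
    intro x hx hxR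
    have h1 : IsRoot cs' (TypeC.isCartan 3) (fun j => x (e.symm j)) := isRoot_dn e hM hA hx
    rcases (KindBC.isRoot_iff_mem cs').1 h1 with h2 | h2
    · exact absurd ((mem_dn (cs' := cs') (h' := TypeC.isCartan 3) e hM hA c.cls.act
        (fun r hr w => KindBC.act_RB cs' hr w) hsr hx).2 h2) hxR
    · exact h2
  rcases refl_C3 cs' (key b hb hbR) (key y hy hyR) with h1 | h1 | ⟨s, hs, h1⟩
  · left
    funext i
    have := congrFun h1 (e i)
    simpa using this
  · right; left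
    funext i
    have := congrFun h1 (e i)
    simpa using this
  · right; right
    have hs' := KindBC.root_RB cs' hs
    exact ⟨fun i => s (e i), (mem_R_iff e hM hA cs' (TypeC.isCartan 3) c.cls.act
      (fun r hr w => KindBC.act_RB cs' hr w) hsr hs').2 hs, refl_up e hA hs' h1⟩

/-- two orthogonal members of `R` in type `B3` are exchanged by the reflection in a short root -/
theorem comb_orth {G : Type*} [Group G] {Om : Set (Subgroup G)} {p : ℕ} {L : Subgroup G} (c : Chart Om p L)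
    (hτ : c.IsTy (.B 3)) {r s : c.I → ℤ} (hr : r ∈ c.R) (hs : s ∈ c.R) (h0 : form c.cs c.h r s = 0) :
    ∃ y, IsRoot c.cs c.h y ∧ y ∉ c.R ∧ s = r - cpr c.cs c.h r y • y ∧ form c.cs c.h r y ≠ 0 := by
  obtain ⟨cs', -⟩ : ∃ cs' : CoxeterSystem (CoxeterMatrix.B 3) (CoxeterMatrix.B 3).Group, True :=
    ⟨(CoxeterMatrix.B 3).toCoxeterSystem, trivial⟩
  have hf : Finite (CoxeterMatrix.B 3).Group := finite_of_isTy c hτ cs'
  have hfi : Fintype (CoxeterMatrix.B 3).Group := Fintype.ofFinite _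
  obtain ⟨e, hA, hl⟩ : ∃ e : c.I ≃ Fin 3, (∀ i j, c.A i j = TypeC.A 3 (e i) (e j)) ∧
    ∀ i, sr i ∈ c.R ↔ (Ty.B 3).long (e i) := hτ
  have hM : ∀ i j, c.M i j = CoxeterMatrix.B 3 (e i) (e j) := fun i j => c.M_apply (τ := .B 3) (e := e) hA i j
  have hsr : ∀ i, sr i ∈ c.R ↔ sr (e i) ∈ KindBC.RB 3 := fun i => by
    rw [hl]; exact RKindsBC.sr_mem_RB.symm
  have key : ∀ x ∈ c.R, (fun j => x (e.symm j)) ∈ KindBC.RB 3 := fun x hx =>
    (mem_dn (cs' := cs') (h' := TypeC.isCartan 3) e hM hA c.cls.act (fun r hr w => KindBC.act_RB cs' hr w) hsr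
      (c.cls.root x hx)).1 hx
  obtain ⟨y, hy, h1, h2⟩ := refl_B3 cs' (key r hr) (key s hs)
    ((form_dn e hM hA r (c.cls.root s hs)).1 h0)
  have hy' := KindBC.root_RC cs' hy
  have hyr : IsRoot c.cs c.h (fun i => y (e i)) := (isRoot_comp_iff e hM hA cs' (TypeC.isCartan 3)).2 hy'
  refine ⟨fun i => y (e i), hyr, ?_, refl_up e hA hy' h1, ?_⟩
  · intro h3
    have h4 := (mem_R_iff e hM hA cs' (TypeC.isCartan 3) c.cls.act
      (fun r hr w => KindBC.act_RB cs' hr w) hsr hy').1 h3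
    rw [KindBC.mem_RB_iff_ip cs' hy'] at h4
    rw [KindBC.mem_RC_iff_ip cs' hy'] at hy
    rw [hy] at h4
    norm_num at h4
  · intro h3
    apply h2
    have h4 := form_comp (cs := c.cs) (h := c.h) (cs' := cs') (h' := TypeC.isCartan 3) e hA (fun j => r (e.symm j)) hy'
    rw [pull] at h4
    exact h4.1 h3

end Cfsg.Agent.OddHalf.NI.FTwo.Comb
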