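import Cfsg.Agent.OddHalf.NI.FTwo.LeviOne

/-!
# NI (F2'): components contained in the torus

* `SL.solvable_normalizer` : the normaliser of a nontrivial `p`-subgroup of `SL₂(F)` is solvable;
* `comm_of_le_T_KK`, `comm_of_le_T` : a perfect subgroup of `T` centralises `KK Z s`, `s ∈ R`, and `LL X b`;
* `mem_T_of_normalizes` : an element of `T ⟨X b, X (-b)⟩` normalising `X b` and `X (-b)` lies in `T`.
-/

set_option autoImplicit false
set_option linter.unusedSectionVars false
set_option linter.dupNamespace false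

namespace Cfsg.Agent.OddHalf.NI.FTwo

open Cfsg
open CoxeterSystem Cfsg.Agent.ChevalleyStructure.CoxeterGeom Cfsg.Agent.Tits.Roots Cfsg.Agent.Tits.Core
  Cfsg.Agent.Tits.RootComb Cfsg.Agent.Nodes.Comb Cfsg.Agent.Nodes.Reps Cfsg.Agent.Nodes.BNOf
  Cfsg.Agent.Nodes.RGDLib Cfsg.Agent.Nodes.Chart Cfsg.Agent.Nodes.Coroot Cfsg.Agent.Nodes.FreeTorus
  Cfsg.Agent.Nodes.SubComb Cfsg.Agent.Nodes.Bruhat Cfsg.Agent.Nodes.StabComb Cfsg.Agent.Nodes.Perp
open Cfsg.Agent.SignalizersComponents.Components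
open scoped commutatorElement

/-! ### Lines of `F²` -/

section line

variable {F : Type*} [Field F]

theorem fix_form {v : Fin 2 → F} (hv : v ≠ 0) {g : Matrix.SpecialLinearGroup (Fin 2) F}
    (hg : (g : Matrix (Fin 2) (Fin 2) F).mulVec v = v) :
    ∃ r : F, (g : Matrix (Fin 2) (Fin 2) F) = !![1 + r * (v 0 * v 1), -(r * (v 0 * v 0)); r * (v 1 * v 1), 1 - r * (v 0 * v 1)] := by
  have e0 := congrFun hg 0
  have e1 := congrFun hg 1
  simp only [Matrix.mulVec, dotProduct, Fin.sum_univ_two] at e0 e1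
  have hd := g.det_coe
  rw [Matrix.det_fin_two] at hd
  generalize ha : (g : Matrix (Fin 2) (Fin 2) F) 0 0 = a at *
  generalize hb : (g : Matrix (Fin 2) (Fin 2) F) 0 1 = b at *
  generalize hc : (g : Matrix (Fin 2) (Fin 2) F) 1 0 = c at *
  generalize hd' : (g : Matrix (Fin 2) (Fin 2) F) 1 1 = d at *
  have key : ∀ r : F, a = 1 + r * (v 0 * v 1) → b = -(r * (v 0 * v 0)) → c = r * (v 1 * v 1) →
      d = 1 - r * (v 0 * v 1) → (g : Matrix (Fin 2) (Fin 2) F) =
        !![1 + r * (v 0 * v 1), -(r * (v 0 * v 0)); r * (v 1 * v 1), 1 - r * (v 0 * v 1)] := by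
    intro r h1 h2 h3 h4
    ext i j
    fin_cases i <;> fin_cases j
    · simpa [h1] using ha
    · simpa [h2] using hb
    · simpa [h3] using hc
    · simpa [h4] using hd'
  by_cases hx : v 0 = 0
  · have hy : v 1 ≠ 0 := by
      intro hy
      apply hv
      funext i
      fin_cases i
      · exact hx
      · exact hy
    rw [hx, mul_zero, zero_add] at e0 e1
    have hb0 : b = 0 := by
      rcases mul_eq_zero.1 e0 with h | h
      · exact h
      · exact absurd h hy
    have hd1 : d = 1 := by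
      have : (d - 1) * v 1 = 0 := by rw [sub_mul, e1]; ring
      rcases mul_eq_zero.1 this with h | h
      · linear_combination h
      · exact absurd h hy
    have ha1 : a = 1 := by rw [hb0, hd1] at hd; linear_combination hd
    refine ⟨c / (v 1 * v 1), key _ ?_ ?_ ?_ ?_⟩
    · rw [hx]; rw [ha1]; ring
    · rw [hx]; rw [hb0]; ring
    · field_simp
    · rw [hx, hd1]; ring
  · have h1 : (d - 1) * v 0 = b * v 1 := by linear_combination v 0 * hd - d * e0 + b * e1
    refine ⟨-b / (v 0 * v 0), key _ ?_ ?_ ?_ ?_⟩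
    · apply mul_left_cancel₀ hx
      field_simp
      linear_combination e0
    · field_simp
    · apply mul_left_cancel₀ (mul_ne_zero hx hx)
      field_simp
      linear_combination v 0 * e1 - v 1 * h1
    · apply mul_left_cancel₀ hx
      field_simp
      linear_combination h1

theorem comm_of_fix {v : Fin 2 → F} (hv : v ≠ 0) {g k : Matrix.SpecialLinearGroup (Fin 2) F}
    (hg : (g : Matrix (Fin 2) (Fin 2) F).mulVec v = v) (hk : (k : Matrix (Fin 2) (Fin 2) F).mulVec v = v) :
    g * k = k * g := by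
  obtain ⟨r, hr⟩ := fix_form hv hg
  obtain ⟨s, hs⟩ := fix_form hv hk
  apply Subtype.ext
  rw [Matrix.SpecialLinearGroup.coe_mul, Matrix.SpecialLinearGroup.coe_mul, hr, hs, Matrix.mul_fin_two,
    Matrix.mul_fin_two]
  congr 1
  ext i j
  fin_cases i <;> fin_cases j <;> simp <;> ring

theorem smul_of_fix {v w : Fin 2 → F} (hv : v ≠ 0) {g : Matrix.SpecialLinearGroup (Fin 2) F} (hg1 : g ≠ 1)
    (hg : (g : Matrix (Fin 2) (Fin 2) F).mulVec v = v) (hw : (g : Matrix (Fin 2) (Fin 2) F).mulVec w = w) :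
    ∃ c : F, w = c • v := by
  obtain ⟨r, hr⟩ := fix_form hv hg
  have hr0 : r ≠ 0 := by
    rintro rfl
    apply hg1
    apply Subtype.ext
    rw [hr]
    ext i j
    fin_cases i <;> fin_cases j <;> simp
  rw [hr] at hw
  have e0 := congrFun hw 0
  have e1 := congrFun hw 1
  simp only [Matrix.mulVec, dotProduct, Fin.sum_univ_two, Matrix.of_apply, Matrix.cons_val_zero,
    Matrix.cons_val_one, Matrix.cons_val', Matrix.cons_val_fin_one] at e0 e1
  have h0 : v 0 * (v 1 * w 0 - v 0 * w 1) = 0 := by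
    apply mul_left_cancel₀ hr0
    linear_combination e0
  have h1 : v 1 * (v 1 * w 0 - v 0 * w 1) = 0 := by
    apply mul_left_cancel₀ hr0
    linear_combination e1
  have h2 : v 1 * w 0 - v 0 * w 1 = 0 := by
    by_contra h3
    apply hv
    funext i
    fin_cases i
    · exact (mul_eq_zero.1 h0).resolve_right h3
    · exact (mul_eq_zero.1 h1).resolve_right h3
  by_cases hx : v 0 = 0
  · have hy : v 1 ≠ 0 := by
      intro hy
      apply hv
      funext i
      fin_cases i
      · exact hx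
      · exact hy
    refine ⟨w 1 / v 1, ?_⟩
    funext i
    fin_cases i
    · change w 0 = w 1 / v 1 * v 0
      apply mul_left_cancel₀ hy
      field_simp
      linear_combination h2
    · change w 1 = w 1 / v 1 * v 1
      field_simp
  · refine ⟨w 0 / v 0, ?_⟩
    funext i
    fin_cases i
    · change w 0 = w 0 / v 0 * v 0
      field_simp
    · change w 1 = w 0 / v 0 * v 1
      apply mul_left_cancel₀ hx
      field_simp
      linear_combination -h2

/-- the stabiliser of a line is solvable -/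
theorem solvable_of_line {v : Fin 2 → F} (hv : v ≠ 0) {H : Subgroup (Matrix.SpecialLinearGroup (Fin 2) F)}
    (hH : ∀ g ∈ H, ∃ c : F, (g : Matrix (Fin 2) (Fin 2) F).mulVec v = c • v) : Group.IsSolvable H := by
  have hinv : ∀ (g : Matrix.SpecialLinearGroup (Fin 2) F) (w : Fin 2 → F),
      (g : Matrix (Fin 2) (Fin 2) F).mulVec w = 0 → w = 0 := by
    intro g w h0
    have h1 : ((g⁻¹ * g : Matrix.SpecialLinearGroup (Fin 2) F) : Matrix (Fin 2) (Fin 2) F).mulVec w = 0 := by
      rw [Matrix.SpecialLinearGroup.coe_mul, ← Matrix.mulVec_mulVec, h0, Matrix.mulVec_zero]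
    rwa [inv_mul_cancel, Matrix.SpecialLinearGroup.coe_one, Matrix.one_mulVec] at h1
  have hfi : ∀ g : Matrix.SpecialLinearGroup (Fin 2) F, (g : Matrix (Fin 2) (Fin 2) F).mulVec v = v →
      ((g⁻¹ : Matrix.SpecialLinearGroup (Fin 2) F) : Matrix (Fin 2) (Fin 2) F).mulVec v = v := by
    intro g hg
    have h1 : ((g⁻¹ * g : Matrix.SpecialLinearGroup (Fin 2) F) : Matrix (Fin 2) (Fin 2) F).mulVec v = v := by
      rw [inv_mul_cancel, Matrix.SpecialLinearGroup.coe_one, Matrix.one_mulVec]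
    rw [Matrix.SpecialLinearGroup.coe_mul, ← Matrix.mulVec_mulVec, hg] at h1
    exact h1
  let S : Subgroup H :=
    { carrier := {g | (g : Matrix (Fin 2) (Fin 2) F).mulVec v = v}
      one_mem' := by
        change ((1 : Matrix.SpecialLinearGroup (Fin 2) F) : Matrix (Fin 2) (Fin 2) F).mulVec v = v
        rw [Matrix.SpecialLinearGroup.coe_one, Matrix.one_mulVec]
      mul_mem' := by
        intro a b ha hb
        change ((a * b : Matrix.SpecialLinearGroup (Fin 2) F) : Matrix (Fin 2) (Fin 2) F).mulVec v = v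
        rw [Matrix.SpecialLinearGroup.coe_mul, ← Matrix.mulVec_mulVec]
        have ha' : ((a : Matrix.SpecialLinearGroup (Fin 2) F) : Matrix (Fin 2) (Fin 2) F).mulVec v = v := ha
        have hb' : ((b : Matrix.SpecialLinearGroup (Fin 2) F) : Matrix (Fin 2) (Fin 2) F).mulVec v = v := hb
        rw [hb', ha']
      inv_mem' := by
        intro a ha
        exact hfi (a : Matrix.SpecialLinearGroup (Fin 2) F) ha }
  have hle : commutator H ≤ S := by
    rw [commutator_def, Subgroup.commutator_le]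
    intro a _ b _
    obtain ⟨c, hc⟩ := hH a a.2
    obtain ⟨d, hd⟩ := hH b b.2
    have hc0 : c ≠ 0 := by
      rintro rfl
      exact hv (hinv a v (by rw [hc, zero_smul]))
    have hd0 : d ≠ 0 := by
      rintro rfl
      exact hv (hinv b v (by rw [hd, zero_smul]))
    have h1 : ((a * b : Matrix.SpecialLinearGroup (Fin 2) F) : Matrix (Fin 2) (Fin 2) F).mulVec v = (c * d) • v := by
      rw [Matrix.SpecialLinearGroup.coe_mul, ← Matrix.mulVec_mulVec, hd, Matrix.mulVec_smul, hc, smul_smul, mul_comm]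
    have h2 : ((b * a : Matrix.SpecialLinearGroup (Fin 2) F) : Matrix (Fin 2) (Fin 2) F).mulVec v = (c * d) • v := by
      rw [Matrix.SpecialLinearGroup.coe_mul, ← Matrix.mulVec_mulVec, hc, Matrix.mulVec_smul, hd, smul_smul]
    change ((⁅(a : Matrix.SpecialLinearGroup (Fin 2) F), (b : Matrix.SpecialLinearGroup (Fin 2) F)⁆ :
      Matrix.SpecialLinearGroup (Fin 2) F) : Matrix (Fin 2) (Fin 2) F).mulVec v = v
    have h3 : ((⁅(a : Matrix.SpecialLinearGroup (Fin 2) F), (b : Matrix.SpecialLinearGroup (Fin 2) F)⁆ * (b * a) :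
      Matrix.SpecialLinearGroup (Fin 2) F) : Matrix (Fin 2) (Fin 2) F).mulVec v = (c * d) • v := by
      rw [commutatorElement_def, show (a : Matrix.SpecialLinearGroup (Fin 2) F) * b * (a : Matrix.SpecialLinearGroup (Fin 2) F)⁻¹ *
        (b : Matrix.SpecialLinearGroup (Fin 2) F)⁻¹ * (b * a) = a * b by group]
      exact h1
    rw [Matrix.SpecialLinearGroup.coe_mul, ← Matrix.mulVec_mulVec, h2, Matrix.mulVec_smul] at h3
    exact smul_right_injective _ (mul_ne_zero hc0 hd0) h3
  have hcom : ∀ x y : ↥(commutator H), x * y = y * x := by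
    intro x y
    apply Subtype.ext
    apply Subtype.ext
    exact comm_of_fix hv (hle x.2) (hle y.2)
  have h1 : Group.IsSolvable ↥(commutator H) := Group.isSolvable_of_comm hcom
  exact Group.isSolvable_of_ker_le_range (commutator H).subtype (Abelianization.of : H →* Abelianization H)
    (by rw [Abelianization.ker_of, Subgroup.range_subtype])

theorem exists_fix [Finite F] {p : ℕ} [Fact p.Prime] [CharP F p]
    {P : Subgroup (Matrix.SpecialLinearGroup (Fin 2) F)} (hP : IsPGroup p P) :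
    ∃ v : Fin 2 → F, v ≠ 0 ∧ ∀ g ∈ P, (g : Matrix (Fin 2) (Fin 2) F).mulVec v = v := by
  let _ : MulAction P (Fin 2 → F) := MulAction.compHom (Fin 2 → F)
    ((Matrix.SpecialLinearGroup.toLin' (n := Fin 2) (R := F)).comp P.subtype)
  have hsm : ∀ (g : P) (w : Fin 2 → F), g • w = ((g : Matrix.SpecialLinearGroup (Fin 2) F) :
      Matrix (Fin 2) (Fin 2) F).mulVec w := fun g w => by
    change Matrix.SpecialLinearGroup.toLin' (g : Matrix.SpecialLinearGroup (Fin 2) F) w = _
    exact Matrix.SpecialLinearGroup.toLin'_apply _ _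
  have hcard : p ∣ Nat.card (Fin 2 → F) := by
    have : Fintype F := Fintype.ofFinite F
    obtain ⟨⟨k, hk0⟩, -, hk⟩ := FiniteField.card F p
    simp only [PNat.mk_coe] at hk
    rw [Nat.card_eq_fintype_card, Fintype.card_fun, hk, Fintype.card_fin]
    exact dvd_pow (dvd_pow_self p (by omega)) (by norm_num)
  obtain ⟨v, hv, hne⟩ := hP.exists_fixed_point_of_prime_dvd_card_of_fixed_point (Fin 2 → F) hcard
    (a := (0 : Fin 2 → F)) (fun g => (hsm g 0).trans (Matrix.mulVec_zero _))
  refine ⟨v, fun h => hne h.symm, fun g hg => ?_⟩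
  exact (hsm ⟨g, hg⟩ v).symm.trans (hv ⟨g, hg⟩)

end line

variable {I W Y : Type*} [Fintype I] [DecidableEq I] [Group W] [Fintype W] [Group Y] {M : CoxeterMatrix I}
  {cs : CoxeterSystem M W} {A : I → I → ℤ} {h : IsCartan M A} {p : ℕ} {T : Subgroup Y} {n : I → Y}
  {X : (I → ℤ) → Subgroup Y} {R : Set (I → ℤ)} {Z : (I → ℤ) → Subgroup Y} {z : (I → ℤ) → Y}

/-- The normaliser of a nontrivial `p`-subgroup of `SL₂(F)`, `F` of characteristic `p`, is solvable. -/
theorem SL.solvable_normalizer {F : Type*} [Field F] [Fintype F] {J P : Subgroup Y} (hJ : SL F J) (hp : p.Prime)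
    [CharP F p] (hP : P ≤ J) (hPp : IsPGroup p P) (hne : P ≠ ⊥) :
    Group.IsSolvable ↥(J ⊓ Subgroup.normalizer (P : Set Y)) := by
  have : Fact p.Prime := ⟨hp⟩
  obtain ⟨e⟩ := hJ.equiv
  have hP' : IsPGroup p ((P.subgroupOf J).map e.toMonoidHom) := (hPp.comap_subtype).map _
  obtain ⟨v, hv, hfix⟩ := exists_fix hP'
  -- a nontrivial element of `P`
  obtain ⟨x, hx, hx1⟩ : ∃ x ∈ P, x ≠ 1 := by
    by_contra hcon
    push Not at hcon
    exact hne ((Subgroup.eq_bot_iff_forall _).2 hcon)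
  set H : Subgroup J := (J ⊓ Subgroup.normalizer (P : Set Y)).subgroupOf J with hH
  have hsol : Group.IsSolvable ↥(H.map e.toMonoidHom) := by
    refine solvable_of_line hv ?_
    rintro _ ⟨g, hg, rfl⟩
    have hgN : (g : Y) ∈ Subgroup.normalizer (P : Set Y) := hg.2
    have hex1 : e ⟨x, hP hx⟩ ≠ 1 := by
      intro h1
      apply hx1
      have := e.injective (h1.trans (map_one e).symm)
      exact congrArg Subtype.val this
    refine smul_of_fix hv hex1 (hfix _ ⟨⟨x, hP hx⟩, hx, rfl⟩) ?_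
    -- `x g v = g (g⁻¹ x g) v = g v`
    have h2 : (g : Y)⁻¹ * x * g ∈ P := by
      have := (Subgroup.mem_normalizer_iff.1 (inv_mem hgN) x).1 hx
      rwa [inv_inv] at this
    have h3 := hfix (e ⟨(g : Y)⁻¹ * x * g, hP h2⟩) ⟨⟨_, hP h2⟩, h2, rfl⟩
    have h4 : e ⟨x, hP hx⟩ * e g = e g * e ⟨(g : Y)⁻¹ * x * g, hP h2⟩ := by
      rw [← map_mul, ← map_mul]
      congr 1
      apply Subtype.ext
      change x * (g : Y) = g * ((g : Y)⁻¹ * x * g)
      group
    change (e ⟨x, hP hx⟩ : Matrix (Fin 2) (Fin 2) F).mulVec ((e g : Matrix (Fin 2) (Fin 2) F).mulVec v) =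
      (e g : Matrix (Fin 2) (Fin 2) F).mulVec v
    rw [Matrix.mulVec_mulVec, ← Matrix.SpecialLinearGroup.coe_mul, h4, Matrix.SpecialLinearGroup.coe_mul,
      ← Matrix.mulVec_mulVec, h3]
  have e1 : ↥(J ⊓ Subgroup.normalizer (P : Set Y)) ≃* H :=
    (Subgroup.subgroupOfEquivOfLe inf_le_left).symm
  have e2 : H ≃* ↥(H.map e.toMonoidHom) := H.equivMapOfInjective _ e.injective
  exact Group.isSolvable_of_isSolvable_injective (f := (e1.trans e2).toMonoidHom) (e1.trans e2).injective

/-- A perfect subgroup normalising `J ≃ SL₂(F)` and a nontrivial `p`-subgroup of `J` centralises `J`. -/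
theorem comm_of_normalizes_SL {F : Type*} [Field F] [Fintype F] {J P K : Subgroup Y} (hSL : SL F J) (hp : p.Prime)
    [CharP F p] (hZJ : P ≤ J) (hpg : IsPGroup p P) (hne : P ≠ ⊥) (hKJ : K ≤ Subgroup.normalizer (J : Set Y))
    (hKP : ∀ k ∈ K, cj k P = P) (hK : ⁅K, K⁆ = K) : ∀ x ∈ K, ∀ y ∈ J, x * y = y * x := by
  have : Fact p.Prime := ⟨hp⟩
  have hsol : Group.IsSolvable ↥(J ⊓ Subgroup.normalizer (P : Set Y)) := hSL.solvable_normalizer hp hZJ hpg hne
  -- the image of `K` in `Aut J`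
  set K' : Subgroup (Subgroup.normalizer (J : Set Y)) := K.subgroupOf (Subgroup.normalizer (J : Set Y)) with hK'
  have hK'' : ⁅K', K'⁆ = K' := by
    apply Subgroup.map_injective (Subgroup.normalizer (J : Set Y)).subtype_injective
    rw [Subgroup.map_commutator, Subgroup.map_subgroupOf_eq_of_le hKJ, hK]
  set Q : Subgroup J := (J ⊓ Subgroup.normalizer (P : Set Y)).subgroupOf J with hQ
  have hQs : Group.IsSolvable Q :=
    Group.isSolvable_of_isSolvable_injective
      (f := (Subgroup.subgroupOfEquivOfLe inf_le_left : Q ≃* ↥(J ⊓ Subgroup.normalizer (P : Set Y))).toMonoidHom)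
      (Subgroup.subgroupOfEquivOfLe inf_le_left : Q ≃* ↥(J ⊓ Subgroup.normalizer (P : Set Y))).injective
  have hQm : Group.IsSolvable ↥(Q.map (MulAut.conj : J →* MulAut J)) :=
    Group.isSolvable_of_surjective (f := (MulAut.conj : J →* MulAut J).subgroupMap Q)
      ((MulAut.conj : J →* MulAut J).subgroupMap_surjective Q)
  have hle : K'.map J.normalizerMonoidHom ≤ Q.map (MulAut.conj : J →* MulAut J) := by
    rintro _ ⟨⟨k, hkN⟩, hk, rfl⟩
    have hkK : k ∈ K := hk
    obtain ⟨c, hc, hact⟩ := act_inner hSL hKJ hK hkK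
    refine ⟨⟨c, hc⟩, ⟨hc, ?_⟩, ?_⟩
    · change c ∈ Subgroup.normalizer (P : Set Y)
      rw [mem_normalizer_iff_cj]
      rw [← hKP k hkK]
      nth_rewrite 1 [hKP k hkK]
      ext x
      rw [mem_cj, mem_cj]
      constructor
      · intro hx
        have h1 := hact _ (hZJ hx)
        have h2 : c * (c⁻¹ * x * c) * c⁻¹ = x := by group
        rw [h2] at h1
        rw [← h1]
        have h3 : k⁻¹ * (k * (c⁻¹ * x * c) * k⁻¹) * k = c⁻¹ * x * c := by group
        rw [h3]; exact hx
      · intro hx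
        have h1 := hact _ (hZJ hx)
        have h2 : k * (k⁻¹ * x * k) * k⁻¹ = x := by group
        rw [h2] at h1
        rw [h1]
        have h3 : c⁻¹ * (c * (k⁻¹ * x * k) * c⁻¹) * c = k⁻¹ * x * k := by group
        rw [h3]; exact hx
    · apply MulEquiv.ext
      intro x
      apply Subtype.ext
      exact (hact x x.2).symm
  have hbot : K'.map J.normalizerMonoidHom = ⊥ := by
    have hs' : Group.IsSolvable ↥(K'.map J.normalizerMonoidHom) :=
      Group.isSolvable_of_isSolvable_injective (f := Subgroup.inclusion hle) (Subgroup.inclusion_injective hle)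
    by_contra hne
    have h1 : ⁅K'.map J.normalizerMonoidHom, K'.map J.normalizerMonoidHom⁆ = K'.map J.normalizerMonoidHom := by
      rw [← Subgroup.map_commutator, hK'']
    have h2 : Nontrivial ↥(K'.map J.normalizerMonoidHom) := by
      rwa [Subgroup.nontrivial_iff_ne_bot]
    have h3 := Group.IsSolvable.commutator_lt_top_of_nontrivial ↥(K'.map J.normalizerMonoidHom)
    apply h3.ne
    apply Subgroup.map_injective (K'.map J.normalizerMonoidHom).subtype_injective
    rw [commutator_def, Subgroup.map_commutator, ← MonoidHom.range_eq_map, Subgroup.range_subtype, h1]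
  intro x hx y hy
  have h1 : J.normalizerMonoidHom ⟨x, hKJ hx⟩ = 1 := by
    have h2 : J.normalizerMonoidHom ⟨x, hKJ hx⟩ ∈ K'.map J.normalizerMonoidHom :=
      Subgroup.mem_map_of_mem _ hx
    rwa [hbot, Subgroup.mem_bot] at h2
  have h2 := congrArg (fun f : MulAut J => ((f ⟨y, hy⟩ : J) : Y)) h1
  have h3 : x * y * x⁻¹ = y := h2
  exact mul_inv_eq_iff_eq_mul.1 h3

/-- A perfect subgroup of the torus centralises `KK Z s`. -/
theorem comm_of_le_T_KK (C : Cls cs h p T n X R Z z) (hp : p.Prime) {F : Type*} [Field F] [Fintype F]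
    [CharP F p] {s : I → ℤ} (hs : s ∈ R) (hSL : SL F (KK Z s)) {K : Subgroup Y} (hK : ⁅K, K⁆ = K) (hKT : K ≤ T) :
    ∀ x ∈ K, ∀ y ∈ KK Z s, x * y = y * x := by
  have hTJ : T ≤ Subgroup.normalizer (KK Z s : Set Y) := by
    intro t ht
    rw [mem_normalizer_iff_cj]
    unfold KK
    rw [cj_sup, C.tor s hs t ht, C.tor _ (neg_mem C hs) t ht]
  exact comm_of_normalizes_SL hSL hp le_sup_left ((C.rgd.pgrp' (C.root s hs)).to_le (C.le s hs)) (C.ne_bot s hs)
    (hKT.trans hTJ) (fun k hk => C.tor s hs k (hKT hk)) hK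

/-- A perfect subgroup of the torus centralises `LL X b ≃ SL₂(F)`. -/
theorem comm_of_le_T (D : RGD cs h p T n X) (hp : p.Prime) {F : Type*} [Field F] [Fintype F]
    [CharP F p] {b : I → ℤ} (hb : IsRoot cs h b) (hSL : SL F (LL X b)) {K : Subgroup Y} (hKT : K ≤ T)
    (hK : ⁅K, K⁆ = K) : ∀ x ∈ K, ∀ y ∈ LL X b, x * y = y * x := by
  have hTJ : T ≤ Subgroup.normalizer (LL X b : Set Y) := by
    intro t ht
    rw [mem_normalizer_iff_cj]
    unfold LL
    rw [cj_sup, D.tor b hb t ht, D.tor _ hb.neg t ht]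
  exact comm_of_normalizes_SL hSL hp le_sup_left (D.pgrp' hb) (X_ne_bot D hb)
    (hKT.trans hTJ) (fun k hk => D.tor b hb k (hKT hk)) hK

/-- simple version of `mem_T_of_normalizes` -/
theorem mem_T_of_normalizes_sr [Finite Y] (D : RGD cs h p T n X) {i : I} {g : Y} (hg : g ∈ T ⊔ LL X (sr i))
    (h1 : cj g (X (sr i)) = X (sr i)) (h2 : cj g (X (-sr i)) = X (-sr i)) : g ∈ T := by
  have hne : X (sr i) ≠ X (-sr i) := by
    intro he
    apply X_ne_bot D (isRoot_sr cs h i)
    rw [Subgroup.eq_bot_iff_forall]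
    intro x hx
    have hk := rp_simple cs D.nsys i
    refine eq_one_of_conj_mem_B D hx hk ?_
    have h3 := D.conj_mem hk (isRoot_sr cs h i) hx
    rw [rep_simple_sr, ← he] at h3
    exact BJ_le_B (cs := cs) (h := h) (T := T) (X := X) {i} (X_le_BJ (sr_mem_PosJ (cs := cs) (h := h)
      (Set.mem_singleton i)) h3)
  rw [← LJ_singleton (cs := cs) (h := h)] at hg
  obtain ⟨w, hw, b₁, hb₁, k, hk, b₂, hb₂, e⟩ := exists_cellJ D hg
  have hB : ∀ b ∈ BJ cs h T X {i}, cj b (X (sr i)) = X (sr i) := fun b hb =>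
    mem_normalizer_iff_cj.1 (BJ_le_normalizer_X D i hb)
  rcases mem_WJ_singleton hw with rfl | rfl
  · have hg' : g ∈ BJ cs h T X {i} := by
      rw [e]
      exact mul_mem (mul_mem hb₁ (T_le_BJ hk.mem_of_one)) hb₂
    obtain ⟨u, hu, t, ht, rfl⟩ := mem_BJ_singleton D hg'
    have hu2 : cj u (X (-sr i)) = X (-sr i) := by
      rw [cj_mul, D.tor _ (isRoot_sr cs h i).neg t ht] at h2
      exact h2
    have hu1 : u = 1 := by
      by_contra hu1
      obtain ⟨a, ha, c, hc, w, hw', hact⟩ := exists_refl_LL D (x := -sr i) (isRoot_sr cs h i).neg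
        (b := u) (by rwa [neg_neg]) hu1
      have h3 := D.conj_rp hw' (isRoot_sr cs h i).neg
      rw [hact, cpr_self cs h (isRoot_sr cs h i).neg] at h3
      have h4 : cj (a * u * c) (X (-sr i)) = X (-sr i) := by
        rw [cj_mul, cj_mul, mem_normalizer_iff_cj.1 (Subgroup.le_normalizer hc), hu2,
          mem_normalizer_iff_cj.1 (Subgroup.le_normalizer ha)]
      rw [h4] at h3
      apply hne
      rw [h3]
      congr 1
      module
    rw [hu1, one_mul]; exact ht
  · exfalso
    apply hne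
    have h3 : cj k (X (sr i)) = X (sr i) := by
      have h4 := h1
      rw [e, cj_mul, cj_mul, hB b₂ hb₂] at h4
      have h5 := congrArg (cj b₁⁻¹) h4
      rw [cj_inv_cj, hB _ (inv_mem hb₁)] at h5
      exact h5
    rw [← h3, D.conj_rp hk (isRoot_sr cs h i), rep_simple_sr]

/-- An element of `T ⟨X b, X (-b)⟩` normalising `X b` and `X (-b)` lies in `T`. -/
theorem mem_T_of_normalizes [Finite Y] (D : RGD cs h p T n X) {b : I → ℤ} (hb : IsRoot cs h b) {g : Y}
    (hg : g ∈ T ⊔ LL X b) (h1 : cj g (X b) = X b) (h2 : cj g (X (-b)) = X (-b)) : g ∈ T := by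
  obtain ⟨w, i, rfl⟩ := hb
  obtain ⟨k, hk⟩ := exists_rp cs D.nsys w⁻¹
  have hX : cj k (X (rep cs h w (sr i))) = X (sr i) := by
    rw [D.conj_rp hk ⟨w, i, rfl⟩, rep_inv_apply]
  have hX' : cj k (X (-rep cs h w (sr i))) = X (-sr i) := by
    rw [D.conj_rp hk (IsRoot.neg ⟨w, i, rfl⟩), map_neg, rep_inv_apply]
  have hTL : cj k (T ⊔ LL X (rep cs h w (sr i))) = T ⊔ LL X (sr i) := by
    rw [cj_sup, cj_T D hk, cj_LL D hk ⟨w, i, rfl⟩, rep_inv_apply]
  have h3 : k * g * k⁻¹ ∈ T := by
    refine mem_T_of_normalizes_sr (cs := cs) (h := h) (i := i) D ?_ ?_ ?_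
    · rw [← hTL]; exact conj_mem_cj.2 hg
    · rw [cj_mul, cj_mul, ← hX, cj_inv_cj, h1]
    · rw [cj_mul, cj_mul, ← hX', cj_inv_cj, h2]
  rw [← cj_T D hk] at h3
  exact conj_mem_cj.1 h3

end Cfsg.Agent.OddHalf.NI.FTwo
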