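import Cfsg.Agent.OddHalf.NI.LemmaP
import Cfsg.Agent.OddHalf.NI.FTwo.ChartB
import Cfsg.Agent.OddHalf.NI.FTwo.Levi
import Cfsg.Agent.OddHalf.NI.FTwo.InT
import Cfsg.Agent.Nodes.ChartFrame

/-!
# NI (F2'): the components of `C(d)` in a chart in position `PosB3`
-/

set_option autoImplicit false
set_option linter.unusedSectionVars false
set_option linter.dupNamespace false

namespace Cfsg.Agent.OddHalf.NI.FTwo

open Cfsg
open CoxeterSystem Cfsg.Agent.ChevalleyStructure.CoxeterGeom Cfsg.Agent.Tits.Roots Cfsg.Agent.Tits.Core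
  Cfsg.Agent.Tits.RootComb Cfsg.Agent.Nodes.Comb Cfsg.Agent.Nodes.Reps Cfsg.Agent.Nodes.BNOf
  Cfsg.Agent.Nodes.RGDLib Cfsg.Agent.Nodes.Chart Cfsg.Agent.Nodes.Coroot Cfsg.Agent.Nodes.FreeTorus
  Cfsg.Agent.Nodes.SubComb Cfsg.Agent.Nodes.Bruhat Cfsg.Agent.Nodes.StabComb Cfsg.Agent.Nodes.Perp
open Cfsg.Agent.Cit (Hyp zz)

variable {N : Type*} [Group N] {Om : Set (Subgroup N)} {p : ℕ} {C : Chart Om p (⊤ : Subgroup N)} {F : Type}
  [Field F] [Fintype F] {c d : N} {A B A' : Subgroup N} {r r' b : C.I → ℤ}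

namespace PosB3

theorem KL (P : PosB3 C F c d A B A' r r' b) {s : C.I → ℤ} (hs : s ∈ C.R) : KK C.Z s = LL C.X s := by
  unfold KK LL
  rw [P.zx s hs, P.zx _ (Nodes.Perp.neg_mem C.cls hs)]

theorem SLall (P : PosB3 C F c d A B A' r r' b) (h3 : 3 < Fintype.card F) {y : C.I → ℤ}
    (hy : IsRoot C.cs C.h y) : SL F (LL C.X y) := ⟨P.odd, h3, P.sl y hy⟩

theorem conj_r (P : PosB3 C F c d A B A' r r' b) {s : C.I → ℤ} (hs : s ∈ C.R) :
    ∃ g : N, C.z s = g * d * g⁻¹ := by
  obtain ⟨w, rfl⟩ := C.trans r P.r_mem s hs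
  obtain ⟨k, hk⟩ := exists_rp C.cs C.cls.rgd.nsys w
  exact ⟨k, by rw [← P.zr]; exact (Nodes.ClsNorm.conj_z C.cls hk P.r_mem).symm⟩

theorem big (P : PosB3 C F c d A B A' r r' b) (hOm : Hyp Om) (h3 : 3 < Fintype.card F) :
    Big F Om C.R C.Z C.z where
  hyp := hOm
  mem := C.om
  sl := fun s hs => by rw [P.KL hs]; exact P.SLall h3 (C.cls.root s hs)
  z_ne := fun s hs h0 => by
    obtain ⟨g, hg⟩ := P.conj_r hs
    have h1 : d = 1 := by
      have : g * d * g⁻¹ = 1 := by rw [← hg, h0]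
      calc d = g⁻¹ * (g * d * g⁻¹) * g := by group
        _ = 1 := by rw [this]; group
    have h2 := P.d_order
    rw [h1, orderOf_one] at h2
    exact absurd h2 (by norm_num)

theorem cent_eq (P : PosB3 C F c d A B A' r r' b) :
    Subgroup.centralizer {C.z r'} = Subgroup.centralizer ({d} : Set N) := by
  ext x
  rw [P.zr', Subgroup.mem_centralizer_singleton_iff, Subgroup.mem_centralizer_singleton_iff]
  have hc := Subgroup.mem_center_iff.1 P.c_center
  constructor
  · intro hx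
    have h1 : c * (x * d) = c * (d * x) := by
      calc c * (x * d) = x * (c * d) := by rw [← mul_assoc, ← hc x, mul_assoc]
        _ = c * (d * x) := by rw [hx, mul_assoc]
    exact mul_left_cancel h1
  · intro hx
    calc x * (c * d) = c * (x * d) := by rw [← mul_assoc, hc x, mul_assoc]
      _ = c * d * x := by rw [hx, mul_assoc]

theorem isComp_r (P : PosB3 C F c d A B A' r r' b) [Finite N] (hOm : Hyp Om) (h3 : 3 < Fintype.card F)
    {s : C.I → ℤ} (hs : s ∈ C.R) : CompIn (Subgroup.centralizer {C.z s}) (LL C.X s) := by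
  have BB := P.big hOm h3
  have h1 := hOm.le_centralizer (C.om s hs)
  have h2 := hOm.sub _ (C.om s hs)
  change KK C.Z s ≤ Subgroup.centralizer {Cfsg.Agent.Cit.zz (KK C.Z s)} at h1
  change ((KK C.Z s).subgroupOf (Subgroup.centralizer {Cfsg.Agent.Cit.zz (KK C.Z s)})).IsSubnormal at h2
  rw [BB.zz_eq C.cls hs, P.KL hs] at h1 h2
  exact ⟨h1, h2, Cfsg.Agent.SignalizersComponents.Components.isQuasisimple_of_mulEquiv
    (Subgroup.subgroupOfEquivOfLe h1).symm (P.SLall h3 (C.cls.root s hs)).quasisimple⟩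

/-- **The components of `C(d)`** in a chart in position `PosB3`. -/
theorem comps (P : PosB3 C F c d A B A' r r' b) [Finite N] (hq : IsQuasisimple N) (hOm : Hyp Om)
    (h3 : 3 < Fintype.card F) (hA : CompIn (Subgroup.centralizer {d}) A) :
    CompIn (Subgroup.centralizer {d}) B ∧ CompIn (Subgroup.centralizer {d}) A' ∧
      ∀ K : Subgroup N, CompIn (Subgroup.centralizer {d}) K → K = A ∨ K = B ∨ K = A' := by
  have hB : CompIn (Subgroup.centralizer {d}) B := by
    rw [P.B_eq, ← P.zr]; exact P.isComp_r hOm h3 P.r_mem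
  have hA' : CompIn (Subgroup.centralizer {d}) A' := by
    rw [P.A'_eq, ← P.cent_eq]; exact P.isComp_r hOm h3 P.r'_mem
  refine ⟨hB, hA', fun K hK => ?_⟩
  by_contra hcon
  push Not at hcon
  obtain ⟨hKA, hKB, hKA'⟩ := hcon
  have hG : GG C.cs C.h C.T C.X = ⊤ := Nodes.ChartFrame.GG_eq C
  have hp : p.Prime := C.prime
  have := P.charP
  have cm : ∀ L : Subgroup N, CompIn (Subgroup.centralizer {d}) L → K ≠ L → ∀ x ∈ K, ∀ y ∈ L, x * y = y * x := by
    intro L hL hne x hx y hy
    exact ((Subgroup.mem_centralizer_iff.1 (hK.comm hL hne hx)) y hy).symm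
  have hcA := cm A hA hKA
  have hcB : ∀ x ∈ K, ∀ y ∈ KK C.Z r, x * y = y * x := by
    rw [P.KL P.r_mem, ← P.B_eq]; exact cm B hB hKB
  have hcA' : ∀ x ∈ K, ∀ y ∈ KK C.Z r', x * y = y * x := by
    rw [P.KL P.r'_mem, ← P.A'_eq]; exact cm A' hA' hKA'
  have hDD : DD C.cs C.h C.X {r, r'} ≤ LL C.X b := by
    refine RGD.Sup_le fun y hy => ?_
    have h1 := hy.2 r (Or.inl rfl)
    have h2 := hy.2 r' (Or.inr rfl)
    have h3 := form_pos C.cs C.h (C.cls.root r' P.r'_mem).ne_zero
    rcases P.perp y hy.1 h1 with rfl | rfl | rfl | rfl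
    · omega
    · rw [form_neg_left] at h2; omega
    · exact le_sup_left
    · exact le_sup_right
  have hKT : K ≤ C.T ⊔ LL C.X b :=
    (le_T_DD₂ C.cls P.r_mem P.r'_mem (by rw [form_comm]; exact P.rr') (by rw [hG]; exact le_top) hcB hcA').trans
      (sup_le_sup_left hDD _)
  have hcjX : ∀ g ∈ K, ∀ L : Subgroup N, L ≤ A → cj g L = L := by
    intro g hg L hL
    ext x
    rw [mem_cj]
    constructor
    · intro hx
      have h1 := hcA g hg _ (hL hx)
      have h2 : g⁻¹ * x * g = x := by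
        have h4 : x * g = g * (g⁻¹ * x * g) := by group
        rw [h1] at h4
        have h5 : x = g⁻¹ * x * g := mul_right_cancel h4
        exact h5.symm
      rw [h2] at hx; exact hx
    · intro hx
      have h1 := hcA g hg _ (hL hx)
      have h2 : g⁻¹ * x * g = x := by rw [mul_assoc, ← h1]; group
      rw [h2]; exact hx
  have hKT' : K ≤ C.T := by
    intro g hg
    refine mem_T_of_normalizes C.cls.rgd P.b_root (hKT hg) (hcjX g hg _ ?_) (hcjX g hg _ ?_)
    · rw [P.A_eq]; exact le_sup_left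
    · rw [P.A_eq]; exact le_sup_right
  have hKX : ∀ y, IsRoot C.cs C.h y → ∀ g ∈ K, ∀ x ∈ LL C.X y, g * x = x * g := fun y hy =>
    comm_of_le_T C.cls.rgd hp hy (P.SLall h3 hy) hKT' hK.perfect
  -- the subgroup generated by the root groups is `N`
  set E : Subgroup N := RGD.Sup C.X {y | IsRoot C.cs C.h y} with hE
  have hXE : ∀ y, IsRoot C.cs C.h y → C.X y ≤ E := fun y hy => RGD.le_Sup hy
  have hEn : E.Normal := by
    rw [← Subgroup.normalizer_eq_top_iff, ← top_le_iff, ← hG]
    refine sup_le (fun t ht => ?_) Subgroup.le_normalizer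
    rw [mem_normalizer_iff_cj]
    apply le_antisymm
    · intro x hx
      rw [mem_cj] at hx
      have h1 : E ≤ cj t⁻¹ E := RGD.Sup_le fun y hy => by
        rw [← C.cls.rgd.tor y hy t⁻¹ (inv_mem ht)]
        exact cj_mono _ (hXE y hy)
      have h2 := h1 hx
      rw [mem_cj] at h2
      have h3 : t⁻¹⁻¹ * (t⁻¹ * x * t) * t⁻¹ = x := by group
      rwa [h3] at h2
    · refine RGD.Sup_le fun y hy => ?_
      rw [← C.cls.rgd.tor y hy t ht]
      exact cj_mono _ (hXE y hy)
  have hLE : ∀ y, IsRoot C.cs C.h y → LL C.X y ≤ E := fun y hy => sup_le (hXE y hy) (hXE _ hy.neg)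
  have hEtop : E = ⊤ := by
    rcases Cfsg.Agent.SignalizersComponents.Components.quasisimple_normal hq E hEn with h1 | h1
    · exact h1
    · exfalso
      apply Cfsg.Agent.SignalizersComponents.Components.quasisimple_center_ne_top
        (P.SLall h3 P.b_root).quasisimple
      rw [eq_top_iff]
      intro x _
      rw [Subgroup.mem_center_iff]
      intro y
      exact Subtype.ext ((Subgroup.mem_center_iff.1 (h1 (hLE b P.b_root x.2))) y)
  have hKc : ∀ g ∈ K, ∀ x : N, g * x = x * g := by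
    intro g hg x
    have h1 : E ≤ Subgroup.centralizer {g} := RGD.Sup_le fun y hy z hz => by
      rw [Subgroup.mem_centralizer_singleton_iff]
      exact (hKX y hy g hg z (Subgroup.mem_sup_left hz)).symm
    have h2 : x ∈ E := by rw [hEtop]; trivial
    exact (Subgroup.mem_centralizer_singleton_iff.1 (h1 h2)).symm
  apply Cfsg.Agent.SignalizersComponents.Components.quasisimple_center_ne_top hK.quasi
  rw [eq_top_iff]
  intro x _
  rw [Subgroup.mem_center_iff]
  intro y
  exact Subtype.ext (hKc x x.2 y).symm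

end PosB3

end Cfsg.Agent.OddHalf.NI.FTwo
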