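import Cfsg.Agent.Cit.TPieces
import Cfsg.Agent.Cit.UniOm
import Cfsg.Agent.Cit.Seven
import Cfsg.Agent.Nodes.ClsNorm
import Cfsg.Agent.OddHalf.NI.LemmaP
import Cfsg.Agent.SignalizersComponents.EvenComponent
import Cfsg.Agent.OddHalf.NI.FTwo.Norm

/-!
# NI (F2'): the piece of a quasisimple group

* `piece_top` : the pieces of a quasisimple group: only the whole group;
* `entry` : in the situation of (F2'): `Hyp (cls B)`, `zz B = d`, `d ∉ Z(N)`, `Piece (cls B) ⊤`.
-/

set_option autoImplicit false
set_option linter.dupNamespace false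

namespace Cfsg.Agent.OddHalf.NI.FTwo

open Subgroup Cfsg
open Cfsg.Agent.Cit (cj mem_cj conj_mem_cj zz Hyp cls self_mem_cls TStmt HasPieces Piece)
open Cfsg.Agent.SignalizersComponents.Components

universe u

section

variable {N : Type u} [Group N]

theorem isQuasisimple_top (hN : IsQuasisimple N) : IsQuasisimple ↥(⊤ : Subgroup N) :=
  isQuasisimple_of_mulEquiv Subgroup.topEquiv.symm hN

theorem isComponent_top (hN : IsQuasisimple N) : IsComponent (⊤ : Subgroup N) :=
  ⟨Subgroup.IsSubnormal.top, isQuasisimple_top hN⟩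

/-- a component of a quasisimple group is the whole group -/
theorem eq_top_of_component [Finite N] (hN : IsQuasisimple N) {K : Subgroup N} (hK : IsComponent K) : K = ⊤ := by
  by_contra hne
  have h1 := component_le_centralizer_of_ne hK (isComponent_top hN) hne
  rw [Subgroup.coe_top, Subgroup.centralizer_univ] at h1
  have h2 : ∀ x y : K, x * y = y * x := fun x y =>
    Subtype.ext ((mem_center_iff.1 (h1 x.2)) y).symm
  have h3 := hK.2.1.commutator_eq_top
  have h4 : commutator K = ⊥ := by
    rw [commutator_eq_bot_iff_center_eq_top, eq_top_iff]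
    exact fun x _ => mem_center_iff.2 fun y => (h2 x y).symm
  rw [h4] at h3
  have h5 : Subsingleton K := by
    rw [← Subgroup.subsingleton_iff]
    exact ⟨fun a b => by
      have : ∀ c : Subgroup K, c = ⊥ := fun c => le_bot_iff.1 (by rw [h3]; exact le_top)
      rw [this a, this b]⟩
  have h6 : Nontrivial (K ⧸ center K) := hK.2.2.toNontrivial
  have h7 : Nontrivial K := by
    obtain ⟨a, b, hab⟩ := h6
    obtain ⟨x, rfl⟩ := QuotientGroup.mk_surjective a
    obtain ⟨y, rfl⟩ := QuotientGroup.mk_surjective b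
    exact ⟨x, y, fun e => hab (by rw [e])⟩
  exact not_subsingleton K h5

theorem core_eq_bot [Finite N] (hN : IsQuasisimple N) (hc : IsPGroup 2 (center N)) {t : N} (ht : orderOf t = 2) :
    pPrimeCore 2 N = ⊥ := by
  have hn : (pPrimeCore 2 N).Normal := Lib.Cores.pPrimeCore_normal 2
  have hodd : ¬ 2 ∣ Nat.card (pPrimeCore 2 N) := Cit.not_two_dvd_oddCore N
  rcases SignalizersComponents.LayerBasic.quasisimple_normal hN _ hn with h1 | h1
  · exfalso
    apply hodd
    rw [h1, Subgroup.card_top, ← ht]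
    exact orderOf_dvd_natCard t
  · obtain ⟨k, hk⟩ := IsPGroup.iff_card.1 (hc.to_le h1)
    rcases Nat.eq_zero_or_pos k with h0 | h0
    · rw [h0, pow_zero] at hk
      exact Subgroup.eq_bot_of_card_eq _ hk
    · exact absurd (by rw [hk]; exact dvd_pow_self 2 (by omega)) hodd

/-- **Pieces of a quasisimple group.** -/
theorem piece_top [Finite N] (hN : IsQuasisimple N) {Om : Set (Subgroup N)} (hOm : Hyp Om) (hne : Om.Nonempty)
    (hp : HasPieces Om) : Piece Om (⊤ : Subgroup N) := by
  obtain ⟨K₀, hK₀⟩ := hne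
  obtain ⟨𝒟, h1, h2, h3⟩ := hp.fam
  obtain ⟨D, hD, hKD⟩ := h3 K₀ hK₀
  have hS : sSup Om = ⊤ := Cit.Hyp.eq_sSup_of_quasisimple hOm (isQuasisimple_top hN)
    (C := Om) (fun K hK => ⟨hK, le_top⟩) ⟨K₀, hK₀⟩ (fun K hK g _ => hOm.conj K hK g)
  have hDn : D ≤ ⊤ ∧ (⊤ : Subgroup N) ≤ normalizer (D : Set N) := by
    refine ⟨le_top, ?_⟩
    rw [← hS]
    refine sSup_le fun K hK => ?_
    obtain ⟨E, hE, hKE⟩ := h3 K hK
    by_cases hED : E = D
    · rw [hED] at hKE; exact hKE.trans le_normalizer
    · exact (hKE.trans (h2 E hE D hD hED)).trans (Nodes.ClsNorm.centralizer_le_normalizer' _)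
  have hDN : D.Normal := Subgroup.normalizer_eq_top_iff.1 (top_le_iff.1 hDn.2)
  rcases SignalizersComponents.LayerBasic.quasisimple_normal hN _ hDN with h4 | h4
  · rw [← h4]; exact h1 D hD
  · exfalso
    refine Cit.Hyp.not_le_centralizer_self hOm hK₀ fun x hx => ?_
    rw [mem_centralizer_iff]
    exact fun y _ => (mem_center_iff.1 (h4 (hKD hx))) y

/-- **The entry of (F2').** -/
theorem entry [Finite N] (hT : TStmt.{u}) (hN : IsQuasisimple N) (hc : IsPGroup 2 (center N)) {d : N}
    {A B : Subgroup N} (hd : orderOf d = 2) (hdB : d ∈ B) (hAB : A ≠ B)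
    (hA : CompIn (centralizer ({d} : Set N)) A) (hB : CompIn (centralizer ({d} : Set N)) B)
    {F : Type} [Field F] [Fintype F] (hBs : SL F B) :
    d ∉ center N ∧ Hyp (cls B) ∧ zz B = d ∧ Piece (cls B) (⊤ : Subgroup N) := by
  have hdc : d ∉ center N := by
    intro h1
    have h2 : centralizer ({d} : Set N) = ⊤ := by
      rw [eq_top_iff]
      intro x _
      rw [mem_centralizer_singleton_iff]
      exact (mem_center_iff.1 h1) x
    have key : ∀ K : Subgroup N, CompIn (centralizer ({d} : Set N)) K → K = ⊤ := by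
      intro K hK
      rw [h2] at hK
      refine eq_top_of_component hN ?_
      have h3 := hK.comp
      refine ⟨?_, isQuasisimple_of_mulEquiv (subgroupOfEquivOfLe le_top) h3.2⟩
      have h4 := h3.1.map (f := (Subgroup.topEquiv : (⊤ : Subgroup N) ≃* N).toMonoidHom)
        (Subgroup.topEquiv : (⊤ : Subgroup N) ≃* N).surjective
      convert h4 using 1
      ext x
      rw [mem_map]
      exact ⟨fun hx => ⟨⟨x, trivial⟩, hx, rfl⟩, by rintro ⟨y, hy, rfl⟩; exact hy⟩
    exact hAB ((key A hA).trans (key B hB).symm)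
  have hO : oddCore B = ⊥ := by
    have hn : (oddCore B).Normal := Lib.Cores.pPrimeCore_normal 2
    have hodd : ¬ 2 ∣ Nat.card (oddCore B) := Cit.not_two_dvd_oddCore B
    rcases SignalizersComponents.LayerBasic.quasisimple_normal hBs.quasisimple _ hn with h1 | h1
    · exfalso
      apply hodd
      rw [h1, Subgroup.card_top]
      have h2 : orderOf (⟨d, hdB⟩ : B) = 2 := by rw [← Subgroup.orderOf_coe]; exact hd
      rw [← h2]
      exact orderOf_dvd_natCard _
    · rw [eq_bot_iff]
      intro x hx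
      rw [mem_bot]
      have hcx : x * x = 1 := by
        obtain ⟨f⟩ := hBs.equiv
        have h3 : f x ∈ center (Matrix.SpecialLinearGroup (Fin 2) F) := by
          rw [mem_center_iff]
          intro g
          have h4 := (mem_center_iff.1 (h1 hx)) (f.symm g)
          have h5 := congrArg f h4
          rwa [map_mul, map_mul, MulEquiv.apply_symm_apply] at h5
        rw [Matrix.SpecialLinearGroup.mem_center_iff] at h3
        obtain ⟨a, ha, hax⟩ := h3
        apply f.injective
        rw [map_mul, map_one]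
        apply Subtype.ext
        rw [Fintype.card_fin] at ha
        change ((f x : Matrix.SpecialLinearGroup (Fin 2) F) : Matrix (Fin 2) (Fin 2) F) *
          ((f x : Matrix.SpecialLinearGroup (Fin 2) F) : Matrix (Fin 2) (Fin 2) F) = 1
        rw [← hax, ← map_mul, ← pow_two, ha, map_one]
      have h2 : orderOf x ∣ 2 := orderOf_dvd_of_pow_eq_one (by rw [pow_two]; exact hcx)
      rcases (Nat.dvd_prime Nat.prime_two).1 h2 with h3 | h3
      · exact orderOf_eq_one_iff.1 h3
      · exfalso
        apply hodd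
        have h4 : orderOf (⟨x, hx⟩ : oddCore B) = 2 := by rw [← Subgroup.orderOf_coe]; exact h3
        rw [← h4]
        exact orderOf_dvd_natCard _
  have hperf : ⁅B, B⁆ = B := commutator_eq_of_quasisimple hBs.quasisimple
  have e : B ⧸ oddCore B ≃* B := (QuotientGroup.quotientMulEquivOfEq hO).trans QuotientGroup.quotientBot
  have hbig : Cit.Seven.IsBig (↥B ⧸ oddCore ↥B) := by
    obtain ⟨f⟩ := hBs.equiv
    exact Or.inl ⟨F, inferInstance, inferInstance, hBs.odd, hBs.three, ⟨e.trans f⟩⟩
  have hp2 : Fact (Nat.Prime 2) := ⟨Nat.prime_two⟩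
  have hpc : IsPComponent 2 (B.subgroupOf (centralizer ({d} : Set N))) := by
    refine SignalizersComponents.EvenComponent.isPComponent_of_isComponent hB.comp ?_
    rw [Nat.card_congr (subgroupOfEquivOfLe hB.le).toEquiv, ← hd]
    have h1 : orderOf d = orderOf (⟨d, hdB⟩ : B) := by rw [← Subgroup.orderOf_coe]
    rw [h1]
    exact orderOf_dvd_natCard _
  obtain ⟨hOm, hzz⟩ := Cit.Seven.hyp_of_comp d hd B hB.le hdB hpc hbig
  refine ⟨hdc, hOm, hzz, ?_⟩
  have hTy : Cit.Ty B := by
    obtain ⟨f⟩ := hBs.equiv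
    exact Or.inr ⟨Or.inl ⟨F, inferInstance, inferInstance, hBs.odd, ⟨e.trans f⟩⟩, hperf⟩
  have hTT := hT N (cls B) hOm (fun J hJ => by
    obtain ⟨g, rfl⟩ := hJ
    exact hTy.map_of_injective (MulAut.conj g).toMonoidHom (MulAut.conj g).injective) (Cfsg.Agent.Cit.uni_cls B)
  exact piece_top hN hOm ⟨B, self_mem_cls B⟩ ((Cit.tt_iff_hasPieces hOm (core_eq_bot hN hc hd)).1 hTT)

end

end Cfsg.Agent.OddHalf.NI.FTwo
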