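import Cfsg.Agent.OddHalf.NI.Props
import Cfsg.Agent.OddHalf.NI.FTwo.ChartMain
import Cfsg.Agent.OddHalf.NI.FTwo.Comps
import Cfsg.Agent.OddHalf.NI.FTwo.Entry
import Cfsg.Agent.OddHalf.NI.FTwo.ZNe
import Cfsg.Agent.OddHalf.NI.FTwo.CjTop
import Cfsg.Agent.OddHalf.NI.FTwo.Comb

/-!
# NI (F2'): assembly
-/

set_option autoImplicit false
set_option linter.dupNamespace false

namespace Cfsg.Agent.OddHalf.NI.FTwo

open Subgroup Cfsg
open Cfsg.Agent.Cit (cj mem_cj conj_mem_cj zz Hyp cls self_mem_cls TStmt HasPieces Piece)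
open Cfsg.Agent.SignalizersComponents.Components
open Cfsg.Agent.Nodes.Chart (Chart)

universe u

theorem SL.oddCore_eq_bot {N : Type*} [Group N] [Finite N] {F : Type*} [Field F] [Fintype F] {B : Subgroup N}
    (hBs : SL F B) : oddCore B = ⊥ := by
  have hn : (oddCore B).Normal := Lib.Cores.pPrimeCore_normal 2
  have hodd : ¬ 2 ∣ Nat.card (oddCore B) := Cit.not_two_dvd_oddCore B
  rcases SignalizersComponents.LayerBasic.quasisimple_normal hBs.quasisimple _ hn with h1 | h1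
  · exfalso
    apply hodd
    rw [h1, Subgroup.card_top]
    obtain ⟨z, hz, -⟩ := hBs.unique
    rw [← hz]
    exact orderOf_dvd_natCard _
  · rw [eq_bot_iff]
    intro x hx
    rw [mem_bot]
    have hcx : x * x = 1 := by
      obtain ⟨f⟩ := hBs.equiv
      have h3 : f x ∈ center (Matrix.SpecialLinearGroup (Fin 2) F) := by
        rw [mem_center_iff]
        intro g
        have h4 := (mem_center_iff.1 (h1 hx)) (f.symm g)
        have h5 := congrArg f h4
        rwa [map_mul, map_mul, MulEquiv.apply_symm_apply] at h5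
      rw [Matrix.SpecialLinearGroup.mem_center_iff] at h3
      obtain ⟨a, ha, hax⟩ := h3
      apply f.injective
      rw [map_mul, map_one]
      apply Subtype.ext
      rw [Fintype.card_fin] at ha
      change ((f x : Matrix.SpecialLinearGroup (Fin 2) F) : Matrix (Fin 2) (Fin 2) F) *
        ((f x : Matrix.SpecialLinearGroup (Fin 2) F) : Matrix (Fin 2) (Fin 2) F) = 1
      rw [← hax, ← map_mul, ← pow_two, ha, map_one]
    have h2 : orderOf x ∣ 2 := orderOf_dvd_of_pow_eq_one (by rw [pow_two]; exact hcx)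
    rcases (Nat.dvd_prime Nat.prime_two).1 h2 with h3 | h3
    · exact orderOf_eq_one_iff.1 h3
    · exfalso
      apply hodd
      have h4 : orderOf (⟨x, hx⟩ : oddCore B) = 2 := by rw [← Subgroup.orderOf_coe]; exact h3
      rw [← h4]
      exact orderOf_dvd_natCard _

theorem card_mono {a b : ℕ} (ha : 1 < a) (hab : a < b) : a * (a ^ 2 - 1) < b * (b ^ 2 - 1) := by
  have h1 : a ^ 2 - 1 ≤ b ^ 2 - 1 := Nat.sub_le_sub_right (Nat.pow_le_pow_left hab.le 2) 1
  have h2 : 0 < b ^ 2 - 1 := Nat.sub_pos_of_lt (Nat.one_lt_pow two_ne_zero (ha.trans hab))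
  calc a * (a ^ 2 - 1) ≤ a * (b ^ 2 - 1) := Nat.mul_le_mul_left _ h1
    _ < b * (b ^ 2 - 1) := Nat.mul_lt_mul_of_pos_right hab h2

theorem card_inj {a b : ℕ} (ha : 1 < a) (hb : 1 < b) (h : a * (a ^ 2 - 1) = b * (b ^ 2 - 1)) : a = b := by
  rcases lt_trichotomy a b with h1 | h1 | h1
  · exact absurd h (card_mono ha h1).ne
  · exact h1
  · exact absurd h (card_mono hb h1).ne'

theorem SL.not_isT {N : Type*} [Group N] [Finite N] {F : Type*} [Field F] [Fintype F] {B : Subgroup N}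
    (hBs : SL F B) : ¬ Cit.SolvTwo.IsT B := by
  rintro ⟨e⟩
  have h1 : Nat.card B = Fintype.card F * (Fintype.card F ^ 2 - 1) := hBs.card
  have h2 : Nat.card (↥B ⧸ oddCore ↥B) = Nat.card B := by
    rw [hBs.oddCore_eq_bot]
    exact Nat.card_congr QuotientGroup.quotientBot.toEquiv
  have h3 : Nat.card Cit.SolvTwo.X = 3 * (3 ^ 2 - 1) := Cfsg.Agent.S0276.card_sl_two (by simp)
  rw [Nat.card_congr e.toEquiv, h3, h1] at h2
  have := card_inj (by norm_num) (by have := hBs.three; omega) h2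
  have := hBs.three
  omega

/-- two fields with isomorphic `SL₂` have the same characteristic -/
theorem charP_of_equiv {F F' : Type} [Field F] [Fintype F] [Field F'] [Fintype F'] {p : ℕ} [CharP F' p]
    (h : Fintype.card F' = Fintype.card F) : CharP F p := by
  obtain ⟨q, hq⟩ := CharP.exists F
  obtain ⟨⟨k, hk0⟩, hqp, hk⟩ := FiniteField.card F q
  obtain ⟨⟨l, hl0⟩, hpp, hl⟩ := FiniteField.card F' p
  simp only [PNat.mk_coe] at hk hl
  have h1 : p ^ l = q ^ k := by rw [← hk, ← hl, h]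
  have h2 : p ∣ q := hpp.dvd_of_dvd_pow (h1 ▸ dvd_pow_self p hl0.ne')
  rw [(Nat.prime_dvd_prime_iff_eq hpp hqp).1 h2]
  exact hq

/-- the root facts of a standard chart -/
theorem combFacts {N : Type*} [Group N] {Om : Set (Subgroup N)} {p : ℕ} {L : Subgroup N} (C : Chart Om p L)
    {τ : Nodes.Chart.Ty} (hτ : C.IsTy τ) (ok : Cit.KindOk τ) : CombFacts C τ where
  one := fun hr hb hbR h0 ho => Comb.comb C hτ ok hr hb hbR h0 ho
  two := by
    rintro rfl b y hb hbR hy hyR
    exact Comb.comb_short C hτ hb hbR hy hyR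

/-- the exceptional pieces do not occur (file `HexEnd.lean`) -/
def ExcNo : Prop :=
  ∀ {p : ℕ}, p ≠ 2 → ∀ {L : Type u} [Group L] [Finite L], Cit.IsG2D4 p (L ⧸ center L) →
    ∀ {j1 j2 : L} {J1 : Subgroup L}, j1 ∈ center L → j1 ≠ 1 → j1 ∈ J1 → j2 * j2 = 1 → j2 ∉ center L →
    J1 ≤ centralizer ({j2} : Set L) → (J1.subgroupOf (centralizer ({j2} : Set L))).IsSubnormal →
    ∀ {F : Type} [Field F] [Fintype F], Odd (Fintype.card F) → 3 < Fintype.card F →
      Nonempty (J1 ≃* Matrix.SpecialLinearGroup (Fin 2) F) → False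

theorem centerQuotTop {N : Type*} [Group N] :
    Nonempty ((↥(⊤ : Subgroup N) ⧸ center ↥(⊤ : Subgroup N)) ≃* (N ⧸ center N)) := by
  refine ⟨QuotientGroup.congr _ _ Subgroup.topEquiv ?_⟩
  ext x
  rw [Subgroup.mem_map]
  constructor
  · rintro ⟨y, hy, rfl⟩
    rw [mem_center_iff]
    intro g
    exact congrArg Subtype.val ((mem_center_iff.1 hy) ⟨g, trivial⟩)
  · intro hx
    exact ⟨⟨x, trivial⟩, mem_center_iff.2 fun g => Subtype.ext ((mem_center_iff.1 hx) g), rfl⟩

/-- **(F2'), assembly.** -/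
theorem main_of (hT : TStmt.{u}) (hexc : ExcNo.{u}) {N : Type u} [Group N] [Finite N] (hN : IsQuasisimple N)
    (hc2 : IsPGroup 2 (center N)) {c d : N} {A B : Subgroup N} (hc : c ∈ center N) (hco : orderOf c = 2)
    (hd : orderOf d = 2) (hcA : c ∈ A) (hdB : d ∈ B) (hAB : A ≠ B)
    (hA : CompIn (centralizer ({d} : Set N)) A) (hB : CompIn (centralizer ({d} : Set N)) B)
    {F : Type} [Field F] [Fintype F] (hAs : SL F A) (hBs : SL F B) :
    ∃ A' : Subgroup N, CompIn (centralizer ({d} : Set N)) A' ∧ c * d ∈ A' ∧ SL F A' ∧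
      (∀ K : Subgroup N, CompIn (centralizer ({d} : Set N)) K → K = A ∨ K = B ∨ K = A') ∧
      ChartB3 F N c d A B A' := by
  obtain ⟨hdc, hOm, hzz, hP⟩ := entry hT hN hc2 hd hdB hAB hA hB hBs
  have hdd : d * d = 1 := by rw [← pow_two, ← hd]; exact pow_orderOf_eq_one d
  rcases hP with hmem | ⟨nmem, -, -, p, C, τ, kind, ok, -, ⟨F', _, _, hchar, hsl'⟩, zx⟩ |
    ⟨-, -, p, -, hp2, iso, -, -, -⟩ | ⟨-, -, -, ⟨K, hK, hKD⟩, hm⟩
  · exfalso
    obtain ⟨g, hg⟩ := hmem
    have h1 : B = ⊤ := by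
      rw [eq_top_iff]
      intro x _
      have h2 : g * x * g⁻¹ ∈ cj g B := by rw [← hg]; trivial
      rw [mem_cj] at h2
      have h3 : g⁻¹ * (g * x * g⁻¹) * g = x := by group
      rwa [h3] at h2
    apply hdc
    have h2 := hBs.mem_center (z := ⟨d, hdB⟩) (by rw [← Subgroup.orderOf_coe]; exact hd)
    rw [mem_center_iff] at h2 ⊢
    intro x
    exact congrArg Subtype.val (h2 ⟨x, by rw [h1]; trivial⟩)
  · obtain ⟨r, hr, g, -, hBr⟩ := C.om_conj B (self_mem_cls B) le_top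
    change B = cj g (Nodes.Perp.KK C.Z r) at hBr
    have hsl : ∀ s ∈ C.R, SL F (Nodes.Perp.KK C.Z s) := by
      intro s hs
      obtain ⟨k, hk⟩ := C.om s hs
      change Nodes.Perp.KK C.Z s = cj k B at hk
      rw [hk]; exact hBs.cj k
    have hcard : Fintype.card F' = Fintype.card F := by
      obtain ⟨e⟩ := hsl' r hr
      have h1 := (hsl r hr).card
      have h2 : Nat.card (Matrix.SpecialLinearGroup (Fin 2) F') = Nat.card (Nodes.Perp.KK C.Z r) :=
        Nat.card_congr e.toEquiv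
      rw [h1, Cfsg.Agent.S0276.card_sl_two rfl] at h2
      exact card_inj Fintype.one_lt_card (by have := hBs.three; omega) h2
    have hcF : CharP F p := charP_of_equiv hcard
    have hz1 := ZNe.z_ne_one C nmem
    have hzr : C.z r = g⁻¹ * d * g := by
      have h1 := Nodes.StdConn.zz_eq hOm C hr (hz1 r hr)
      change zz (Nodes.Perp.KK C.Z r) = _ at h1
      have h2 := hOm.zz_cj (C.om r hr) g
      change zz (cj g (Nodes.Perp.KK C.Z r)) = g * zz (Nodes.Perp.KK C.Z r) * g⁻¹ at h2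
      rw [← hBr, hzz, h1] at h2
      rw [h2]; group
    -- the position in `C(z r)`
    have hAr : CompIn (centralizer ({C.z r} : Set N)) (cj g⁻¹ A) := by
      have h1 := hA.conj g⁻¹
      have h2 : centralizer ({C.z r} : Set N) = cj g⁻¹ (centralizer ({d} : Set N)) := by
        rw [Cit.cj_centralizer, hzr, inv_inv]
      rw [h2]; exact h1
    have hcen : ∀ x : N, x * c * x⁻¹ = c := fun x => by
      rw [(mem_center_iff.1 hc) x, mul_inv_cancel_right]
    have hcA' : c ∈ cj g⁻¹ A := by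
      have h1 := conj_mem_cj (g := g⁻¹) hcA
      rwa [hcen] at h1
    have hzc : C.z r ∉ center N := by
      intro h1
      apply hdc
      have h2 : d = C.z r := by
        have h3 : d = g * C.z r * g⁻¹ := by rw [hzr]; group
        rw [h3, (mem_center_iff.1 h1) g, mul_inv_cancel_right]
      rw [h2]; exact h1
    have hne : cj g⁻¹ A ≠ Nodes.Perp.KK C.Z r := by
      intro h1
      apply hAB
      rw [hBr, ← h1, Cit.cj_cj_inv]
    obtain ⟨r', b, P⟩ := pos_of_chart C hOm kind (combFacts C kind ok) zx F hsl hr (hAs.cj g⁻¹) hAr.le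
      hAr.comp.1 hc hcA' hco hzc hne
    obtain ⟨C', r1, r1', b1, P'⟩ := CjTop.exists_cj (fun K hK x => hOm.conj K hK x) P g
    have e1 : g * C.z r * g⁻¹ = d := by rw [hzr]; group
    change PosB3 C' F (g * c * g⁻¹) (g * C.z r * g⁻¹) (cj g (cj g⁻¹ A)) (cj g (Nodes.Perp.KK C.Z r)) _ r1 r1' b1
      at P'
    rw [hcen, e1, Cit.cj_cj_inv, ← hBr] at P'
    obtain ⟨-, h1, h2⟩ := P'.comps hN hOm hAs.three hA
    refine ⟨_, h1, ?_, ?_, h2, cls B, p, C', r1, r1', b1, hOm, P'⟩
    · have h3 := C'.cls.z_mem r1' P'.r'_mem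
      rw [P'.zr'] at h3
      have h4 := P'.KL P'.r'_mem
      rw [P'.A'_eq, ← h4]
      exact h3
    · rw [P'.A'_eq]
      exact P'.SLall hAs.three (C'.cls.root _ P'.r'_mem)
  · exfalso
    refine hexc hp2 (L := N) ?_ hc ?_ hcA hdd hdc hA.le hA.comp.1 hAs.odd hAs.three hAs.equiv
    · obtain ⟨e⟩ := centerQuotTop (N := N)
      obtain ⟨E, _, _, hE, h1⟩ := iso
      refine ⟨E, inferInstance, inferInstance, hE, ?_⟩
      rcases h1 with ⟨⟨f⟩⟩ | ⟨q, hq, hqE, ⟨f⟩⟩
      · exact Or.inl ⟨e.symm.trans f⟩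
      · exact Or.inr ⟨q, hq, hqE, ⟨e.symm.trans f⟩⟩
    · rintro rfl
      rw [orderOf_one] at hco
      exact absurd hco (by norm_num)
  · exfalso
    obtain ⟨k, rfl⟩ := hK
    exact (hBs.cj k).not_isT (hm _ ⟨k, rfl⟩ hKD)

end Cfsg.Agent.OddHalf.NI.FTwo
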