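import Cfsg.Agent.OddHalf.NI.FTwo.IdentRgd
import Cfsg.Agent.OddHalf.NI.FTwo.ChartB
import Cfsg.Agent.UGT.U2.Rec.CThree
import Cfsg.Agent.UGT.U2.Rec.Congr
import Cfsg.Agent.LieClassical.FieldTransfer

/-!
# Identification from a chart of type `B₃`

`exists_or` : `N` finite quasisimple, `Z(N)` a 2-group, with a chart of type `B₃` over `F`: `N / Z(N)` is `PSp₆(F)` or
`Ω₇(F)`.
-/

set_option autoImplicit false
set_option linter.unusedSectionVars false

namespace Cfsg.Agent.OddHalf.NI.FTwo.Ident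

open Cfsg
open CoxeterSystem Cfsg.Agent.ChevalleyStructure.CoxeterGeom Cfsg.Agent.Tits.Roots Cfsg.Agent.Tits.Core
  Cfsg.Agent.Tits.RootComb Cfsg.Agent.Nodes.Comb Cfsg.Agent.Nodes.Reps Cfsg.Agent.Nodes.BNOf
  Cfsg.Agent.Nodes.RGDLib Cfsg.Agent.Nodes.Chart
open Cfsg.Agent.LieRecognition.BNCox (cC)

theorem B3_eq (i j : Fin 3) : (CoxeterMatrix.B 3) i j = cC 3 i j := by
  fin_cases i <;> fin_cases j <;> rfl

theorem G1_map {I W Y Y' : Type*} [Fintype I] [DecidableEq I] [Group W] [Group Y] [Group Y'] {M : CoxeterMatrix I}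
    {cs : CoxeterSystem M W} {A : I → I → ℤ} {h : IsCartan M A} {X : (I → ℤ) → Subgroup Y} (f : Y →* Y')
    (hf : Function.Surjective f) (hG : G1 cs h X = ⊤) : G1 cs h (fun x => (X x).map f) = ⊤ := by
  have h1 : G1 cs h (fun x => (X x).map f) = (G1 cs h X).map f := by
    unfold G1 RGD.Sup
    rw [Subgroup.map_iSup]
  rw [h1, hG, Subgroup.map_top_of_surjective f hf]

/-- A `p`-subgroup, `p` odd, embeds in the quotient by a central 2-subgroup. -/
theorem card_map_mk {N : Type*} [Group N] [Finite N] {p : ℕ} [hp : Fact p.Prime] (hp2 : p ≠ 2)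
    (h2 : IsPGroup 2 (Subgroup.center N)) {X : Subgroup N} (hX : IsPGroup p X) :
    Nat.card (X.map (QuotientGroup.mk' (Subgroup.center N))) = Nat.card X := by
  have hinj : Function.Injective ((QuotientGroup.mk' (Subgroup.center N)).subgroupMap X) := by
    rw [injective_iff_map_eq_one]
    intro x hx
    have h1 : (QuotientGroup.mk' (Subgroup.center N)) (x : N) = 1 := congrArg Subtype.val hx
    have h3 : (x : N) ∈ Subgroup.center N := (QuotientGroup.eq_one_iff _).1 h1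
    obtain ⟨a, ha⟩ := hX x
    obtain ⟨b, hb⟩ := h2 ⟨x, h3⟩
    have ha' : (x : N) ^ p ^ a = 1 := by
      have := congrArg Subtype.val ha
      simpa using this
    have hb' : (x : N) ^ 2 ^ b = 1 := by
      have := congrArg Subtype.val hb
      simpa using this
    have hc : (p ^ a).Coprime (2 ^ b) :=
      Nat.Coprime.pow _ _ ((Nat.coprime_primes hp.out Nat.prime_two).2 hp2)
    have h4 : orderOf (x : N) ∣ 1 := by
      rw [← hc.gcd_eq_one]
      exact Nat.dvd_gcd (orderOf_dvd_of_pow_eq_one ha') (orderOf_dvd_of_pow_eq_one hb')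
    exact Subtype.ext (orderOf_eq_one_iff.1 (Nat.dvd_one.1 h4))
  exact (Nat.card_congr (Equiv.ofBijective _ ⟨hinj, MonoidHom.subgroupMap_surjective _ _⟩)).symm

variable {N : Type*} [Group N] {F : Type} [Field F] [Fintype F] {c d : N} {A B A' : Subgroup N}

/-- **Identification.** -/
theorem exists_or [Finite N] (hN : IsQuasisimple N) (h2 : IsPGroup 2 (Subgroup.center N))
    (hC : ChartB3 F N c d A B A') :
    Nonempty (N ⧸ Subgroup.center N ≃* PSp 3 F) ∨
      Nonempty (N ⧸ Subgroup.center N ≃* POmega F (quadFormOdd 3 F)) := by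
  obtain ⟨Om, p, C, r, r', b, -, P⟩ := hC
  obtain ⟨e0, he, -⟩ := P.ty
  have he' := fun i j => (C.M_apply (τ := .B 3) (e := e0) he i j).trans (B3_eq (e0 i) (e0 j))
  obtain ⟨e, hee⟩ : ∃ e : C.I ≃ Fin 3, ∀ i j, C.M i j = cC 3 (e i) (e j) := ⟨e0, he'⟩
  have hpr : p.Prime := C.prime
  have : Fact p.Prime := ⟨hpr⟩
  have hch := P.charP
  have hs : IsSimpleGroup (N ⧸ Subgroup.center N) := hN.2
  have hp2 : p ≠ 2 := by
    rintro rfl
    have h3 := FiniteField.even_card_of_char_two (F := F) (ringChar.eq F 2)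
    have h4 := P.odd
    rw [Nat.odd_iff] at h4
    omega
  have R := C.cls.rgd
  have R' := rgd_map_of_ker_le_center R (QuotientGroup.mk' (Subgroup.center N)) (by rw [QuotientGroup.ker_mk'])
  have hG : G1 C.cs C.h C.X = ⊤ := C.gen
  have hG' := G1_map (cs := C.cs) (h := C.h) (QuotientGroup.mk' (Subgroup.center N))
    (QuotientGroup.mk'_surjective _) hG
  have hgen := rgd_gen_of_G1 R' hG'
  have hI : Nonempty C.I := ⟨e.symm (0 : Fin 3)⟩
  obtain ⟨W', i1, i2, cs'', Δ, hth, hSA, hpar⟩ := IdentRgd.exists_bldg R' hgen (M' := cC 3) e hee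
  have hpar' : ∀ i, Δ.Param i (Fintype.card F) := fun i => by
    have h3 := hpar (e.symm i)
    rw [Equiv.apply_symm_apply] at h3
    rw [card_map_mk hp2 h2 (R.pgrp _), P.card _ (isRoot_sr C.cs C.h _)] at h3
    exact h3
  obtain ⟨F', j1, j2, hc, hF⟩ := UGT.U2.Rec.CThree.exists_equiv hth P.odd hpar' hSA
  obtain ⟨p', hp'⟩ := CharP.exists F'
  obtain ⟨σ⟩ : Nonempty (F' ≃+* F) := ⟨FiniteField.ringEquivOfCardEq hc⟩
  rcases hF with ⟨⟨f⟩⟩ | ⟨⟨f⟩⟩
  · exact Or.inl ⟨f.trans (LieClassical.FieldTransfer.pspCongr 3 σ)⟩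
  · obtain ⟨g⟩ := UGT.U2.Rec.Congr.nonempty_POmegaOdd σ 3
    exact Or.inr ⟨f.trans g⟩

end Cfsg.Agent.OddHalf.NI.FTwo.Ident
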