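import Mathlib
import Cfsg.Agent.OddHalf.NI.FrameSp
import Cfsg.Agent.OddHalf.NI.CoverOf
import Cfsg.Agent.OddHalf.NI.SpClosed
import Cfsg.Agent.OddHalf.NI.QuatDim
import Cfsg.Agent.OddHalf.NI.LinEnd
import Cfsg.Agent.S0269

/-!
# `PSp_6(F)` is excluded (helper569, recognition (b))

`N` quasisimple, `Z(N)` a 2-group, `c ∈ Z(N)` of order 2, `d d = 1` and `g d g⁻¹ = c d`: then `N / Z(N)` is not
`PSp_6(F)`, `F` finite of odd order.
-/

set_option autoImplicit false

namespace Cfsg.Agent.OddHalf.NI.FTwo.IdentSp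

open Subgroup Cfsg Matrix Module

universe u

section lin

variable {F : Type*} [Field F] {m : ℕ}

/-- the symplectic form -/
def B (m : ℕ) (F : Type*) [Field F] : LinearMap.BilinForm F (Fin m ⊕ Fin m → F) :=
  Matrix.toBilin' (Matrix.J (Fin m) F)

theorem B_apply (v w : Fin m ⊕ Fin m → F) : B m F v w = v ⬝ᵥ (Matrix.J (Fin m) F) *ᵥ w := by
  rw [B, Matrix.toBilin'_apply']

theorem B_skew (v w : Fin m ⊕ Fin m → F) : B m F v w = - B m F w v := by
  rw [B_apply, B_apply, dotProduct_mulVec, ← mulVec_transpose, Matrix.J_transpose, neg_mulVec, neg_dotProduct,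
    dotProduct_comm]

theorem B_nondeg (v : Fin m ⊕ Fin m → F) (h : ∀ w, B m F v w = 0) : v = 0 := by
  have h1 : ∀ w, B m F w v = 0 := fun w => by rw [B_skew, h, neg_zero]
  have h2 : (Matrix.J (Fin m) F) *ᵥ v = 0 := by
    ext i
    have h3 := h1 (Pi.single i 1)
    rw [B_apply, single_dotProduct, one_mul] at h3
    exact h3
  have h3 : (Matrix.J (Fin m) F) *ᵥ ((Matrix.J (Fin m) F) *ᵥ v) = 0 := by rw [h2, mulVec_zero]
  rw [mulVec_mulVec, Matrix.J_squared, neg_mulVec, one_mulVec, neg_eq_zero] at h3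
  exact h3

theorem B_inv {D : Matrix (Fin m ⊕ Fin m) (Fin m ⊕ Fin m) F} (hD : D ∈ symplecticGroup (Fin m) F)
    (v w : Fin m ⊕ Fin m → F) : B m F (D *ᵥ v) (D *ᵥ w) = B m F v w := by
  have h1 := SymplecticGroup.mem_iff'.mp hD
  rw [B_apply, B_apply]
  calc (D *ᵥ v) ⬝ᵥ (Matrix.J (Fin m) F) *ᵥ (D *ᵥ w)
      = v ⬝ᵥ Dᵀ *ᵥ ((Matrix.J (Fin m) F) *ᵥ (D *ᵥ w)) := by
        rw [dotProduct_mulVec v, vecMul_transpose]
    _ = v ⬝ᵥ (Dᵀ * Matrix.J (Fin m) F * D) *ᵥ w := by
        rw [mulVec_mulVec, mulVec_mulVec, Matrix.mul_assoc]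
    _ = _ := by rw [h1]

/-- the eigenspace -/
def eig (D : Matrix (Fin m ⊕ Fin m) (Fin m ⊕ Fin m) F) (s : F) : Submodule F (Fin m ⊕ Fin m → F) where
  carrier := {v | D *ᵥ v = s • v}
  add_mem' := by
    intro a b ha hb
    show D *ᵥ (a + b) = s • (a + b)
    rw [mulVec_add, show D *ᵥ a = s • a from ha, show D *ᵥ b = s • b from hb, smul_add]
  zero_mem' := by
    show D *ᵥ 0 = s • (0 : Fin m ⊕ Fin m → F)
    rw [mulVec_zero, smul_zero]
  smul_mem' := by
    intro c a ha
    show D *ᵥ (c • a) = s • (c • a)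
    rw [mulVec_smul, show D *ᵥ a = s • a from ha, smul_comm]

theorem mem_eig {D : Matrix (Fin m ⊕ Fin m) (Fin m ⊕ Fin m) F} {s : F} {v : Fin m ⊕ Fin m → F} :
    v ∈ eig D s ↔ D *ᵥ v = s • v := Iff.rfl

theorem even_eig (h2 : (2 : F) ≠ 0) {D : Matrix (Fin m ⊕ Fin m) (Fin m ⊕ Fin m) F}
    (hD : D ∈ symplecticGroup (Fin m) F) (hDD : D * D = 1) : Even (finrank F (eig D 1)) := by
  refine QuatDim.even_of_skew h2 ((B m F).restrict (eig D 1)) (fun v w => B_skew _ _) fun v hv => ?_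
  apply Subtype.ext
  apply B_nondeg
  intro w
  have hDv : D *ᵥ (v : Fin m ⊕ Fin m → F) = v := by
    have := mem_eig.mp v.2
    rwa [one_smul] at this
  -- `w + D w` is in the eigenspace
  have h3 : w + D *ᵥ w ∈ eig D 1 := by
    rw [mem_eig, mulVec_add, mulVec_mulVec, hDD, one_mulVec, one_smul, add_comm]
  have h4 : B m F v (w + D *ᵥ w) = 0 := hv ⟨_, h3⟩
  have h5 : B m F v (D *ᵥ w) = B m F v w := by
    conv_lhs => rw [← hDv]
    exact B_inv hD _ _
  rw [map_add, h5, ← two_mul] at h4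
  exact (mul_eq_zero.mp h4).resolve_left h2

theorem finrank_eig_le {D P P' : Matrix (Fin m ⊕ Fin m) (Fin m ⊕ Fin m) F} (hP : P' * P = 1)
    (hPD : D * P = -(P * D)) (s : F) : finrank F (eig D s) ≤ finrank F (eig D (-s)) := by
  let f : ↥(eig D s) →ₗ[F] ↥(eig D (-s)) :=
    LinearMap.restrict (Matrix.mulVecLin P) (fun v hv => by
      rw [mem_eig] at hv ⊢
      rw [Matrix.mulVecLin_apply, mulVec_mulVec, hPD, neg_mulVec, ← mulVec_mulVec, hv, mulVec_smul, neg_smul])
  refine LinearMap.finrank_le_finrank_of_injective (f := f) ?_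
  intro v w h
  apply Subtype.ext
  have h1 : P *ᵥ (v : Fin m ⊕ Fin m → F) = P *ᵥ w := congrArg Subtype.val h
  have h2 : P' *ᵥ (P *ᵥ (v : Fin m ⊕ Fin m → F)) = P' *ᵥ (P *ᵥ w) := by rw [h1]
  rwa [mulVec_mulVec, mulVec_mulVec, hP, one_mulVec, one_mulVec] at h2

theorem finrank_add (h2 : (2 : F) ≠ 0) {D : Matrix (Fin m ⊕ Fin m) (Fin m ⊕ Fin m) F} (hDD : D * D = 1) :
    finrank F (eig D 1) + finrank F (eig D (-1)) = m + m := by
  have h3 : IsCompl (eig D 1) (eig D (-1)) := by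
    constructor
    · rw [Submodule.disjoint_def]
      intro v hv hw
      rw [mem_eig] at hv hw
      have h4 : (2 : F) • v = 0 := by
        have h5 : (1 : F) • v = (-1 : F) • v := by rw [← hv, hw]
        rw [one_smul, neg_smul, one_smul] at h5
        rw [two_smul]
        nth_rewrite 1 [h5]
        exact neg_add_cancel v
      exact (smul_eq_zero.mp h4).resolve_left h2
    · rw [codisjoint_iff, eq_top_iff]
      intro v _
      have e : v = (2 : F)⁻¹ • (v + D *ᵥ v) + (2 : F)⁻¹ • (v - D *ᵥ v) := by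
        rw [← smul_add, add_add_sub_cancel, ← two_smul F, smul_smul, inv_mul_cancel₀ h2, one_smul]
      rw [e]
      refine add_mem (Submodule.mem_sup_left (Submodule.smul_mem _ _ ?_))
        (Submodule.mem_sup_right (Submodule.smul_mem _ _ ?_))
      · rw [mem_eig, mulVec_add, mulVec_mulVec, hDD, one_mulVec, one_smul, add_comm]
      · rw [mem_eig, mulVec_sub, mulVec_mulVec, hDD, one_mulVec, neg_smul, one_smul, neg_sub]
  rw [Submodule.finrank_add_eq_of_isCompl h3, finrank_fintype_fun_eq_card, Fintype.card_sum, Fintype.card_fin]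

/-- involutions of `Sp_{2m}` conjugate to their negative need `m` even -/
theorem even_of_conj_neg (h2 : (2 : F) ≠ 0) {D P P' : Matrix (Fin m ⊕ Fin m) (Fin m ⊕ Fin m) F}
    (hD : D ∈ symplecticGroup (Fin m) F) (hDD : D * D = 1) (hP : P' * P = 1)
    (hPD : D * P = -(P * D)) : Even m := by
  have h3 := finrank_eig_le hP hPD 1
  have h4 := finrank_eig_le hP hPD (-1)
  rw [neg_neg] at h4
  have h5 := finrank_add h2 hDD
  have h6 := even_eig h2 hD hDD
  have h7 : finrank F (eig D 1) = m := by omega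
  rwa [h7] at h6

end lin

/-- **`PSp_{2m}(F)`, `m` odd, does not occur** -/
theorem false_of_psp' {N : Type u} [Group N] [Finite N] {F : Type} [Field F] [Fintype F] {m : ℕ}
    (ho : Odd (Fintype.card F)) (h3 : 3 < Fintype.card F) (hm : 2 ≤ m) (hmo : Odd m)
    (hq : IsQuasisimple N) (hZ : IsPGroup 2 ↥(center N)) (e : N ⧸ center N ≃* PSp m F) {c d g : N}
    (hc : c ∈ center N) (hcc : orderOf c = 2) (hd : d * d = 1) (hg : g * d * g⁻¹ = c * d) : False := by
  classical
  obtain ⟨φ, hs, hk⟩ := CoverOf.exists_cover hq.1.commutator_eq_top hZ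
    (Cfsg.Agent.S0269.result m (Or.inr (Or.inr (by omega)))) (SpClosed.closed2 ho (by omega)) e
  have h2 : (2 : F) ≠ 0 := Blocks.two_ne_zero_of_odd ho
  have hc1 : c ≠ 1 := by
    rintro rfl
    rw [orderOf_one] at hcc
    omega
  obtain ⟨C, rfl⟩ := hs c
  have hC : C ∈ center (symplecticGroup (Fin m) F) :=
    LinEnd.mem_center_of_map φ hk (Cfsg.Agent.S0269.result m (Or.inr (Or.inr (by omega)))) hc
  rcases FrameSp.center_cases (by omega) hC with rfl | rfl
  · exact hc1 (map_one φ)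
  have hinj : ∀ x, φ x = 1 → x = 1 := by
    intro x hx
    rcases FrameSp.center_cases (by omega) (hk hx) with h | h
    · exact h
    · rw [h] at hx
      exact absurd hx hc1
  have hinj' : ∀ x y, φ x = φ y → x = y := by
    intro x y h
    have h4 : φ (x * y⁻¹) = 1 := by rw [map_mul, map_inv, h, mul_inv_cancel]
    exact mul_inv_eq_one.mp (hinj _ h4)
  obtain ⟨D, rfl⟩ := hs d
  obtain ⟨P, rfl⟩ := hs g
  have hDD : D * D = 1 := hinj _ (by rw [map_mul, hd])
  have hPD : P * D * P⁻¹ = FrameSp.neg m F * D := hinj' _ _ (by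
    rw [map_mul, map_mul, map_mul, map_inv, hg])
  have hPD' : P * D = FrameSp.neg m F * D * P := by rw [← hPD, inv_mul_cancel_right]
  have e1 : (D : Matrix (Fin m ⊕ Fin m) (Fin m ⊕ Fin m) F) * D = 1 := by
    have := congrArg (fun A : symplecticGroup (Fin m) F => (A : Matrix (Fin m ⊕ Fin m) (Fin m ⊕ Fin m) F)) hDD
    simpa only [Submonoid.coe_mul, Submonoid.coe_one] using this
  have e2 : ((P⁻¹ : symplecticGroup (Fin m) F) : Matrix (Fin m ⊕ Fin m) (Fin m ⊕ Fin m) F) * P = 1 := by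
    have := congrArg (fun A : symplecticGroup (Fin m) F => (A : Matrix (Fin m ⊕ Fin m) (Fin m ⊕ Fin m) F))
      (inv_mul_cancel P)
    simpa only [Submonoid.coe_mul, Submonoid.coe_one] using this
  have e3 : (D : Matrix (Fin m ⊕ Fin m) (Fin m ⊕ Fin m) F) * P = -(P * D) := by
    have := congrArg (fun A : symplecticGroup (Fin m) F => (A : Matrix (Fin m ⊕ Fin m) (Fin m ⊕ Fin m) F)) hPD'
    simp only [Submonoid.coe_mul, FrameSp.neg_coe, neg_mul, one_mul] at this
    rw [this, neg_neg]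
  have h4 := even_of_conj_neg h2 D.2 e1 e2 e3
  exact (Nat.not_even_iff_odd.mpr hmo) h4

/-- **`PSp_6(F)` does not occur** -/
theorem false_of_psp {N : Type u} [Group N] [Finite N] {F : Type} [Field F] [Fintype F]
    (ho : Odd (Fintype.card F)) (h3 : 3 < Fintype.card F) (hq : IsQuasisimple N) (hZ : IsPGroup 2 ↥(center N))
    (e : N ⧸ center N ≃* PSp 3 F) {c d g : N}
    (hc : c ∈ center N) (hcc : orderOf c = 2) (hd : d * d = 1) (hg : g * d * g⁻¹ = c * d) : False :=
  false_of_psp' ho h3 (by norm_num) (by decide) hq hZ e hc hcc hd hg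

end Cfsg.Agent.OddHalf.NI.FTwo.IdentSp
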