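import Cfsg.Agent.Nodes.TyStd
import Cfsg.Agent.Nodes.RKindsBC
import Cfsg.Agent.Nodes.KindF
import Cfsg.Agent.Nodes.KindC
import Cfsg.Agent.Nodes.KindB

/-!
# Root combinatorics for (F2') (node NI): the standard systems, and the transport to typed charts

`Hy cs h R r b` : `r ∈ R`, `b` a root not in `R`, orthogonal to `r` and to all members of `R` which are orthogonal to `r`.
Only `B 3` occurs; `Out` is the list of consequences.
-/

set_option autoImplicit false
set_option linter.unusedSectionVars false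

namespace Cfsg.Agent.OddHalf.NI.FTwo.CombStd

open CoxeterSystem Cfsg.Agent.ChevalleyStructure.CoxeterGeom Cfsg.Agent.Tits.Roots Cfsg.Agent.Tits.Core
  Cfsg.Agent.Nodes.Comb Cfsg.Agent.Nodes.SubComb Cfsg.Agent.Nodes.PosPair Cfsg.Agent.Nodes.Coroot
  Cfsg.Agent.Nodes.Sub Cfsg.Agent.Nodes.ClsSub Cfsg.Agent.Nodes.LeviStd Cfsg.Agent.Nodes.TyStd
  Cfsg.Agent.Nodes.Chart Cfsg.Agent.Nodes

section Def

variable {I W : Type*} [Fintype I] [DecidableEq I] [Group W] [Fintype W] {M : CoxeterMatrix I}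
  (cs : CoxeterSystem M W) {A : I → I → ℤ} (h : IsCartan M A) (R : Set (I → ℤ))

/-- the hypothesis -/
structure Hy (r b : I → ℤ) : Prop where
  hr : r ∈ R
  hb : IsRoot cs h b
  hbR : b ∉ R
  h0 : form cs h b r = 0
  ho : ∀ s ∈ R, form cs h s r = 0 → form cs h b s = 0

/-- the conclusion in the case `B 3` -/
def Out (r b : I → ℤ) : Prop :=
  ∃ r' ∈ R, form cs h r' r = 0 ∧ r' ≠ r ∧ r' ≠ -r ∧
    (∀ y, IsRoot cs h y → form cs h y r = 0 → y = r' ∨ y = -r' ∨ y = b ∨ y = -b) ∧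
    (∃ w, r' = r - cpr cs h r (rep cs h w b) • rep cs h w b ∧ form cs h r (rep cs h w b) ≠ 0) ∧
    ∃ s ∈ R, form cs h s b ≠ 0

end Def

/-! ### Transport -/

section Transport

variable {I W J W' : Type*} [Fintype I] [DecidableEq I] [Group W] [Fintype W] {M : CoxeterMatrix I}
  {cs : CoxeterSystem M W} {A : I → I → ℤ} {h : IsCartan M A}
  [Fintype J] [DecidableEq J] [Group W'] [Fintype W'] {M' : CoxeterMatrix J} {cs' : CoxeterSystem M' W'}
  {A' : J → J → ℤ} {h' : IsCartan M' A'} {R : Set (I → ℤ)} {R' : Set (J → ℤ)}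

theorem subSys (e : I ≃ J) (hA : ∀ i j, A i j = A' (e i) (e j)) :
    SubSys cs h A' (fun j => sr (e.symm j)) (fun _ => 1) (fun j => e.symm j) where
  eq j := by rw [map_one, Module.End.one_apply]
  cartan j k := by
    rw [inv_one, map_one, Module.End.one_apply, sr, pairing_single, mul_one, hA]
    simp
  indep c hc := by
    rw [iota_equiv] at hc
    funext j
    have := congrFun hc (e.symm j)
    simpa using this

theorem form_comp (e : I ≃ J) (hA : ∀ i j, A i j = A' (e i) (e j)) (x : J → ℤ) {y : J → ℤ}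
    (hy : IsRoot cs' h' y) :
    form cs h (fun i => x (e i)) (fun i => y (e i)) = 0 ↔ form cs' h' x y = 0 := by
  have := form_iota_eq_zero_iff (cs' := cs') (h' := h') (subSys (cs := cs) (h := h) e hA) x hy
  rwa [iota_equiv, iota_equiv] at this

theorem exists_rep (e : I ≃ J) (hA : ∀ i j, A i j = A' (e i) (e j)) (v : W') :
    ∃ w : W, ∀ x : J → ℤ, rep cs h w (fun i => x (e i)) = fun i => rep cs' h' v x (e i) := by
  refine ⟨(subSys (cs := cs) (h := h) e hA).phi cs' h' v, fun x => ?_⟩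
  have := (subSys (cs := cs) (h := h) e hA).rep_phi cs' h' v x
  rwa [iota_equiv, iota_equiv] at this

theorem cpr_comp (e : I ≃ J) (hA : ∀ i j, A i j = A' (e i) (e j)) (x : J → ℤ) {y : J → ℤ}
    (hy : IsRoot cs' h' y) :
    cpr cs h (fun i => x (e i)) (fun i => y (e i)) = cpr cs' h' x y := by
  obtain ⟨v, j, rfl⟩ := hy
  have S := subSys (cs := cs) (h := h) e hA
  have h1 := S.rep_phi cs' h' v (sr j)
  rw [iota_equiv, sr_comp_equiv, iota_equiv] at h1
  have h2 := S.rep_phi cs' h' v⁻¹ x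
  rw [iota_equiv, iota_equiv, map_inv] at h2
  rw [← h1, cpr_rep_sr, h2, cpr_rep_sr]
  have h3 := S.fn_iota j (rep cs' h' v⁻¹ x)
  rw [iota_equiv, fn_apply, inv_one, map_one, Module.End.one_apply] at h3
  exact h3

/-- the hypothesis in the standard system -/
theorem Hy.dn (e : I ≃ J) (hM : ∀ i j, M i j = M' (e i) (e j)) (hA : ∀ i j, A i j = A' (e i) (e j))
    (hact : ∀ r ∈ R, ∀ w, rep cs h w r ∈ R) (hroot' : ∀ r ∈ R', IsRoot cs' h' r)
    (hact' : ∀ r ∈ R', ∀ w, rep cs' h' w r ∈ R') (hroot : ∀ r ∈ R, IsRoot cs h r)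
    (hsr : ∀ i, sr i ∈ R ↔ sr (e i) ∈ R') {r b : J → ℤ}
    (H : Hy cs h R (fun i => r (e i)) (fun i => b (e i))) : Hy cs' h' R' r b := by
  have hr : IsRoot cs' h' r := (isRoot_comp_iff e hM hA cs' h').1 (hroot _ H.hr)
  have hb : IsRoot cs' h' b := (isRoot_comp_iff e hM hA cs' h').1 H.hb
  refine ⟨(mem_R_iff e hM hA cs' h' hact hact' hsr hr).1 H.hr, hb,
    fun h1 => H.hbR ((mem_R_iff e hM hA cs' h' hact hact' hsr hb).2 h1), (form_comp e hA b hr).1 H.h0, ?_⟩
  intro s hs h1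
  exact (form_comp e hA b (hroot' s hs)).1 (H.ho _
    ((mem_R_iff e hM hA cs' h' hact hact' hsr (hroot' s hs)).2 hs) ((form_comp e hA s hr).2 h1))

theorem Out.up (e : I ≃ J) (hM : ∀ i j, M i j = M' (e i) (e j)) (hA : ∀ i j, A i j = A' (e i) (e j))
    (hact : ∀ r ∈ R, ∀ w, rep cs h w r ∈ R) (hroot' : ∀ r ∈ R', IsRoot cs' h' r)
    (hact' : ∀ r ∈ R', ∀ w, rep cs' h' w r ∈ R')
    (hsr : ∀ i, sr i ∈ R ↔ sr (e i) ∈ R') {r b : J → ℤ} (hr : IsRoot cs' h' r) (hb : IsRoot cs' h' b)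
    (H : Out cs' h' R' r b) : Out cs h R (fun i => r (e i)) (fun i => b (e i)) := by
  have hinj : ∀ x y : J → ℤ, (fun i => x (e i)) = (fun i => y (e i)) → x = y := by
    intro x y hxy
    funext j
    have := congrFun hxy (e.symm j)
    simpa using this
  obtain ⟨r', hr', h1, h2, h3, h4, ⟨w, h5, h6⟩, s, hs, h7⟩ := H
  have hr'' := hroot' r' hr'
  refine ⟨fun i => r' (e i), (mem_R_iff e hM hA cs' h' hact hact' hsr hr'').2 hr', (form_comp e hA r' hr).2 h1,
    fun h8 => h2 (hinj _ _ h8), fun h8 => h3 (hinj _ _ h8), ?_, ?_, ?_⟩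
  · intro y hy hyr
    have e1 : y = fun i => (fun j => y (e.symm j)) (e i) := by funext i; simp
    rw [e1] at hy hyr ⊢
    have hy' := (isRoot_comp_iff (x := fun j => y (e.symm j)) e hM hA cs' h').1 hy
    rcases h4 _ hy' ((form_comp e hA _ hr).1 hyr) with h8 | h8 | h8 | h8
    · left; rw [h8]
    · right; left; rw [h8]; rfl
    · right; right; left; rw [h8]
    · right; right; right; rw [h8]; rfl
  · obtain ⟨v, hv⟩ := exists_rep (cs := cs) (h := h) (cs' := cs') (h' := h') e hA w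
    refine ⟨v, ?_, ?_⟩
    · rw [hv, cpr_comp e hA r (hb.act w)]
      funext i
      have := congrFun h5 (e i)
      simpa using this
    · rw [hv]
      intro h8
      exact h6 ((form_comp e hA r (hb.act w)).1 h8)
  · refine ⟨fun i => s (e i), (mem_R_iff e hM hA cs' h' hact hact' hsr (hroot' s hs)).2 hs, fun h8 => ?_⟩
    exact h7 ((form_comp e hA s hb).1 h8)

theorem pull (e : I ≃ J) (x : I → ℤ) : (fun i => (fun j => x (e.symm j)) (e i)) = x := by
  funext i; simp

theorem isRoot_dn (e : I ≃ J) (hM : ∀ i j, M i j = M' (e i) (e j)) (hA : ∀ i j, A i j = A' (e i) (e j))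
    {x : I → ℤ} (hx : IsRoot cs h x) : IsRoot cs' h' (fun j => x (e.symm j)) := by
  rw [← pull e x] at hx
  exact (isRoot_comp_iff (x := fun j => x (e.symm j)) e hM hA cs' h').1 hx

theorem mem_dn (e : I ≃ J) (hM : ∀ i j, M i j = M' (e i) (e j)) (hA : ∀ i j, A i j = A' (e i) (e j))
    (hact : ∀ r ∈ R, ∀ w, rep cs h w r ∈ R) (hact' : ∀ r ∈ R', ∀ w, rep cs' h' w r ∈ R')
    (hsr : ∀ i, sr i ∈ R ↔ sr (e i) ∈ R') {x : I → ℤ} (hx : IsRoot cs h x) :
    x ∈ R ↔ (fun j => x (e.symm j)) ∈ R' := by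
  have h1 := mem_R_iff (x := fun j => x (e.symm j)) e hM hA cs' h' hact hact' hsr (isRoot_dn e hM hA hx)
  rwa [pull] at h1

theorem form_dn (e : I ≃ J) (hM : ∀ i j, M i j = M' (e i) (e j)) (hA : ∀ i j, A i j = A' (e i) (e j))
    (x : I → ℤ) {y : I → ℤ} (hy : IsRoot cs h y) :
    form cs h x y = 0 ↔ form cs' h' (fun j => x (e.symm j)) (fun j => y (e.symm j)) = 0 := by
  have h1 := form_comp (cs := cs) (h := h) (cs' := cs') (h' := h') e hA (fun j => x (e.symm j))
    (isRoot_dn (cs' := cs') (h' := h') e hM hA hy)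
  rwa [pull, pull] at h1

theorem cpr_up (e : I ≃ J) (hA : ∀ i j, A i j = A' (e i) (e j)) (x : I → ℤ) {s : J → ℤ} (hs : IsRoot cs' h' s) :
    cpr cs h x (fun i => s (e i)) = cpr cs' h' (fun j => x (e.symm j)) s := by
  have h1 := cpr_comp (cs := cs) (h := h) e hA (fun j => x (e.symm j)) hs
  rwa [pull] at h1

theorem refl_up (e : I ≃ J) (hA : ∀ i j, A i j = A' (e i) (e j)) {b y : I → ℤ} {s : J → ℤ} (hs : IsRoot cs' h' s)
    (h1 : (fun j => y (e.symm j)) = (fun j => b (e.symm j)) - cpr cs' h' (fun j => b (e.symm j)) s • s) :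
    y = b - cpr cs h b (fun i => s (e i)) • (fun i => s (e i)) := by
  rw [cpr_up e hA b hs]
  funext i
  have := congrFun h1 (e i)
  simpa using this

end Transport

/-! ### The standard systems -/

section StdBC

open Cfsg.Agent.Nodes.TypeC Cfsg.Agent.Nodes.TypeCForm Cfsg.Agent.Nodes.KindBC

variable {n : ℕ} {W : Type*} [Group W] [Fintype W] (cs : CoxeterSystem (CoxeterMatrix.B n) W)

theorem form_zero_iff (x : Fin n → ℤ) {y : Fin n → ℤ} (hy : IsRoot cs (isCartan n) y) :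
    form cs (isCartan n) x y = 0 ↔ cpr cs (isCartan n) x y = 0 := (cpr_zero_iff cs _ x hy).symm

theorem sn_ne (a : Fin n × Bool) : sn a ≠ 0 := by
  rcases sn_eq_one_or a with h | h <;> rw [h] <;> norm_num

theorem no_C {r b : Fin n → ℤ} (H : Hy cs (isCartan n) (RC n) r b) : False := by
  obtain ⟨d, rfl⟩ := mem_RC.1 H.hr
  rcases (isRoot_iff_mem cs).1 H.hb with h1 | h1
  swap
  · exact H.hbR h1
  obtain ⟨a, a', haa, rfl⟩ := mem_RB.1 h1
  have hd := root_RC cs (rt_mem_RC d)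
  have h2 := H.h0
  rw [form_zero_iff cs _ hd, cpr_rt_self, ee_rt, Pi.add_apply] at h2
  have h3 : d.1 ≠ a.1 := by
    intro h4
    rw [h4, wt_apply_self, wt_apply_ne haa, add_zero] at h2
    rcases mul_eq_zero.1 h2 with h5 | h5
    · exact sn_ne _ h5
    · exact sn_ne _ h5
  have h4 := H.ho (rt a a) (rt_mem_RC a) (by
    rw [form_zero_iff cs _ hd, cpr_rt_self, ee_rt, Pi.add_apply, wt_apply_ne h3]; norm_num)
  rw [form_zero_iff cs _ (root_RC cs (rt_mem_RC a)), cpr_rt_self, ee_rt, Pi.add_apply, wt_apply_self,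
    wt_apply_ne haa, add_zero] at h4
  rcases mul_eq_zero.1 h4 with h5 | h5
  · exact sn_ne _ h5
  · exact sn_ne _ h5

/-- the shape of `r`, `b` in type `B n` -/
theorem shape_B {r b : Fin n → ℤ} (H : Hy cs (isCartan n) (RB n) r b) :
    ∃ a a' d : Fin n × Bool, a.1 ≠ a'.1 ∧ d.1 ≠ a.1 ∧ d.1 ≠ a'.1 ∧ r = rt a a' ∧ b = rt d d := by
  obtain ⟨a, a', haa, hr⟩ := mem_RB.1 H.hr
  rcases (isRoot_iff_mem cs).1 H.hb with h1 | h1
  · exact absurd h1 H.hbR
  obtain ⟨d, hd⟩ := mem_RC.1 h1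
  refine ⟨a, a', d, haa, ?_, ?_, hr, hd⟩
  · intro h2
    have h3 := H.h0
    rw [hr, hd, form_zero_iff cs _ (root_RB cs (rt_mem_RB haa)), cpr_rt cs _ haa, ee_rt, Pi.add_apply,
      Pi.add_apply, ← h2, wt_apply_self, wt_apply_ne (k := a'.1) (fun h => haa (by rw [← h2, h]))] at h3
    have h4 := sn_mul_self d
    rcases sn_eq_one_or d with h5 | h5 <;> rcases sn_eq_one_or a with h6 | h6 <;>
      rw [h5, h6] at h3 <;> norm_num at h3
  · intro h2
    have h3 := H.h0
    rw [hr, hd, form_zero_iff cs _ (root_RB cs (rt_mem_RB haa)), cpr_rt cs _ haa, ee_rt, Pi.add_apply,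
      Pi.add_apply, ← h2, wt_apply_self, wt_apply_ne (k := a.1) (fun h => haa (by rw [h, ← h2]))] at h3
    rcases sn_eq_one_or d with h5 | h5 <;> rcases sn_eq_one_or a' with h6 | h6 <;>
      rw [h5, h6] at h3 <;> norm_num at h3

theorem le_three {r b : Fin n → ℤ} (H : Hy cs (isCartan n) (RB n) r b) : n ≤ 3 := by
  obtain ⟨a, a', d, haa, hda, hda', rfl, rfl⟩ := shape_B cs H
  by_contra hn
  obtain ⟨m, hm⟩ : ∃ m : Fin n, m ∉ ({a.1, a'.1, d.1} : Finset (Fin n)) := by
    by_contra hcon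
    push Not at hcon
    have h1 : (Finset.univ : Finset (Fin n)) ⊆ {a.1, a'.1, d.1} := fun m _ => hcon m
    have h2 := Finset.card_le_card h1
    rw [Finset.card_univ, Fintype.card_fin] at h2
    have h3 : ({a.1, a'.1, d.1} : Finset (Fin n)).card ≤ 3 := Finset.card_le_three
    omega
  simp only [Finset.mem_insert, Finset.mem_singleton, not_or] at hm
  obtain ⟨hm1, hm2, hm3⟩ := hm
  have hdm : d.1 ≠ ((m, true) : Fin n × Bool).1 := fun h => hm3 h.symm
  have hs : rt d (m, true) ∈ RB n := rt_mem_RB hdm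
  have h1 := H.ho _ hs (by
    rw [form_zero_iff cs _ (root_RB cs (rt_mem_RB haa)), cpr_rt cs _ haa, ee_rt, Pi.add_apply,
      Pi.add_apply, wt_apply_ne hda.symm, wt_apply_ne hda'.symm, wt_apply_ne (a := (m, true)) (Ne.symm hm1),
      wt_apply_ne (a := (m, true)) (Ne.symm hm2)]
    norm_num)
  rw [form_zero_iff cs _ (root_RB cs hs), cpr_rt cs _ hdm, ee_rt, Pi.add_apply, Pi.add_apply, wt_apply_self,
    wt_apply_ne (k := ((m, true) : Fin n × Bool).1) (Ne.symm hdm)] at h1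
  have h2 := sn_mul_self d
  linarith

end StdBC

section StdB3

open Cfsg.Agent.Nodes.TypeC Cfsg.Agent.Nodes.TypeCForm Cfsg.Agent.Nodes.KindBC

variable {W : Type*} [Group W] [Fintype W] (cs : CoxeterSystem (CoxeterMatrix.B 3) W)

theorem exists_third {i j : Fin 3} (h : i ≠ j) : ∃ k, k ≠ i ∧ k ≠ j ∧ ∀ m : Fin 3, m = i ∨ m = j ∨ m = k := by
  revert i j
  decide

/-- the roots of `B3` orthogonal to a root of `RB 3` -/
theorem orth_B3 {a a' : Fin 3 × Bool} (haa : a.1 ≠ a'.1) {k : Fin 3} (hda : k ≠ a.1) (hda' : k ≠ a'.1) {y : Fin 3 → ℤ}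
    (hy : IsRoot cs (isCartan 3) y) (hyr : form cs (isCartan 3) y (rt a a') = 0) :
    y = rt a (ng a') ∨ y = -rt a (ng a') ∨ ∃ u : Fin 3 × Bool, u.1 = k ∧ y = rt u u := by
  have hr := root_RB cs (rt_mem_RB haa)
  have hsa := sn_mul_self a
  have hsa' := sn_mul_self a'
  have hthree : ∀ m : Fin 3, m = a.1 ∨ m = a'.1 ∨ m = k := by
    obtain ⟨k', h1, h2, h3⟩ := exists_third haa
    rcases h3 k with h4 | h4 | h4
    · exact absurd h4 hda
    · exact absurd h4 hda'
    · rw [h4]; exact h3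
  have key : ∀ u v : Fin 3 × Bool, u.1 = a.1 → v.1 = a'.1 →
      (wt u a.1 + wt v a.1) * sn a + (wt u a'.1 + wt v a'.1) * sn a' = 0 →
      rt u v = rt a (ng a') ∨ rt u v = -rt a (ng a') := by
    intro u v h2 h3 h4
    have e1 : wt u a.1 = sn u := by rw [← h2, wt_apply_self]
    have e2 : wt v a'.1 = sn v := by rw [← h3, wt_apply_self]
    have e3 : wt v a.1 = 0 := wt_apply_ne (by rw [h3]; exact haa)
    have e4 : wt u a'.1 = 0 := wt_apply_ne (by rw [h2]; exact haa.symm)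
    rw [e1, e2, e3, e4] at h4
    rcases KindB.eq_or_eq_ng h2 with h5 | h5 <;> rcases KindB.eq_or_eq_ng h3 with h6 | h6
    · exfalso
      rw [h5, h6] at h4
      linarith
    · left
      rw [h5, h6]
    · right
      rw [h5, h6, ← rt_ng, ng_ng]
    · exfalso
      rw [h5, h6, sn_ng, sn_ng] at h4
      linarith
  rw [form_zero_iff cs _ hr, cpr_rt cs _ haa] at hyr
  rcases (isRoot_iff_mem cs).1 hy with h1 | h1
  · obtain ⟨u, v, huv, rfl⟩ := mem_RB.1 h1
    rw [ee_rt, Pi.add_apply, Pi.add_apply] at hyr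
    rcases hthree u.1 with hu | hu | hu <;> rcases hthree v.1 with hv | hv | hv
    · exact absurd (hu.trans hv.symm) huv
    · rcases key u v hu hv hyr with h2 | h2
      · exact Or.inl h2
      · exact Or.inr (Or.inl h2)
    · exfalso
      rw [show wt u a.1 = sn u by rw [← hu, wt_apply_self], wt_apply_ne (a := v) (by rw [hv]; exact hda.symm),
        wt_apply_ne (a := u) (by rw [hu]; exact haa.symm), wt_apply_ne (a := v) (by rw [hv]; exact hda'.symm)] at hyr
      rcases mul_eq_zero.1 (show sn u * sn a = 0 by linarith) with h5 | h5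
      · exact sn_ne _ h5
      · exact sn_ne _ h5
    · rw [rt_comm]
      rcases key v u hv hu (by linarith) with h2 | h2
      · exact Or.inl h2
      · exact Or.inr (Or.inl h2)
    · exact absurd (hu.trans hv.symm) huv
    · exfalso
      rw [show wt u a'.1 = sn u by rw [← hu, wt_apply_self], wt_apply_ne (a := v) (by rw [hv]; exact hda.symm),
        wt_apply_ne (a := u) (by rw [hu]; exact haa), wt_apply_ne (a := v) (by rw [hv]; exact hda'.symm)] at hyr
      rcases mul_eq_zero.1 (show sn u * sn a' = 0 by linarith) with h5 | h5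
      · exact sn_ne _ h5
      · exact sn_ne _ h5
    · exfalso
      rw [show wt v a.1 = sn v by rw [← hv, wt_apply_self], wt_apply_ne (a := u) (by rw [hu]; exact hda.symm),
        wt_apply_ne (a := v) (by rw [hv]; exact haa.symm), wt_apply_ne (a := u) (by rw [hu]; exact hda'.symm)] at hyr
      rcases mul_eq_zero.1 (show sn v * sn a = 0 by linarith) with h5 | h5
      · exact sn_ne _ h5
      · exact sn_ne _ h5
    · exfalso
      rw [show wt v a'.1 = sn v by rw [← hv, wt_apply_self], wt_apply_ne (a := u) (by rw [hu]; exact hda.symm),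
        wt_apply_ne (a := v) (by rw [hv]; exact haa), wt_apply_ne (a := u) (by rw [hu]; exact hda'.symm)] at hyr
      rcases mul_eq_zero.1 (show sn v * sn a' = 0 by linarith) with h5 | h5
      · exact sn_ne _ h5
      · exact sn_ne _ h5
    · exact absurd (hu.trans hv.symm) huv
  · obtain ⟨u, rfl⟩ := mem_RC.1 h1
    rw [ee_rt, Pi.add_apply, Pi.add_apply] at hyr
    rcases hthree u.1 with hu | hu | hu
    · exfalso
      rw [show wt u a.1 = sn u by rw [← hu, wt_apply_self], wt_apply_ne (a := u) (by rw [hu]; exact haa.symm)] at hyr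
      rcases mul_eq_zero.1 (show sn u * sn a = 0 by linarith) with h5 | h5
      · exact sn_ne _ h5
      · exact sn_ne _ h5
    · exfalso
      rw [show wt u a'.1 = sn u by rw [← hu, wt_apply_self], wt_apply_ne (a := u) (by rw [hu]; exact haa)] at hyr
      rcases mul_eq_zero.1 (show sn u * sn a' = 0 by linarith) with h5 | h5
      · exact sn_ne _ h5
      · exact sn_ne _ h5
    · exact Or.inr (Or.inr ⟨u, hu, rfl⟩)

theorem sub_rt (a a' : Fin 3 × Bool) : rt a a' - rt a' a' = rt a (ng a') := by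
  apply ee_injective
  rw [sub_eq_add_neg, ee_add, ee_neg, ee_rt, ee_rt, ee_rt, wt_ng]
  abel

theorem cpr_one {a a' : Fin 3 × Bool} (haa : a.1 ≠ a'.1) : cpr cs (isCartan 3) (rt a a') (rt a' a') = 1 := by
  rw [cpr_rt_self, ee_rt, Pi.add_apply, wt_apply_self, wt_apply_ne (a := a) haa.symm, zero_add]
  exact sn_mul_self a'

/-- orthogonal members of `RB 3` are exchanged by the reflection in a member of `RC 3` -/
theorem refl_B3 {r s : Fin 3 → ℤ} (hr : r ∈ RB 3) (hs : s ∈ RB 3) (h0 : form cs (isCartan 3) r s = 0) :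
    ∃ y ∈ RC 3, s = r - cpr cs (isCartan 3) r y • y ∧ form cs (isCartan 3) r y ≠ 0 := by
  obtain ⟨a, a', haa, rfl⟩ := mem_RB.1 hr
  obtain ⟨k, hk1, hk2, -⟩ := exists_third haa
  rw [form_comm] at h0
  rcases orth_B3 cs haa hk1 hk2 (root_RB cs hs) h0 with h1 | h1 | ⟨u, -, h1⟩
  · refine ⟨rt a' a', rt_mem_RC a', ?_, ?_⟩
    · rw [cpr_one cs haa, one_smul, sub_rt, h1]
    · rw [Ne, form_zero_iff cs _ (root_RC cs (rt_mem_RC a')), cpr_one cs haa]
      norm_num
  · refine ⟨rt a a, rt_mem_RC a, ?_, ?_⟩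
    · rw [rt_comm a a', cpr_one cs haa.symm, one_smul, sub_rt, h1, ← rt_ng, ng_ng, rt_comm]
    · rw [rt_comm a a', Ne, form_zero_iff cs _ (root_RC cs (rt_mem_RC a)), cpr_one cs haa.symm]
      norm_num
  · exfalso
    rw [mem_RB_iff_ip cs (root_RB cs hs), h1, ee_rt, ip_rt_self] at hs
    norm_num at hs

/-- the members of `RC 3` are conjugate under the reflections in members of `RB 3` -/
theorem refl_C3 {b y : Fin 3 → ℤ} (hb : b ∈ RC 3) (hy : y ∈ RC 3) :
    y = b ∨ y = -b ∨ ∃ s ∈ RB 3, y = b - cpr cs (isCartan 3) b s • s := by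
  obtain ⟨d, rfl⟩ := mem_RC.1 hb
  obtain ⟨u, rfl⟩ := mem_RC.1 hy
  by_cases hdu : u.1 = d.1
  · rcases KindB.eq_or_eq_ng hdu with h1 | h1
    · left; rw [h1]
    · right; left; rw [h1, rt_ng]
  · right; right
    have h1 : d.1 ≠ (ng u).1 := fun h => hdu h.symm
    refine ⟨rt d (ng u), rt_mem_RB h1, ?_⟩
    have h2 : cpr cs (isCartan 3) (rt d d) (rt d (ng u)) = 2 := by
      rw [cpr_rt cs _ h1, ee_rt, Pi.add_apply, Pi.add_apply, wt_apply_self, wt_apply_ne (a := d) h1.symm]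
      have := sn_mul_self d
      linarith
    rw [h2]
    apply ee_injective
    rw [sub_eq_add_neg, ee_add, ee_neg, ee_smul, ee_rt, ee_rt, ee_rt, wt_ng, two_smul]
    abel

theorem out_B3 {r b : Fin 3 → ℤ} (H : Hy cs (isCartan 3) (RB 3) r b) : Out cs (isCartan 3) (RB 3) r b := by
  obtain ⟨a, a', d, haa, hda, hda', rfl, rfl⟩ := shape_B cs H
  have haa2 : a.1 ≠ (ng a').1 := haa
  have hr := root_RB cs (rt_mem_RB haa)
  have hr' := root_RB cs (rt_mem_RB haa2)
  have hsa := sn_mul_self a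
  have hsa' := sn_mul_self a'
  refine ⟨rt a (ng a'), rt_mem_RB haa2, ?_, ?_, ?_, ?_, ?_, ?_⟩
  · rw [form_zero_iff cs _ hr, cpr_rt cs _ haa, ee_rt, Pi.add_apply, Pi.add_apply, wt_apply_self,
      wt_ng, Pi.neg_apply, Pi.neg_apply, wt_apply_ne (a := a') haa, wt_apply_self, wt_apply_ne (a := a) haa.symm]
    linarith
  · intro h
    have h1 := congrArg (fun x => ee x a'.1) h
    simp only [ee_rt, Pi.add_apply, wt_ng, Pi.neg_apply, wt_apply_self] at h1
    exact sn_ne a' (by linarith)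
  · intro h
    have h1 := congrArg (fun x => ee x a.1) h
    simp only [ee_rt, ee_neg, Pi.add_apply, wt_ng, Pi.neg_apply, wt_apply_self, wt_apply_ne haa] at h1
    exact sn_ne a (by linarith)
  · intro y hy hyr
    rcases orth_B3 cs haa hda hda' hy hyr with h1 | h1 | ⟨u, hu, h1⟩
    · exact Or.inl h1
    · exact Or.inr (Or.inl h1)
    · rcases KindB.eq_or_eq_ng hu with h2 | h2
      · right; right; left; rw [h1, h2]
      · right; right; right; rw [h1, h2, rt_ng]
  · obtain ⟨w, hw⟩ := trans_RC cs _ (rt_mem_RC d) _ (rt_mem_RC a')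
    have h1 : cpr cs (isCartan 3) (rt a a') (rt a' a') = 1 := by
      rw [cpr_rt_self, ee_rt, Pi.add_apply, wt_apply_self, wt_apply_ne (a := a) haa.symm, zero_add]
      exact hsa'
    refine ⟨w, ?_, ?_⟩
    · rw [← hw, h1, one_smul]
      apply ee_injective
      rw [sub_eq_add_neg, ee_add, ee_neg, ee_rt, ee_rt, ee_rt, wt_ng]
      abel
    · rw [← hw, Ne, form_zero_iff cs _ (root_RC cs (rt_mem_RC a')), h1]
      norm_num
  · refine ⟨rt a d, rt_mem_RB hda.symm, fun h => ?_⟩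
    rw [form_zero_iff cs _ (root_RC cs (rt_mem_RC d)), cpr_rt_self, ee_rt, Pi.add_apply, wt_apply_self,
      wt_apply_ne hda, zero_add] at h
    have := sn_mul_self d
    omega

end StdB3

section F4

open Cfsg.Agent.Nodes.KindBase Cfsg.Agent.Nodes.KindChev Cfsg.Lie Cfsg.Agent.ChevalleyStructure.CoxeterGeomTypes

variable {W : Type*} [Group W] [Fintype W] (cs : CoxeterSystem CoxeterMatrix.F₄ W)
  (h : IsCartan CoxeterMatrix.F₄ (cartanOf chevF4 4))

theorem long_F4 (i : Fin 4) : sr i ∈ KindF.R cs h ↔ 2 ≤ (i : ℕ) := by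
  have h1 := qf_root cs h KindF.kd.hd 1 i
  rw [map_one, Module.End.one_apply] at h1
  have h2 : sr i ∈ KindF.R cs h ↔ 2 * KindF.d i = 4 := by
    rw [← h1]
    exact ⟨fun h => h.2, fun h => ⟨isRoot_sr cs _ i, h⟩⟩
  rw [h2]
  clear h1 h2
  revert i
  decide

theorem no_F4 {r b : Fin 4 → ℤ} (H : Hy cs h (KindF.R cs h) r b) : False := by
  have F := KindF.frameSys cs h
  obtain ⟨w, hw⟩ := KindF.trans cs h H.hr (F.mem 0)
  have h1 : ∀ l, cpr cs h (rep cs h w b) (KindF.fr l) = 0 := by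
    intro l
    rw [cpr_zero_iff cs h _ (F.root _ (F.mem l))]
    by_cases hl0 : l = 0
    · subst hl0
      rw [← hw, form_rep]
      exact H.h0
    · have h2 := H.ho (rep cs h w⁻¹ (KindF.fr l)) (F.act _ (F.mem l) _) (by
        rw [form_rep_left, inv_inv, hw, ← cpr_zero_iff cs h _ (F.root _ (F.mem 0))]
        exact F.orth l 0 hl0)
      rwa [form_rep_left]
  have h3 : ∀ l, ∑ i, rep cs h w b i * KindF.cf l i = 0 := fun l => by rw [← KindF.cpr_fr cs h]; exact h1 l
  have e0 := h3 0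
  have e1 := h3 1
  have e2 := h3 2
  have e3 := h3 3
  simp [KindF.cf, Fin.sum_univ_four] at e0 e1 e2 e3
  apply (H.hb.act w).ne_zero
  funext i
  rw [Pi.zero_apply]
  fin_cases i <;> simp only [Fin.zero_eta, Fin.mk_one, Fin.reduceFinMk] <;> omega

end F4

end Cfsg.Agent.OddHalf.NI.FTwo.CombStd
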