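import Cfsg.Agent.OddHalf.NI.FTwo.HexFin
import Cfsg.Agent.Cit.HexD4
import Cfsg.Agent.Cit.TDef

/-!
# (F2'), exceptional part: quotients `G₂(q)`, `³D₄(q)` do not occur
-/

set_option autoImplicit false

namespace Cfsg.Agent.OddHalf.NI.HexNo

open Subgroup Cfsg Cfsg.Agent.Cit.HexBase Cfsg.Agent.Lib.SL2Mat

theorem two_ne {F : Type} [Field F] {p : ℕ} [CharP F p] (hp : p ≠ 2) : (2 : F) ≠ 0 := by
  intro h
  have h1 : ((2 : ℕ) : F) = 0 := by rw [Nat.cast_two]; exact h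
  have h2 := (CharP.cast_eq_zero_iff F p 2).1 h1
  rcases (Nat.dvd_prime Nat.prime_two).1 h2 with h3 | h3
  · subst h3
    exact CharP.char_ne_one F 1 rfl
  · exact hp h3

theorem hexFact_d4 {K : Type} [Field K] [Fintype K] {q : ℕ} (hK : Fintype.card K = q ^ 3)
    (h2 : (2 : K) ≠ 0) : HexFact ↥(Lie.twistedD4 K q) := by
  obtain ⟨σ, -, ⟨c⟩⟩ := Cfsg.Agent.Cit.HexD4.exists_d4 hK
  exact hexFact_of_hexGrp c h2

theorem hexFact_of_isG2D4 {p : ℕ} (hp : p ≠ 2) {X : Type*} [Group X] (h : Cit.IsG2D4 p X) : HexFact X := by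
  obtain ⟨F, _, _, _, h⟩ := h
  rcases h with ⟨⟨e⟩⟩ | ⟨q, hq, hF, ⟨e⟩⟩
  · exact (hexFact_g2 (two_ne (p := p) hp)).congr e.symm
  · exact (hexFact_d4 hF (two_ne (p := p) hp)).congr e.symm

/-- **(F2'), part (G).** -/
theorem false_of_isG2D4 {p : ℕ} (hp : p ≠ 2) {L : Type*} [Group L] [Finite L] (hX : Cit.IsG2D4 p (L ⧸ center L))
    {j1 j2 : L} {J1 : Subgroup L} (h1 : j1 ∈ center L) (h11 : j1 ≠ 1) (hj1 : j1 ∈ J1) (h2 : j2 * j2 = 1)
    (h2c : j2 ∉ center L) (hJ : J1 ≤ centralizer ({j2} : Set L))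
    (hsub : (J1.subgroupOf (centralizer ({j2} : Set L))).IsSubnormal)
    {F : Type*} [Field F] [Fintype F] (ho : Odd (Fintype.card F)) (h3 : 3 < Fintype.card F)
    (e : Nonempty (J1 ≃* Matrix.SpecialLinearGroup (Fin 2) F)) : False :=
  false_of_two (hexFact_of_isG2D4 hp hX) h1 h11 hj1 h2 h2c hJ hsub ho h3 e

end Cfsg.Agent.OddHalf.NI.HexNo
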