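import Cfsg.Agent.OddHalf.NI.FTwo.Main
import Cfsg.Agent.OddHalf.NI.FTwo.HexEnd

/-!
# NI (F2'): the literal statement `F2'` of `NI/Props.lean`
-/

set_option autoImplicit false
set_option linter.dupNamespace false

namespace Cfsg.Agent.OddHalf.NI.FTwo

open Subgroup Cfsg
open Cfsg.Agent.Cit (TStmt)

universe u

theorem excNo : ExcNo.{u} :=
  fun hp _ _ _ hX _ _ _ h1 h11 hj1 h2 h2c hJ hsub _ _ _ ho h3 e =>
    HexNo.false_of_isG2D4 hp hX h1 h11 hj1 h2 h2c hJ hsub ho h3 e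

/-- **(F2')** over a given field. -/
theorem main (hT : TStmt.{u}) {N : Type u} [Group N] [Finite N] (hN : IsQuasisimple N)
    (hc2 : IsPGroup 2 (center N)) {c d : N} {A B : Subgroup N} (hc : c ∈ center N) (hco : orderOf c = 2)
    (hd : orderOf d = 2) (hcA : c ∈ A) (hdB : d ∈ B) (hAB : A ≠ B)
    (hA : CompIn (centralizer ({d} : Set N)) A) (hB : CompIn (centralizer ({d} : Set N)) B)
    {F : Type} [Field F] [Fintype F] (hAs : SL F A) (hBs : SL F B) :
    ∃ A' : Subgroup N, CompIn (centralizer ({d} : Set N)) A' ∧ c * d ∈ A' ∧ SL F A' ∧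
      (∀ K : Subgroup N, CompIn (centralizer ({d} : Set N)) K → K = A ∨ K = B ∨ K = A') ∧
      ChartB3 F N c d A B A' :=
  main_of hT excNo hN hc2 hc hco hd hcA hdB hAB hA hB hAs hBs

/-- `S7` with `|F| > 3`. -/
def S7Big : ∀ (N : Type*) [Group N], N → N → Subgroup N → Subgroup N → Subgroup N → Prop :=
  fun N _ c d A B A' => ∃ (F : Type) (_ : Field F) (_ : Fintype F), 3 < Fintype.card F ∧ ChartB3 F N c d A B A'

/-- **(F2')**, the literal statement, with the chart of type `B₃`, `|F| > 3`. -/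
theorem f2' (hT : TStmt.{u}) : F2'.{u} S7Big := by
  rintro N _ _ hN hc2 - c d A B hc hco hd hcA hdB hAB hA hB ⟨F, _, _, ho, h3, eA, eB⟩
  obtain ⟨A', h1, h2, h4, h5, h6⟩ := main hT hN hc2 hc hco hd hcA hdB hAB hA hB (F := F) ⟨ho, h3, eA⟩ ⟨ho, h3, eB⟩
  exact ⟨A', h1, h2, ⟨F, inferInstance, inferInstance, ho, h3, h4.equiv⟩, h5, F, inferInstance, inferInstance, h3, h6⟩

end Cfsg.Agent.OddHalf.NI.FTwo
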