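import Cfsg.Agent.OddHalf.NI.FTwo.Mod
import Cfsg.Agent.UGT.U2.ThmXQ

/-!
# (F2') for node U2 of UGT: `ThmXQ.F2N`
-/

set_option autoImplicit false
set_option linter.dupNamespace false

namespace Cfsg.Agent.OddHalf.NI.FTwo

open Subgroup Cfsg
open Cfsg.Agent.Cit (TStmt)
open Cfsg.Agent.UGT.U2.ThmXQ (F2N QSL quasisimple_of_B)
open Cfsg.Agent.Intrinsic.Basic (IsComp)
open Cfsg.Agent.UGT.Iface (Bar)

universe u

/-- `Z(N)` is a 2-group if `O(N) = 1`. -/
theorem center_two_group {N : Type*} [Group N] [Finite N] (hO : oddCore N = ⊥) : IsPGroup 2 (center N) := by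
  rw [IsPGroup.iff_card]
  refine ⟨_, Nat.eq_prime_pow_of_unique_prime_dvd Nat.card_pos.ne' fun {l} hl hd => ?_⟩
  by_contra hl2
  have : Fact l.Prime := ⟨hl⟩
  obtain ⟨x, hx⟩ := exists_prime_orderOf_dvd_card' l hd
  have hxo : orderOf (x : N) = l := by rw [Subgroup.orderOf_coe, hx]
  have hn : (zpowers (x : N)).Normal := by
    refine ⟨fun a ha g => ?_⟩
    obtain ⟨k, rfl⟩ := mem_zpowers_iff.1 ha
    have h1 := mem_center_iff.1 ((center N).zpow_mem x.2 k) g
    rw [h1, mul_inv_cancel_right]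
    exact zpow_mem (mem_zpowers _) k
  have h1 : zpowers (x : N) ≤ oddCore N := by
    refine Lib.Cores.le_pPrimeCore hn ?_
    rw [Nat.card_zpowers, hxo]
    exact (Nat.coprime_primes hl Nat.prime_two).2 hl2
  rw [hO, le_bot_iff, zpowers_eq_bot] at h1
  rw [h1, orderOf_one] at hxo
  exact hl.one_lt.ne hxo

theorem f2N (hT : TStmt.{u}) {F : Type} [Field F] [Fintype F] (hF : Odd (Fintype.card F))
    (h3 : 3 < Fintype.card F) : F2N.{u} F (fun N _ c d A B A' => ChartB3 F N c d A B A') := by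
  intro N _ _ hN hO hB c d A B hc hco hd hdc hcA hdB hAB hA hB' qA qB
  have hc2 : IsPGroup 2 (center N) := center_two_group hO
  have comp : ∀ K : Subgroup N, IsComp (centralizer ({d} : Set N)) K → CompIn (centralizer ({d} : Set N)) K := by
    intro K hK
    have h1 := quasisimple_of_B hO hB hd hK
    exact ⟨hK.1, hK.2.1, SignalizersComponents.Components.isQuasisimple_of_mulEquiv
      (subgroupOfEquivOfLe hK.1).symm h1⟩
  have sl : ∀ K : Subgroup N, IsComp (centralizer ({d} : Set N)) K → QSL F K → SLm F K := fun K hK q =>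
    ⟨hF, h3, (comp K hK).quasi, q⟩
  obtain ⟨hAs, hBs, A', h1, h2, h4, h5, h6⟩ := main_mod hT hN hc2 hc hco hd hcA hdB hAB (comp A hA) (comp B hB')
    (sl A hA qA) (sl B hB' qB)
  have hp2 : Fact (Nat.Prime 2) := ⟨Nat.prime_two⟩
  have hcd : c * d ≠ 1 := by
    intro h0
    apply hdc
    have h7 : d = c⁻¹ := eq_inv_of_mul_eq_one_right h0
    rw [h7]
    exact inv_mem hc
  have hcd2 : (c * d) ^ 2 = 1 := by
    have e1 : c * c = 1 := by rw [← pow_two, ← hco]; exact pow_orderOf_eq_one c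
    have e2 : d * d = 1 := by rw [← pow_two, ← hd]; exact pow_orderOf_eq_one d
    have e3 := mem_center_iff.1 hc d
    rw [pow_two]
    calc c * d * (c * d) = c * (d * c) * d := by group
      _ = c * (c * d) * d := by rw [e3]
      _ = (c * c) * (d * d) := by group
      _ = 1 := by rw [e1, e2, mul_one]
  have hA'c : IsComp (centralizer ({d} : Set N)) A' := by
    refine ⟨h1.le, SignalizersComponents.EvenComponent.isPComponent_of_isComponent h1.comp ?_⟩
    rw [Nat.card_congr (subgroupOfEquivOfLe h1.le).toEquiv]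
    have h7 : orderOf (⟨c * d, h2⟩ : A') = 2 := by
      rw [← Subgroup.orderOf_coe]
      exact orderOf_eq_prime hcd2 hcd
    rw [← h7]
    exact orderOf_dvd_natCard _
  refine ⟨A', hA'c, h2, ?_, fun K hK => h5 K (comp K hK), h6⟩
  obtain ⟨e⟩ := h4.equiv
  exact ⟨((QuotientGroup.quotientMulEquivOfEq h4.oddCore_eq_bot).trans QuotientGroup.quotientBot).trans e⟩

end Cfsg.Agent.OddHalf.NI.FTwo
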