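import Cfsg.Agent.OddHalf.NI.FTwo.FactsCo
import Cfsg.Agent.Nodes.ShortSum
import Cfsg.Agent.Nodes.RankOneSub

/-!
# NI (F2'), facts: `PosB3` gives the structure `B3` of `NI3/Sol/Defs.lean`

`b3_of_pos` : the root groups `X v := C.X (P v)` and the involutions `z v` (`v` long: `C.z (P v)`, `v` short: `c`)
satisfy (c1), (c2), (z), (n) and the normalisation by the rank one tori; `exists_b3` : in the position `(c, d, A, B, A')`.
-/

set_option autoImplicit false
set_option linter.dupNamespace false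

namespace Cfsg.Agent.OddHalf.NI.FTwo.Facts

open Cfsg
open CoxeterSystem Cfsg.Agent.ChevalleyStructure.CoxeterGeom Cfsg.Agent.Tits.Roots Cfsg.Agent.Tits.Core
  Cfsg.Agent.Tits.RootComb Cfsg.Agent.Nodes.Comb Cfsg.Agent.Nodes.Reps Cfsg.Agent.Nodes.BNOf
  Cfsg.Agent.Nodes.RGDLib Cfsg.Agent.Nodes.Chart Cfsg.Agent.Nodes.Coroot Cfsg.Agent.Nodes.FreeTorus
  Cfsg.Agent.Nodes.Perp Cfsg.Agent.Nodes.ZRel
open Cfsg.Agent.OddHalf.NI3.Sol (V IsR IsS IsL dot shortL longL pr refl)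
open FactsV FactsCo
open scoped commutatorElement

variable {N : Type*} [Group N] {Om : Set (Subgroup N)} {p : ℕ}

/-! ### Tables -/

theorem tab_inj : ∀ u ∈ rootsL, ∀ v ∈ rootsL, la u * dot u v = 2 → la v * dot v u = 2 → u = v := by decide +kernel

theorem tab_ex : ∀ v ∈ longL, ∃ u ∈ shortL, dot u v = 1 := by decide +kernel

/-! ### Involutions of `SL₂(F)` -/

section SL

variable {K : Type*} [Field K]

/-- involutions of `SL₂(K)` -/
theorem eq_one_or_neg_one (h2 : (2 : K) ≠ 0) {g : Matrix.SpecialLinearGroup (Fin 2) K} (hg : g * g = 1) :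
    g = 1 ∨ g = -1 := by
  have hinv : g⁻¹ = g := inv_eq_of_mul_eq_one_left hg
  have h3 := congrArg (fun k : Matrix.SpecialLinearGroup (Fin 2) K => (k : Matrix (Fin 2) (Fin 2) K)) hinv
  simp only [Matrix.SpecialLinearGroup.coe_inv, Matrix.adjugate_fin_two] at h3
  have h00 : g.1 1 1 = g.1 0 0 := by simpa using congrFun (congrFun h3 0) 0
  have h01 : -g.1 0 1 = g.1 0 1 := by simpa using congrFun (congrFun h3 0) 1
  have h10 : -g.1 1 0 = g.1 1 0 := by simpa using congrFun (congrFun h3 1) 0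
  have hz : ∀ x : K, -x = x → x = 0 := by
    intro x hx
    have : (2 : K) * x = 0 := by linear_combination -hx
    exact (mul_eq_zero.1 this).resolve_left h2
  have h01' := hz _ h01
  have h10' := hz _ h10
  have hdet : g.1 0 0 * g.1 1 1 - g.1 0 1 * g.1 1 0 = 1 := by
    have := g.2
    rwa [Matrix.det_fin_two] at this
  rw [h00, h01', zero_mul, sub_zero] at hdet
  have h4 : (g.1 0 0 - 1) * (g.1 0 0 + 1) = 0 := by linear_combination hdet
  rcases mul_eq_zero.1 h4 with h5 | h5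
  · left
    have h6 : g.1 0 0 = 1 := sub_eq_zero.1 h5
    apply Subtype.ext
    ext i j
    fin_cases i <;> fin_cases j
    · simpa using h6
    · simpa using h01'
    · simpa using h10'
    · simpa [h6] using h00
  · right
    have h6 : g.1 0 0 = -1 := eq_neg_of_add_eq_zero_left h5
    apply Subtype.ext
    ext i j
    fin_cases i <;> fin_cases j
    · simpa using h6
    · simpa using h01'
    · simpa using h10'
    · simpa [h6] using h00

end SL

theorem Co.inj {C : Chart Om p (⊤ : Subgroup N)} {P : V → (C.I → ℤ)} (Q : Co C P) {u v : V} (hu : IsR u)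
    (hv : IsR v) (e : P u = P v) : u = v := by
  apply tab_inj u (mem_rootsL.2 hu) v (mem_rootsL.2 hv)
  · rw [← Q.cpr u v hu hv, e, cpr_self C.cs C.h (Q.root v hv)]
  · rw [← Q.cpr v u hv hu, e, cpr_self C.cs C.h (Q.root v hv)]

theorem Co.ne_neg {C : Chart Om p (⊤ : Subgroup N)} {P : V → (C.I → ℤ)} (Q : Co C P) {u v : V} (hu : IsR u)
    (hv : IsR v) (hne : u ≠ -v) : P u ≠ -P v := by
  intro e
  apply hne
  have h1 := (tab_neg v (mem_rootsL.2 hv)).1
  exact Co.inj Q hu h1 (by rw [e, Q.neg v hv])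

section Main

variable {C : Chart Om p (⊤ : Subgroup N)} {F : Type} [Field F] [Fintype F] {c d : N} {A B A' : Subgroup N}
  {r r' b : C.I → ℤ} (H : PosB3 C F c d A B A' r r' b) {P : V → (C.I → ℤ)} (Q : Co C P)

include Q

theorem form_iff {u v : V} (hu : IsR u) (hv : IsR v) : form C.cs C.h (P u) (P v) = 0 ↔ dot u v = 0 := by
  rw [← cpr_zero_iff C.cs C.h _ (Q.root v hv), Q.cpr u v hu hv]
  have h3 : 0 < la u := by unfold la; split_ifs <;> norm_num
  constructor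
  · exact fun h0 => (mul_eq_zero.1 h0).resolve_left h3.ne'
  · intro h0; rw [h0, mul_zero]

theorem exists_ne {v : V} (hv : IsR v) : ∃ a ∈ C.X (P v), a ≠ 1 := by
  by_contra h0
  push Not at h0
  exact Nodes.StdConn.X_ne_bot C.cls (Q.root v hv) ((Subgroup.eq_bot_iff_forall _).2 h0)

/-- no root in the open cone -/
theorem not_btwn {u v : V} (hu : IsR u) (hv : IsR v) (hne : u ≠ v) (hne' : u ≠ -v)
    (h : ∀ w ∈ rootsL, ¬ Bet u v w) (z : C.I → ℤ) : ¬ Btwn C.cs C.h (P u) (P v) z := by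
  intro hz
  obtain ⟨w, hw, rfl⟩ := Q.surj z hz.1
  exact h w (mem_rootsL.2 hw) (Q.btwn u v w hu hv hw hne hne' hz)

theorem btw_le {u v : V} (hu : IsR u) (hv : IsR v) (hne : u ≠ v) (hne' : u ≠ -v) {K : Subgroup N}
    (h : ∀ w, IsR w → Bet u v w → C.X (P w) ≤ K) : btw C.cs C.h C.X (P u) (P v) ≤ K := by
  refine Nodes.ShortSum.btw_le fun z hz => ?_
  obtain ⟨w, hw, rfl⟩ := Q.surj z hz.1
  exact h w hw (Q.btwn u v w hu hv hw hne hne' hz)

theorem comm_mem {u v : V} (hu : IsR u) (hv : IsR v) (hne : u ≠ v) (hne' : u ≠ -v) {K : Subgroup N}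
    (h : ∀ w, IsR w → Bet u v w → C.X (P w) ≤ K) {a b : N} (ha : a ∈ C.X (P u)) (hb : b ∈ C.X (P v)) :
    ⁅a, b⁆ ∈ K :=
  btw_le Q hu hv hne hne' h (C.cls.rgd.comm (P u) (P v) (Q.root u hu) (Q.root v hv)
    (fun e => hne (Co.inj Q hu hv e)) (Co.ne_neg Q hu hv hne') a ha b hb)

theorem X_eq_Z' (H : PosB3 C F c d A B A' r r' b) {v : V} (hv : IsL v) : C.X (P v) = C.Z (P v) :=
  (H.zx _ ((Q.mem v (Or.inr hv)).2 hv)).symm

/-- (c1) -/
theorem comm (H : PosB3 C F c d A B A' r r' b) {u v : V} (hu : IsR u) (hv : IsR v) (h1 : ¬ IsR (u + v))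
    (h2 : u + v ≠ 0) {x y : N} (hx : x ∈ C.X (P u)) (hy : y ∈ C.X (P v)) : x * y = y * x := by
  rcases tab_comm u (mem_rootsL.2 hu) v (mem_rootsL.2 hv) h1 h2 with rfl | ⟨h3, h4, h5⟩ | ⟨h3, h4, h5⟩
  · exact H.comm _ (Q.root _ hu) x hx y hy
  · rw [X_eq_Z' Q H h4] at hy
    exact X_cm_Z C.cls ((Q.mem v hv).2 h4) (Q.root u hu) ((form_iff Q hu hv).2 h5).ge x hx y hy
  · have h6 := Nodes.PairOf.comm_of_no_btwn C.cls.rgd (Q.root u hu) (Q.root v hv) (fun e => h3 (Co.inj Q hu hv e))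
      (Co.ne_neg Q hu hv h4) (not_btwn Q hu hv h3 h4 h5) x hx y hy
    rwa [commutatorElement_eq_one_iff_mul_comm] at h6

/-! ### The involutions -/

theorem z_even {v u : V} (H : PosB3 C F c d A B A' r r' b) (hv : IsL v) (hu : IsR u)
    (h0 : dot u v = 0 ∨ u = v ∨ u = -v) {x : N} (hx : x ∈ C.X (P u)) : C.z (P v) * x = x * C.z (P v) := by
  have hR := (Q.mem v (Or.inr hv)).2 hv
  rcases h0 with h0 | rfl | rfl
  · exact (z_cent_of_orth C.cls hR (Q.root u hu) ((form_iff Q hu (Or.inr hv)).2 h0) hx).symm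
  · exact C.cls.z_cent _ hR x (H.zx _ hR ▸ hx)
  · rw [Q.neg v (Or.inr hv)] at hx
    have hR' := neg_mem C.cls hR
    rw [← C.cls.z_neg _ hR]
    exact C.cls.z_cent _ hR' x (H.zx _ hR' ▸ hx)

theorem z_odd {v u : V} (hv : IsL v) (hu : IsR u) (h0 : dot u v = 1 ∨ dot u v = -1) {x : N}
    (hx : x ∈ C.X (P u)) : C.z (P v) * x * C.z (P v) = x⁻¹ := by
  have hR := (Q.mem v (Or.inr hv)).2 hv
  have hvR : IsR v := Or.inr hv
  have hvv : dot v v = 2 := (tab_L v hv).2.2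
  refine C.cls.z_inv _ hR (P u) (Q.root u hu) ?_ ?_ ?_ x hx
  · intro e
    have := Co.inj Q hu hvR e
    subst this
    omega
  · refine Co.ne_neg Q hu hvR ?_
    rintro rfl
    have : dot (-v) v = -dot v v := by simp only [dot, Prod.fst_neg, Prod.snd_neg]; ring
    omega
  · rw [Ne, form_iff Q hu hvR]
    omega

theorem z_sq {v : V} (hv : IsL v) : C.z (P v) * C.z (P v) = 1 := C.cls.z_sq _ ((Q.mem v (Or.inr hv)).2 hv)

theorem z_ne_one {v : V} (hv : IsL v) : C.z (P v) ≠ 1 := by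
  intro h0
  obtain ⟨u, hu, huv⟩ := tab_ex v hv
  have huR : IsR u := Or.inl hu
  obtain ⟨x, hx, hx1⟩ := exists_ne Q huR
  have h1 := z_odd Q hv huR (Or.inl huv) hx
  rw [h0, one_mul, mul_one] at h1
  exact hx1 (eq_one_of_inv C.cls C.prime C.odd (Q.root u huR) hx h1)

omit Q in
theorem two_ne (H : PosB3 C F c d A B A' r r' b) : (2 : F) ≠ 0 := by
  intro h0
  have h1 := H.odd
  have h2 : ringChar F = 2 := by
    apply CharP.ringChar_of_prime_eq_zero Nat.prime_two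
    exact_mod_cast h0
  rw [Nat.odd_iff] at h1
  have h3 := (FiniteField.even_card_iff_char_two (F := F)).1 h2
  omega

theorem uniq (H : PosB3 C F c d A B A' r r' b) : Uniq C.R C.Z C.z := by
  intro s hs x hx h1 h2
  have hK : KK C.Z s = LL C.X s := by
    unfold KK LL
    rw [H.zx s hs, H.zx _ (neg_mem C.cls hs)]
  obtain ⟨e⟩ := H.sl s (C.cls.root s hs)
  have hz := C.cls.z_mem s hs
  change C.z s ∈ KK C.Z s at hz
  rw [hK] at hx hz
  have hz1 : C.z s ≠ 1 := by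
    obtain ⟨v, hv, rfl⟩ := Q.surj s (C.cls.root s hs)
    exact z_ne_one Q ((Q.mem v hv).1 hs)
  have key : ∀ y : ↥(LL C.X s), (y : N) * y = 1 → (y : N) ≠ 1 → e y = -1 := by
    intro y hy hy1
    have h3 : e y * e y = 1 := by
      rw [← map_mul, show y * y = 1 from Subtype.ext hy, map_one]
    rcases eq_one_or_neg_one (two_ne H) h3 with h4 | h4
    · exfalso
      apply hy1
      rw [e.map_eq_one_iff] at h4
      rw [h4]; rfl
    · exact h4
  have h3 := key ⟨x, hx⟩ h1 h2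
  have h4 := key ⟨_, hz⟩ (C.cls.z_sq s hs) hz1
  exact congrArg Subtype.val (e.injective (h3.trans h4.symm))

/-! ### Sums of roots -/

open Classical in
/-- the root group of `u + 2 v` -/
noncomputable def K2 (C : Chart Om p (⊤ : Subgroup N)) (P : V → (C.I → ℤ)) (u v : V) : Subgroup N :=
  if IsR (u + v + v) then C.X (P (u + v + v)) else ⊥

omit Q in
theorem mem_K2 {u v : V} {k : N} (hk : k ∈ K2 C P u v) : k = 1 ∨ (IsR (u + v + v) ∧ k ∈ C.X (P (u + v + v))) := by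
  unfold K2 at hk
  split_ifs at hk with h0
  · exact Or.inr ⟨h0, hk⟩
  · exact Or.inl (Subgroup.mem_bot.1 hk)

omit Q in
theorem le_K2 {u v : V} (h : IsR (u + v + v)) : C.X (P (u + v + v)) ≤ K2 C P u v := by
  unfold K2
  rw [if_pos h]

/-- every element of `X (u + v)` is a commutator modulo `X (u + 2v)`, `u` long -/
theorem key (H : PosB3 C F c d A B A' r r' b) {u v : V} (hu : IsL u) (hv : IsR v) (huv : IsR (u + v)) {g : N}
    (hg : g ∈ C.X (P (u + v))) : ∃ b' ∈ C.X (P u), ∃ h ∈ C.X (P v), ∃ k ∈ K2 C P u v, ⁅b', h⁆ = g * k := by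
  obtain ⟨t1, t2, t3, t4, t5, t6, t7, t8, t9, t10, t11, t12, t13, t14⟩ := tab_long u hu v (mem_rootsL.2 hv) huv
  have huR : IsR u := Or.inr hu
  have hnu : IsR (-u) := (tab_neg u (mem_rootsL.2 huR)).1
  -- `K2` is central
  have kc1 : ∀ k ∈ K2 C P u v, ∀ y ∈ C.X (P v), k * y = y * k := by
    intro k hk y hy
    rcases mem_K2 hk with rfl | ⟨h0, hk⟩
    · rw [one_mul, mul_one]
    · have h1 := tab_long2 u hu v (mem_rootsL.2 hv) huv h0
      exact comm Q H h0 hv h1.2.2.2.1 h1.2.2.2.2.1 hk hy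
  have kc2 : ∀ k ∈ K2 C P u v, ∀ y ∈ C.X (P (u + v)), k * y = y * k := by
    intro k hk y hy
    rcases mem_K2 hk with rfl | ⟨h0, hk⟩
    · rw [one_mul, mul_one]
    · have h1 := tab_long2 u hu v (mem_rootsL.2 hv) huv h0
      exact comm Q H h0 huv h1.2.2.2.2.2.1 h1.2.2.2.2.2.2 hk hy
  -- the reflection
  obtain ⟨b', hb', hb'1⟩ := exists_ne Q huR
  have hx := Q.root u huR
  obtain ⟨a', ha', c', hc', w, hw, ew⟩ := exists_refl_LL C.cls.rgd hx.neg (b := b') (by rw [neg_neg]; exact hb') hb'1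
  have ewv : rep C.cs C.h w (P v) = P (u + v) := by
    rw [ew, cpr_neg_right C.cs C.h _ hx, neg_smul, smul_neg, neg_neg, Q.refl v u hv huR, t6]
  rw [← Q.neg u huR] at ha' hc'
  set n := a' * b' * c' with hn
  have hh : n⁻¹ * g * n ∈ C.X (P v) := by
    have h0 := C.cls.rgd.conj_mem' hw (Q.root _ huv) hg
    rwa [← ewv, rep_inv_apply] at h0
  set h := n⁻¹ * g * n with hhd
  have e1 : a'⁻¹ * g * a' = b' * h * b'⁻¹ := by
    have h2 : c' * h = h * c' := comm Q H hnu hv t4 t5 hc' hh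
    have h3 : c' * h * c'⁻¹ = h := by rw [h2, mul_inv_cancel_right]
    calc a'⁻¹ * g * a' = a'⁻¹ * (n * h * n⁻¹) * a' := by rw [hhd]; group
      _ = b' * (c' * h * c'⁻¹) * b'⁻¹ := by rw [hn]; group
      _ = _ := by rw [h3]
  -- the two commutators
  obtain ⟨x1, hx1, x2, hx2, e2⟩ : ∃ x1 ∈ C.X (P (u + v)), ∃ x2 ∈ K2 C P u v, ⁅b', h⁆ = x1 * x2 := by
    refine Nodes.ShortSum.mem_sup_of_cm (fun a ha k hk => (kc2 k hk a ha).symm) ?_
    refine comm_mem Q huR hv t2 t3 (fun w hw hb => ?_) hb' hh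
    rcases t12 w (mem_rootsL.2 hw) hb with rfl | rfl
    · exact le_sup_left
    · exact (le_K2 hw).trans le_sup_right
  obtain ⟨y1, hy1, y2, hy2, e3⟩ : ∃ y1 ∈ C.X (P v), ∃ y2 ∈ K2 C P u v, ⁅a'⁻¹, g⁆ = y1 * y2 := by
    refine Nodes.ShortSum.mem_sup_of_cm (fun a ha k hk => (kc1 k hk a ha).symm) ?_
    refine comm_mem Q hnu huv t7 t8 (fun w hw hb => ?_) (inv_mem ha') hg
    rcases t13 w (mem_rootsL.2 hw) hb with rfl | rfl
    · exact le_sup_left
    · exact (le_K2 hw).trans le_sup_right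
  have hκ : ⁅h, g⁻¹⁆ ∈ K2 C P u v := by
    refine comm_mem Q hv huv t9 t10 (fun w hw hb => ?_) hh (inv_mem hg)
    have := t14 w (mem_rootsL.2 hw) hb
    subst this
    exact le_K2 hw
  set κ := ⁅h, g⁻¹⁆ with hκd
  have e4 : y1 * y2 * g = x1 * x2 * h := by
    rw [← e3, ← e2, commutatorElement_def, commutatorElement_def]
    calc a'⁻¹ * g * a'⁻¹⁻¹ * g⁻¹ * g = a'⁻¹ * g * a' := by group
      _ = b' * h * b'⁻¹ := e1
      _ = _ := by group
  -- `y1 h⁻¹ = x1 g⁻¹ (x2 κ y2⁻¹)`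
  have e5 : y1 * h⁻¹ = x1 * g⁻¹ * (x2 * κ * y2⁻¹) := by
    have f1 : g * h⁻¹ = h⁻¹ * g * κ⁻¹ := by rw [hκd, commutatorElement_def]; group
    have f2 : y2 * h⁻¹ = h⁻¹ * y2 := kc1 y2 hy2 _ (inv_mem hh)
    have f3 : y2 * g = g * y2 := kc2 y2 hy2 g hg
    have f4 : (x2 * κ * y2⁻¹) * g⁻¹ = g⁻¹ * (x2 * κ * y2⁻¹) :=
      kc2 _ (mul_mem (mul_mem hx2 hκ) (inv_mem hy2)) _ (inv_mem hg)
    have f5 : y1 * h⁻¹ * g * y2 * κ⁻¹ = x1 * x2 := by
      calc y1 * h⁻¹ * g * y2 * κ⁻¹ = y1 * h⁻¹ * (g * y2) * κ⁻¹ := by group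
        _ = y1 * (h⁻¹ * y2) * g * κ⁻¹ := by rw [← f3]; group
        _ = y1 * y2 * (h⁻¹ * g * κ⁻¹) := by rw [← f2]; group
        _ = (y1 * y2 * g) * h⁻¹ := by rw [← f1]; group
        _ = x1 * x2 := by rw [e4]; group
    calc y1 * h⁻¹ = (y1 * h⁻¹ * g * y2 * κ⁻¹) * κ * y2⁻¹ * g⁻¹ := by group
      _ = x1 * ((x2 * κ * y2⁻¹) * g⁻¹) := by rw [f5]; group
      _ = _ := by rw [f4]; group
  have hk : x2 * κ * y2⁻¹ ∈ K2 C P u v := mul_mem (mul_mem hx2 hκ) (inv_mem hy2)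
  have e6 : y1 * h⁻¹ = 1 := by
    have l0 : ∀ w, 0 < la w := fun w => by unfold la; split_ifs <;> norm_num
    have duv : dot v u = -1 := by rw [dot_comm]; exact t1
    have duu : dot u u = 2 := (tab_L u hu).2.2
    have huv2 : dot (u + v) u = 1 := by
      have : dot (u + v) u = dot u u + dot v u := by simp only [dot, Prod.fst_add, Prod.snd_add]; ring
      omega
    refine Nodes.Slope.sup_inf_sup' C.cls.rgd (-(ell C.cs C.h hx)) (ell C.cs C.h (Q.root _ huv))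
      (u := y1 * h⁻¹) ?_ ?_
    · refine RGD.le_Sup (X := C.X) (S := {x | IsRoot C.cs C.h x ∧ 0 < (-(ell C.cs C.h hx)) x})
        ⟨Q.root v hv, ?_⟩ (mul_mem hy1 (inv_mem hh))
      rw [AddMonoidHom.neg_apply, ell_apply, Q.cpr v u hv huR, duv]
      have := l0 v
      omega
    · rw [e5]
      refine mul_mem (RGD.le_Sup (X := C.X) (S := {x | IsRoot C.cs C.h x ∧ (-(ell C.cs C.h hx)) x ≤ 0 ∧
        0 < (ell C.cs C.h (Q.root _ huv)) x}) ⟨Q.root _ huv, ?_, ?_⟩ (mul_mem hx1 (inv_mem hg))) ?_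
      · rw [AddMonoidHom.neg_apply, ell_apply, Q.cpr _ u huv huR, huv2]
        have := l0 (u + v)
        omega
      · rw [ell_apply, Q.cpr _ _ huv huv]
        exact mul_pos (l0 _) t11
      · rcases mem_K2 hk with h0 | ⟨h0, h1⟩
        · rw [h0]; exact one_mem _
        · have h2 := tab_long2 u hu v (mem_rootsL.2 hv) huv h0
          refine RGD.le_Sup (X := C.X) (S := {x | IsRoot C.cs C.h x ∧ (-(ell C.cs C.h hx)) x ≤ 0 ∧
            0 < (ell C.cs C.h (Q.root _ huv)) x}) ⟨Q.root _ h0, ?_, ?_⟩ h1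
          · rw [AddMonoidHom.neg_apply, ell_apply, Q.cpr _ u h0 huR, h2.2.1, mul_zero, neg_zero]
          · rw [ell_apply, Q.cpr _ _ h0 huv]
            exact mul_pos (l0 _) h2.2.2.1
  refine ⟨b', hb', h, hh, (x2 * κ * y2⁻¹)⁻¹ * x2, mul_mem (inv_mem hk) hx2, ?_⟩
  rw [e6] at e5
  have e7 : x1 = g * (x2 * κ * y2⁻¹)⁻¹ := by
    have f4 : (x2 * κ * y2⁻¹) * g⁻¹ = g⁻¹ * (x2 * κ * y2⁻¹) := kc2 _ hk _ (inv_mem hg)
    rw [mul_assoc, ← f4, ← mul_assoc] at e5
    exact eq_mul_inv_of_mul_eq (mul_inv_eq_one.1 e5.symm)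
  rw [e2, e7, mul_assoc]

/-- `z u` centralises `K2` -/
theorem z_K2 (H : PosB3 C F c d A B A' r r' b) {u v : V} (hu : IsL u) (hv : IsR v) (huv : IsR (u + v)) {k : N}
    (hk : k ∈ K2 C P u v) : C.z (P u) * k = k * C.z (P u) := by
  rcases mem_K2 hk with rfl | ⟨h0, hk⟩
  · rw [one_mul, mul_one]
  · exact z_even Q H hu h0 (Or.inl (tab_long2 u hu v (mem_rootsL.2 hv) huv h0).2.1) hk

omit Q in
omit [Group N] in
theorem dot_uv {u v : V} (hu : IsL u) (hv : IsR v) (huv : IsR (u + v)) : dot v u = -1 ∧ dot (u + v) u = 1 := by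
  have h1 := (tab_long u hu v (mem_rootsL.2 hv) huv).1
  have duu : dot u u = 2 := (tab_L u hu).2.2
  have h2 : dot v u = -1 := by rw [dot_comm]; exact h1
  have : dot (u + v) u = dot u u + dot v u := by simp only [dot, Prod.fst_add, Prod.snd_add]; ring
  exact ⟨h2, by omega⟩

/-- (c2), `u` long -/
theorem gen_long (H : PosB3 C F c d A B A' r r' b) {u v : V} (hu : IsL u) (hv : IsR v) (huv : IsR (u + v)) :
    C.X (P (u + v)) ≤ C.X (P u) ⊔ C.X (P v) := by
  intro g hg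
  have huR : IsR u := Or.inr hu
  obtain ⟨b', hb', h, hh, k, hk, e⟩ := key Q H hu hv huv hg
  obtain ⟨d1, d2⟩ := dot_uv hu hv huv
  have hR := (Q.mem u huR).2 hu
  have zz := z_sq Q hu
  have zi : (C.z (P u))⁻¹ = C.z (P u) := inv_eq_of_mul_eq_one_left zz
  have hT := C.cls.z_torus _ hR
  set S := C.X (P u) ⊔ C.X (P v) with hS
  have hcj : cj (C.z (P u)) S = S := by
    rw [hS, cj_sup, C.cls.rgd.tor _ (Q.root u huR) _ hT, C.cls.rgd.tor _ (Q.root v hv) _ hT]
  have h1 : g * k ∈ S := by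
    rw [← e, commutatorElement_def]
    have hb1 : b' ∈ S := (le_sup_left : C.X (P u) ≤ S) hb'
    have hh1 : h ∈ S := (le_sup_right : C.X (P v) ≤ S) hh
    exact mul_mem (mul_mem (mul_mem hb1 hh1) (inv_mem hb1)) (inv_mem hh1)
  have h2 : g⁻¹ * k ∈ S := by
    have h3 : C.z (P u) * (g * k) * (C.z (P u))⁻¹ ∈ S := by
      rw [← hcj]; exact conj_mem_cj.2 h1
    have h4 : C.z (P u) * (g * k) * (C.z (P u))⁻¹ = g⁻¹ * k := by
      rw [zi, ← z_odd Q hu huv (Or.inl d2) hg]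
      have h5 := z_K2 Q H hu hv huv hk
      calc C.z (P u) * (g * k) * C.z (P u) = C.z (P u) * g * (k * C.z (P u)) := by group
        _ = C.z (P u) * g * C.z (P u) * k := by rw [← h5]; group
    rwa [h4] at h3
  refine Nodes.ShortSum.mem_of_sq_mem C.cls C.prime C.odd (Q.root _ huv) hg ?_
  have h3 := mul_mem h1 (inv_mem h2)
  have h4 : g * k * (g⁻¹ * k)⁻¹ = g * g := by group
  rwa [h4] at h3

/-- (c2), `u` long -/
theorem ncomm_long (H : PosB3 C F c d A B A' r r' b) {u v : V} (hu : IsL u) (hv : IsR v) (huv : IsR (u + v))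
    (hc : ∀ x ∈ C.X (P u), ∀ y ∈ C.X (P v), x * y = y * x) : False := by
  obtain ⟨g, hg, hg1⟩ := exists_ne Q huv
  obtain ⟨b', hb', h, hh, k, hk, e⟩ := key Q H hu hv huv hg
  obtain ⟨d1, d2⟩ := dot_uv hu hv huv
  have h1 : ⁅b', h⁆ = 1 := by rw [commutatorElement_eq_one_iff_mul_comm]; exact hc b' hb' h hh
  rw [h1] at e
  have h2 : k = g⁻¹ := eq_inv_of_mul_eq_one_right e.symm
  have h3 := z_K2 Q H hu hv huv (inv_mem hk)
  rw [h2, inv_inv] at h3
  have h4 := z_odd Q hu huv (Or.inl d2) hg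
  rw [h3, mul_assoc, z_sq Q hu, mul_one] at h4
  exact hg1 (eq_one_of_inv C.cls C.prime C.odd (Q.root _ huv) hg h4)

/-- (c2), two short roots -/
theorem le_comm_short (H : PosB3 C F c d A B A' r r' b) {u v : V} (hu : IsS u) (hv : IsS v)
    (huv : IsR (u + v)) : C.X (P (u + v)) ≤ ⁅C.X (P u), C.X (P v)⁆ := by
  obtain ⟨t1, t2, t3, t4⟩ := tab_short u hu v hv huv
  have huR : IsR u := Or.inl hu
  have hvR : IsR v := Or.inl hv
  have ru := Q.root u huR
  have rv := Q.root v hvR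
  have rx := Q.root _ huv
  have duu := (tab_S u hu).2.2
  have dvv := (tab_S v hv).2.2
  have e1 : dot (u + v) u = 1 := by
    have : dot (u + v) u = dot u u + dot u v := by simp only [dot, Prod.fst_add, Prod.snd_add]; ring
    omega
  have e2 : dot (u + v) v = 1 := by
    have : dot (u + v) v = dot u v + dot v v := by simp only [dot, Prod.fst_add, Prod.snd_add]; ring
    omega
  have hlen : form C.cs C.h (P u) (P u) = form C.cs C.h (P v) (P v) := by
    have f1 := two_form_cpr C.cs C.h (P (u + v)) ru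
    have f2 := two_form_cpr C.cs C.h (P (u + v)) rv
    have f3 := two_form_cpr C.cs C.h (P u) rx
    have f4 := two_form_cpr C.cs C.h (P v) rx
    rw [Q.cpr _ _ huv huR, (tab_L _ t2).2.1, e1, one_mul, one_mul] at f1
    rw [Q.cpr _ _ huv hvR, (tab_L _ t2).2.1, e2, one_mul, one_mul] at f2
    rw [Q.cpr _ _ huR huv, (tab_S u hu).2.1, dot_comm, e1, form_comm] at f3
    rw [Q.cpr _ _ hvR huv, (tab_S v hv).2.1, dot_comm, e2, form_comm] at f4
    linarith
  have S := Nodes.ShortSum.Sq.of_add (cs := C.cs) (h := C.h) (m := 2) (by norm_num) ru rv rx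
    ((form_iff Q huR hvR).2 t1) hlen (Q.two u v hu hv huv)
  rw [Q.refl _ _ huv huR, t3] at S
  exact Nodes.ShortSum.le_commutator C.cls C.prime C.odd S ((Q.mem _ huv).2 t2)
    ((Q.mem _ (Or.inr t4)).2 t4) (X_eq_Z' Q H t2) (X_eq_Z' Q H t4)

/-! ### The structure -/

open Classical in
/-- the involutions -/
noncomputable def zv (C : Chart Om p (⊤ : Subgroup N)) (P : V → (C.I → ℤ)) (c : N) (v : V) : N :=
  if IsL v then C.z (P v) else c

omit Q in
theorem zv_L {v : V} (hv : IsL v) : zv C P c v = C.z (P v) := by unfold zv; rw [if_pos hv]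

omit Q in
theorem zv_S {v : V} (hv : IsS v) : zv C P c v = c := by unfold zv; rw [if_neg (tab_S v hv).1]

theorem JJ_eq {v : V} (hv : IsR v) : NI3.Sol.JJ (fun v => C.X (P v)) v = LL C.X (P v) := by
  change C.X (P v) ⊔ C.X (P (-v)) = C.X (P v) ⊔ C.X (-P v)
  rw [Q.neg v hv]

theorem tor {v : V} (hv : IsR v) {t : N} (ht : t ∈ LL C.X (P v))
    (h1 : cj t (C.X (P v)) = C.X (P v)) (h2 : cj t (C.X (-P v)) = C.X (-P v)) : t ∈ C.T := by
  have hx := Q.root v hv
  obtain ⟨a, ha, s, hs, e⟩ := Nodes.RankOneSub.exists_of_normalizes C.cls.rgd hx (g := t)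
    ((le_sup_right : LL C.X (P v) ≤ C.T ⊔ LL C.X (P v)) ht) (fun u hu => by
      rw [← h1]; exact conj_mem_cj.2 hu)
  obtain ⟨g, hg, hg1⟩ := exists_ne Q (tab_neg v (mem_rootsL.2 hv)).1
  rw [Q.neg v hv] at hg
  have hs1 : s⁻¹ * g * s ∈ C.X (-P v) := by
    have := Nodes.RankOneSub.T_conj C.cls.rgd hx.neg (inv_mem hs) hg
    rwa [inv_inv] at this
  have h3 : a * g * a⁻¹ ∈ C.X (-P v) := by
    have h4 : t * (s⁻¹ * g * s) * t⁻¹ ∈ C.X (-P v) := by
      rw [← h2]; exact conj_mem_cj.2 hs1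
    have h5 : t * (s⁻¹ * g * s) * t⁻¹ = a * g * a⁻¹ := by rw [e]; group
    rwa [h5] at h4
  rw [e, Nodes.RankOneSub.ti C.cls.rgd hx ha hg hg1 h3, one_mul]
  exact hs

/-- **`PosB3` gives `B3`.** -/
theorem b3_of_pos (H : PosB3 C F c d A B A' r r' b) :
    NI3.Sol.B3 F (⊤ : Subgroup N) c (fun v => C.X (P v)) (zv C P c) where
  odd := H.odd
  sl v hv := by
    rw [JJ_eq Q hv]
    exact H.sl _ (Q.root v hv)
  card v hv := H.card _ (Q.root v hv)
  le v hv := le_top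
  span S hS := by
    rw [← C.gen]
    refine RGD.Sup_le fun x hx => ?_
    obtain ⟨v, hv, rfl⟩ := Q.surj x hx
    exact hS v hv
  comm u v hu hv h1 h2 := fun x hx y hy => comm Q H hu hv h1 h2 hx hy
  ncomm u v hu hv huv := by
    intro hc
    rcases hu with hu | hu
    · rcases hv with hv | hv
      · obtain ⟨g, hg, hg1⟩ := exists_ne Q huv
        have h1 := le_comm_short Q H hu hv huv hg
        have h2 : ⁅C.X (P u), C.X (P v)⁆ ≤ ⊥ := by
          rw [Subgroup.commutator_le]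
          intro x hx y hy
          rw [Subgroup.mem_bot, commutatorElement_eq_one_iff_mul_comm]
          exact hc x hx y hy
        exact hg1 (Subgroup.mem_bot.1 (h2 h1))
      · exact ncomm_long Q H hv (Or.inl hu) (by rwa [add_comm]) fun x hx y hy => (hc y hy x hx).symm
    · exact ncomm_long Q H hu hv huv hc
  gen u v hu hv huv := by
    rcases hu with hu | hu
    · rcases hv with hv | hv
      · refine (le_comm_short Q H hu hv huv).trans ?_
        rw [Subgroup.commutator_le]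
        intro x hx y hy
        rw [commutatorElement_def]
        have h1 : x ∈ C.X (P u) ⊔ C.X (P v) := (le_sup_left : C.X (P u) ≤ _) hx
        have h2 : y ∈ C.X (P u) ⊔ C.X (P v) := (le_sup_right : C.X (P v) ≤ _) hy
        exact mul_mem (mul_mem (mul_mem h1 h2) (inv_mem h1)) (inv_mem h2)
      · have h1 := gen_long Q H hv (Or.inl hu) (by rwa [add_comm])
        rw [add_comm v u, sup_comm] at h1
        exact h1
    · exact gen_long Q H hu hv huv
  c_order := H.c_order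
  c_comm x _ := (Subgroup.mem_center_iff.1 H.c_center x).symm
  z_mem v hv := by
    rw [JJ_eq Q hv]
    rcases hv with hv | hv
    · rw [zv_S hv]
      refine H.c_mem _ (Q.root v (Or.inl hv)) fun h0 => (tab_S v hv).1 ((Q.mem v (Or.inl hv)).1 h0)
    · rw [zv_L hv]
      exact KK_le_LL C.cls ((Q.mem v (Or.inr hv)).2 hv) (C.cls.z_mem _ ((Q.mem v (Or.inr hv)).2 hv))
  z_order v hv := by
    rcases hv with hv | hv
    · rw [zv_S hv]; exact H.c_order
    · rw [zv_L hv]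
      rw [orderOf_eq_prime_iff]
      exact ⟨by rw [pow_two]; exact z_sq Q hv, z_ne_one Q hv⟩
  z_neg v hv := by
    have h1 := tab_neg v (mem_rootsL.2 hv)
    rcases hv with hv | hv
    · rw [zv_S hv, zv_S (h1.2.2.2.2 hv)]
    · rw [zv_L hv, zv_L (h1.2.2.1.2 hv), Q.neg v (Or.inr hv)]
      exact C.cls.z_neg _ ((Q.mem v (Or.inr hv)).2 hv)
  z_short v hv := zv_S hv
  z_even u v hu hv h0 x hx := by
    rcases hv with hv | hv
    · rw [zv_S hv]; exact (Subgroup.mem_center_iff.1 H.c_center x).symm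
    · rw [zv_L hv]
      exact z_even Q H hv hu (tab_even v hv u (mem_rootsL.2 hu) h0) hx
  z_odd u v hu hv h0 x hx := by
    rcases hv with hv | hv
    · exfalso
      have h1 : NI3.Sol.pr u v = 2 * dot u v := by unfold NI3.Sol.pr; rw [if_pos (tab_S v hv).2.2]
      rw [h1] at h0
      exact (Int.not_odd_iff_even.2 (even_two_mul _)) h0
    · rw [zv_L hv]
      exact z_odd Q hv hu (tab_odd v hv u (mem_rootsL.2 hu) h0) hx
  z_orth u v hu hv h0 := by
    rw [zv_L hu, zv_L hv]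
    exact H.zz _ ((Q.mem u (Or.inr hu)).2 hu) _ ((Q.mem v (Or.inr hv)).2 hv)
      ((form_iff Q (Or.inr hu) (Or.inr hv)).2 h0)
  z_add u v hu hv huv := by
    rw [zv_L hu, zv_L hv, zv_L huv]
    obtain ⟨t1, t2, t3, t4, t5⟩ := tab_add u hu v hv huv
    have huR : IsR u := Or.inr hu
    have hvR : IsR v := Or.inr hv
    have h1 := z_refl C.cls C.prime C.odd (uniq Q H) ((Q.mem u huR).2 hu) ((Q.mem v hvR).2 hv)
      (fun e => t3 (Co.inj Q huR hvR e.symm)) (by
        have := Co.ne_neg Q huR hvR t4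
        intro e
        apply this
        rw [e, neg_neg])
      (by rw [Q.cpr v u hvR huR, Q.cpr u v huR hvR, (tab_L u hu).2.1, (tab_L v hv).2.1, t1, t2]; norm_num)
    rw [Q.refl v u hvR huR, t5] at h1
    exact h1.symm
  weyl v hv := by
    rw [JJ_eq Q hv]
    obtain ⟨m, hm, w, hw, e⟩ := exists_refl C.cls (Q.root v hv)
    refine ⟨m, hm, fun u hu => ?_⟩
    have h1 := C.cls.rgd.conj_rp hw (Q.root u hu)
    rw [e, Q.refl u v hu hv] at h1
    exact h1
  tor v hv t ht h1 h2 u hu := by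
    rw [JJ_eq Q hv] at ht
    rw [Q.neg v hv] at h2
    exact C.cls.rgd.tor _ (Q.root u hu) t (tor Q hv ht h1 h2)

end Main

/-- **The structure `B3` in the position `(c, d, A, B, A')`.** -/
theorem exists_b3 {C : Chart Om p (⊤ : Subgroup N)} {F : Type} [Field F] [Fintype F] {c d : N}
    {A B A' : Subgroup N} {r r' b : C.I → ℤ} (H : PosB3 C F c d A B A' r r' b) :
    ∃ (X : V → Subgroup N) (z : V → N), NI3.Sol.B3 F (⊤ : Subgroup N) c X z ∧
      NI3.Sol.JJ X (0, 0, 1) = A ∧ NI3.Sol.JJ X (1, 1, 0) = B ∧ NI3.Sol.JJ X (1, -1, 0) = A' ∧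
      z (1, 1, 0) = d ∧ z (1, -1, 0) = c * d ∧ z (0, 0, 1) = c := by
  obtain ⟨P, Q, e1, e2, e3⟩ := exists_co H
  refine ⟨fun v => C.X (P v), zv C P c, b3_of_pos Q H, ?_, ?_, ?_, ?_, ?_, ?_⟩
  · rw [JJ_eq Q (by decide), e3, H.A_eq]
  · rw [JJ_eq Q (by decide), e1, H.B_eq]
  · rw [JJ_eq Q (by decide), e2, H.A'_eq]
  · rw [zv_L (by decide), e1, H.zr]
  · rw [zv_L (by decide), e2, H.zr']
  · rw [zv_S (by decide)]

/-- the same for `ChartB3` -/
theorem exists_b3_of_chart {F : Type} [Field F] [Fintype F] {c d : N} {A B A' : Subgroup N}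
    (H : ChartB3 F N c d A B A') :
    ∃ (X : V → Subgroup N) (z : V → N), NI3.Sol.B3 F (⊤ : Subgroup N) c X z ∧
      NI3.Sol.JJ X (0, 0, 1) = A ∧ NI3.Sol.JJ X (1, 1, 0) = B ∧ NI3.Sol.JJ X (1, -1, 0) = A' ∧
      z (1, 1, 0) = d ∧ z (1, -1, 0) = c * d ∧ z (0, 0, 1) = c := by
  obtain ⟨Om, p, C, r, r', b, -, H⟩ := H
  exact exists_b3 H

end Cfsg.Agent.OddHalf.NI.FTwo.Facts
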