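import Cfsg.Agent.OddHalf.NI3.Sol.Defs

/-!
# NI (F2'), facts: combinatorics of the roots of type `B₃` (coordinates of `NI3/Sol/Defs.lean`)
-/

set_option autoImplicit false

namespace Cfsg.Agent.OddHalf.NI.FTwo.FactsV

open Cfsg.Agent.OddHalf.NI3.Sol

/-- all roots -/
def rootsL : List V := shortL ++ longL

theorem mem_rootsL {v : V} : v ∈ rootsL ↔ IsR v := List.mem_append

/-- `2` for the short roots, `1` for the long ones -/
def la (v : V) : ℤ := if dot v v = 1 then 2 else 1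

/-- the cross product -/
def cr (u v : V) : V := (u.2.1 * v.2.2 - u.2.2 * v.2.1, u.2.2 * v.1 - u.1 * v.2.2, u.1 * v.2.1 - u.2.1 * v.1)

/-- `w` is in the open cone of `u`, `v` -/
def Bet (u v w : V) : Prop := dot (cr u v) w = 0 ∧ 0 < dot (cr w v) (cr u v) ∧ 0 < dot (cr u w) (cr u v)

instance (u v w : V) : Decidable (Bet u v w) := inferInstanceAs (Decidable (_ ∧ _ ∧ _))

theorem bet_of {u v w : V} {m a b : ℤ} (hm : 0 < m) (ha : 0 < a) (hb : 0 < b) (e : m • w = a • u + b • v)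
    (h : 0 < dot (cr u v) (cr u v)) : Bet u v w := by
  obtain ⟨u1, u2, u3⟩ := u
  obtain ⟨v1, v2, v3⟩ := v
  obtain ⟨w1, w2, w3⟩ := w
  simp only [Prod.smul_mk, Prod.mk_add_mk, Prod.mk.injEq, smul_eq_mul] at e
  obtain ⟨e1, e2, e3⟩ := e
  simp only [Bet, dot, cr] at h ⊢
  refine ⟨?_, ?_, ?_⟩
  · have h1 : m * ((u2 * v3 - u3 * v2) * w1 + (u3 * v1 - u1 * v3) * w2 + (u1 * v2 - u2 * v1) * w3) = 0 := by
      linear_combination (u2 * v3 - u3 * v2) * e1 + (u3 * v1 - u1 * v3) * e2 + (u1 * v2 - u2 * v1) * e3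
    exact (mul_eq_zero.1 h1).resolve_left hm.ne'
  · have h1 : m * ((w2 * v3 - w3 * v2) * (u2 * v3 - u3 * v2) + (w3 * v1 - w1 * v3) * (u3 * v1 - u1 * v3) +
        (w1 * v2 - w2 * v1) * (u1 * v2 - u2 * v1)) =
        a * ((u2 * v3 - u3 * v2) * (u2 * v3 - u3 * v2) + (u3 * v1 - u1 * v3) * (u3 * v1 - u1 * v3) +
        (u1 * v2 - u2 * v1) * (u1 * v2 - u2 * v1)) := by
      linear_combination (v3 * (u2 * v3 - u3 * v2) - v1 * (u1 * v2 - u2 * v1)) * e2 +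
        (-v2 * (u2 * v3 - u3 * v2) + v1 * (u3 * v1 - u1 * v3)) * e3 +
        (-v3 * (u3 * v1 - u1 * v3) + v2 * (u1 * v2 - u2 * v1)) * e1
    have h2 := mul_pos ha h
    rw [← h1] at h2
    exact (mul_pos_iff_of_pos_left hm).1 h2
  · have h1 : m * ((u2 * w3 - u3 * w2) * (u2 * v3 - u3 * v2) + (u3 * w1 - u1 * w3) * (u3 * v1 - u1 * v3) +
        (u1 * w2 - u2 * w1) * (u1 * v2 - u2 * v1)) =
        b * ((u2 * v3 - u3 * v2) * (u2 * v3 - u3 * v2) + (u3 * v1 - u1 * v3) * (u3 * v1 - u1 * v3) +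
        (u1 * v2 - u2 * v1) * (u1 * v2 - u2 * v1)) := by
      linear_combination (-u3 * (u2 * v3 - u3 * v2) + u1 * (u1 * v2 - u2 * v1)) * e2 +
        (u2 * (u2 * v3 - u3 * v2) - u1 * (u3 * v1 - u1 * v3)) * e3 +
        (u3 * (u3 * v1 - u1 * v3) - u2 * (u1 * v2 - u2 * v1)) * e1
    have h2 := mul_pos hb h
    rw [← h1] at h2
    exact (mul_pos_iff_of_pos_left hm).1 h2

/-! ### Tables -/

theorem cr_pos : ∀ u ∈ rootsL, ∀ v ∈ rootsL, u ≠ v → u ≠ -v → 0 < dot (cr u v) (cr u v) := by decide +kernel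

theorem tab_comm : ∀ u ∈ rootsL, ∀ v ∈ rootsL, ¬ IsR (u + v) → u + v ≠ 0 →
    u = v ∨ (IsL u ∧ IsL v ∧ dot u v = 0) ∨ (u ≠ v ∧ u ≠ -v ∧ ∀ w ∈ rootsL, ¬ Bet u v w) := by decide +kernel

theorem tab_refl : ∀ u ∈ rootsL, ∀ v ∈ rootsL, IsR (refl v u) ∧ la (refl v u) = la u := by decide +kernel

theorem tab_la : ∀ v ∈ rootsL, la v * dot v v = 2 := by decide +kernel

theorem tab_neg : ∀ v ∈ rootsL, IsR (-v) ∧ la (-v) = la v ∧ (IsL (-v) ↔ IsL v) ∧ (IsS (-v) ↔ IsS v) := by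
  decide +kernel

theorem tab_S : ∀ v ∈ shortL, ¬ IsL v ∧ la v = 2 ∧ dot v v = 1 := by decide +kernel

theorem tab_L : ∀ v ∈ longL, ¬ IsS v ∧ la v = 1 ∧ dot v v = 2 := by decide +kernel

theorem tab_odd : ∀ v ∈ longL, ∀ u ∈ rootsL, Odd (pr u v) → dot u v = 1 ∨ dot u v = -1 := by decide +kernel

theorem tab_even : ∀ v ∈ longL, ∀ u ∈ rootsL, Even (pr u v) → dot u v = 0 ∨ u = v ∨ u = -v := by decide +kernel

/-- long plus long or short -/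
theorem tab_long : ∀ u ∈ longL, ∀ v ∈ rootsL, IsR (u + v) →
    dot u v = -1 ∧ u ≠ v ∧ u ≠ -v ∧ ¬ IsR (-u + v) ∧ -u + v ≠ 0 ∧ refl u v = u + v ∧
    -u ≠ u + v ∧ -u ≠ -(u + v) ∧ v ≠ u + v ∧ v ≠ -(u + v) ∧ 0 < dot (u + v) (u + v) ∧
    (∀ w ∈ rootsL, Bet u v w → w = u + v ∨ w = u + v + v) ∧
    (∀ w ∈ rootsL, Bet (-u) (u + v) w → w = v ∨ w = u + v + v) ∧
    (∀ w ∈ rootsL, Bet v (u + v) w → w = u + v + v) := by decide +kernel

/-- the root `u + 2 v` -/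
theorem tab_long2 : ∀ u ∈ longL, ∀ v ∈ rootsL, IsR (u + v) → IsR (u + v + v) →
    IsL (u + v + v) ∧ dot (u + v + v) u = 0 ∧ 0 < dot (u + v + v) (u + v) ∧
    ¬ IsR ((u + v + v) + v) ∧ (u + v + v) + v ≠ 0 ∧
    ¬ IsR ((u + v + v) + (u + v)) ∧ (u + v + v) + (u + v) ≠ 0 := by decide +kernel

theorem tab_short : ∀ u ∈ shortL, ∀ v ∈ shortL, IsR (u + v) →
    dot u v = 0 ∧ IsL (u + v) ∧ refl u (u + v) = v - u ∧ IsL (v - u) := by decide +kernel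

theorem tab_add : ∀ u ∈ longL, ∀ v ∈ longL, IsL (u + v) → dot u v = -1 ∧ dot v u = -1 ∧ u ≠ v ∧ u ≠ -v ∧
    refl u v = u + v := by decide +kernel

theorem tab_orth : ∀ u ∈ shortL, ∀ v ∈ shortL, dot u v = 0 → u + v ∈ longL := by decide +kernel

theorem tab_shortN : ∀ u ∈ shortL, -u ∈ shortL := by decide +kernel

theorem dot_comm (u v : V) : dot u v = dot v u := by unfold dot; ring

end Cfsg.Agent.OddHalf.NI.FTwo.FactsV
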