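import Cfsg.Agent.OddHalf.NI.FTwo.ChartB
import Cfsg.Agent.OddHalf.NI.FTwo.FactsV
import Cfsg.Agent.Nodes.Reindex
import Cfsg.Agent.Nodes.TypeCForm

/-!
# NI (F2'), facts: coordinates of the roots of a chart of type `B₃`

`Co C P` : `P v` is the root of the chart `C` with the coordinates `v` (`NI3/Sol/Defs.lean`); `exists_co`.
-/

set_option autoImplicit false
set_option linter.dupNamespace false

namespace Cfsg.Agent.OddHalf.NI.FTwo.FactsCo

open Cfsg
open CoxeterSystem Cfsg.Agent.ChevalleyStructure.CoxeterGeom Cfsg.Agent.Tits.Roots Cfsg.Agent.Tits.Core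
  Cfsg.Agent.Tits.RootComb Cfsg.Agent.Nodes.Comb Cfsg.Agent.Nodes.Reps Cfsg.Agent.Nodes.BNOf
  Cfsg.Agent.Nodes.RGDLib Cfsg.Agent.Nodes.Chart Cfsg.Agent.Nodes.Coroot Cfsg.Agent.Nodes.FreeTorus
  Cfsg.Agent.Nodes.Reindex Cfsg.Agent.Nodes.TypeCForm
open Cfsg.Agent.Nodes.TypeC (wt ng ee bt Ok ee_add ee_injective wt_ng wt_apply)
open Cfsg.Agent.OddHalf.NI3.Sol (V IsR IsS IsL dot shortL longL pr refl)
open FactsV

variable {N : Type*} [Group N] {Om : Set (Subgroup N)} {p : ℕ}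

/-! ### `ε`-coordinates -/

/-- `ε`-coordinates of the labels of a chart of type `.B 3` -/
structure Eps (C : Chart Om p (⊤ : Subgroup N)) (E : (C.I → ℤ) →+ (Fin 3 → ℤ)) : Prop where
  inj : Function.Injective E
  root : ∀ x, IsRoot C.cs C.h x ↔ ∃ a b, Ok a b ∧ E x = wt a + wt b
  cpr : ∀ x y, IsRoot C.cs C.h y → cpr C.cs C.h x y * ip (E y) (E y) = 2 * ip (E x) (E y)
  mem : ∀ x, IsRoot C.cs C.h x → (x ∈ C.R ↔ ip (E x) (E x) = 2)
  ex : ∀ a b, Ok a b → ∃ x, E x = wt a + wt b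

theorem exists_eps (C : Chart Om p (⊤ : Subgroup N)) (hty : C.IsTy (.B 3)) : ∃ E, Eps C E := by
  obtain ⟨e, hA, hl⟩ := hty
  change C.I ≃ Fin 3 at e
  change ∀ i j, C.A i j = Nodes.TypeC.A 3 (e i) (e j) at hA
  change ∀ i, sr i ∈ C.R ↔ ((e i : Fin 3) : ℕ) + 1 < 3 at hl
  have hM := matrix_eq C.h (Nodes.TypeC.isCartan 3) hA
  obtain ⟨cs', hs⟩ := exists_reindex C.cs e hM
  have hR : ∀ x, IsRoot cs' (Nodes.TypeC.isCartan 3) (x ∘ e.symm) ↔ IsRoot C.cs C.h x := fun x =>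
    isRoot_reindex (cs := C.cs) (h := C.h) hA hs
  let E : (C.I → ℤ) →+ (Fin 3 → ℤ) := AddMonoidHom.mk' (fun x => ee (x ∘ e.symm)) (fun x y => by
    rw [← ee_add]; rfl)
  have hE : ∀ x, E x = ee (x ∘ e.symm) := fun _ => rfl
  refine ⟨E, ⟨?_, ?_, ?_, ?_, fun a b hab => ?_⟩⟩
  · intro x y hxy
    rw [hE, hE] at hxy
    exact comp_inj (ee_injective hxy)
  · intro x
    rw [← hR, Nodes.TypeC.isRoot_iff, hE]
  · intro x y hy
    have hy' := (hR y).2 hy
    rw [← cpr_reindex (cs' := cs') (h' := Nodes.TypeC.isCartan 3) hA hs x hy, hE, hE]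
    obtain ⟨c, hc, h1⟩ := form_eq cs' hy'
    have h2 := h1 (y ∘ e.symm)
    have h3 := form_pos cs' (Nodes.TypeC.isCartan 3) hy'.ne_zero
    have h4 := mul_right_cancel₀ h3.ne' h2
    have h5 := two_form_cpr cs' (Nodes.TypeC.isCartan 3) (x ∘ e.symm) hy'
    have h6 := h1 (x ∘ e.symm)
    rw [← h4]
    have h7 : (cpr cs' (Nodes.TypeC.isCartan 3) (x ∘ e.symm) (y ∘ e.symm) * c) *
        form cs' (Nodes.TypeC.isCartan 3) (y ∘ e.symm) (y ∘ e.symm) =
        (2 * ip (ee (x ∘ e.symm)) (ee (y ∘ e.symm))) *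
        form cs' (Nodes.TypeC.isCartan 3) (y ∘ e.symm) (y ∘ e.symm) := by
      linear_combination (-c) * h5 + 2 * h6
    exact mul_right_cancel₀ h3.ne' h7
  · rintro x ⟨w, i, rfl⟩
    have h1 : rep C.cs C.h w (sr i) ∈ C.R ↔ sr i ∈ C.R := by
      constructor
      · intro h0
        have := C.cls.act _ h0 w⁻¹
        rwa [rep_inv_apply] at this
      · exact fun h0 => C.cls.act _ h0 w
    have h2 : E (rep C.cs C.h w (sr i)) = ee (rep cs' (Nodes.TypeC.isCartan 3) w (sr (e i))) := by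
      rw [hE, ← rep_reindex (cs := C.cs) (h := C.h) (cs' := cs') (h' := Nodes.TypeC.isCartan 3) hA hs, sr_reindex]
    rw [h1, h2, ip_rep, hl, Nodes.TypeC.ee_sr, ip_bt, Cf_bt_self]
    unfold cc
    split_ifs with h0
    · exact ⟨fun _ => by norm_num, fun _ => h0⟩
    · exact ⟨fun h3 => absurd h3 h0, fun h3 => by norm_num at h3⟩
  · obtain ⟨x, -, hx⟩ := Nodes.TypeC.rt_of_ok (cs := cs') hab
    exact ⟨x ∘ e, by rw [hE, comp_symm, hx]⟩

/-! ### Signed indices -/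

set_option synthInstance.maxHeartbeats 200000 in
set_option synthInstance.maxSize 1000 in
theorem tab_frame : ∀ a a' c c' k : Fin 3 × Bool, a.1 ≠ a'.1 → c.1 ≠ c'.1 →
    ip (wt a + wt a') (wt c + wt c') = 0 → (wt a + wt a') k.1 = 0 → (wt c + wt c') k.1 = 0 →
    a.1 ≠ k.1 ∧ a'.1 ≠ k.1 ∧ (wt c + wt c' = wt a - wt a' ∨ wt c + wt c' = wt a' - wt a) := by
  decide +kernel

/-- the frame `a₁, a₂, a₃` -/
structure Fr (a₁ a₂ a₃ : Fin 3 × Bool) : Prop where
  ne₁₂ : a₁.1 ≠ a₂.1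
  ne₁₃ : a₁.1 ≠ a₃.1
  ne₂₃ : a₂.1 ≠ a₃.1

/-- `v ↦ v₁ a₁ + v₂ a₂ + v₃ a₃` -/
def sg (a₁ a₂ a₃ : Fin 3 × Bool) (v : V) : Fin 3 → ℤ := v.1 • wt a₁ + v.2.1 • wt a₂ + v.2.2 • wt a₃

section Fr

variable {a₁ a₂ a₃ : Fin 3 × Bool}

theorem sg_add (u v : V) : sg a₁ a₂ a₃ (u + v) = sg a₁ a₂ a₃ u + sg a₁ a₂ a₃ v := by
  simp only [sg, Prod.fst_add, Prod.snd_add]
  module

theorem sg_smul (m : ℤ) (v : V) : sg a₁ a₂ a₃ (m • v) = m • sg a₁ a₂ a₃ v := by
  simp only [sg, Prod.smul_fst, Prod.smul_snd, smul_eq_mul]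
  module

theorem sg_neg (v : V) : sg a₁ a₂ a₃ (-v) = -sg a₁ a₂ a₃ v := by
  simp only [sg, Prod.fst_neg, Prod.snd_neg]
  module

theorem sg_sub (u v : V) : sg a₁ a₂ a₃ (u - v) = sg a₁ a₂ a₃ u - sg a₁ a₂ a₃ v := by
  rw [sub_eq_add_neg, sg_add, sg_neg, sub_eq_add_neg]

variable (hF : Fr a₁ a₂ a₃)

include hF

theorem ip_sg (u v : V) : ip (sg a₁ a₂ a₃ u) (sg a₁ a₂ a₃ v) = dot u v := by
  have h12 := ip_wt_ne hF.ne₁₂
  have h13 := ip_wt_ne hF.ne₁₃
  have h23 := ip_wt_ne hF.ne₂₃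
  have h21 := ip_wt_ne hF.ne₁₂.symm
  have h31 := ip_wt_ne hF.ne₁₃.symm
  have h32 := ip_wt_ne hF.ne₂₃.symm
  simp only [sg, dot, ip_add_left, ip_add_right, ip_smul_left, ip_smul_right, h12, h13, h23, h21, h31, h32,
    ip_wt_self]
  ring

theorem sg_inj {u v : V} (e : sg a₁ a₂ a₃ u = sg a₁ a₂ a₃ v) : u = v := by
  have key : ∀ w, dot u w = dot v w := fun w => by rw [← ip_sg hF, ← ip_sg hF, e]
  have h1 := key (1, 0, 0)
  have h2 := key (0, 1, 0)
  have h3 := key (0, 0, 1)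
  simp only [dot] at h1 h2 h3
  ext
  · linarith
  · linarith
  · linarith

/-- every signed index is `± a_i` -/
theorem exists_short (s : Fin 3 × Bool) : ∃ v, v ∈ shortL ∧ sg a₁ a₂ a₃ v = wt s := by
  have key : ∀ b₁ b₂ b₃ t : Fin 3 × Bool, b₁.1 ≠ b₂.1 → b₁.1 ≠ b₃.1 → b₂.1 ≠ b₃.1 →
      t = b₁ ∨ t = ng b₁ ∨ t = b₂ ∨ t = ng b₂ ∨ t = b₃ ∨ t = ng b₃ := by decide
  rcases key a₁ a₂ a₃ s hF.ne₁₂ hF.ne₁₃ hF.ne₂₃ with rfl | rfl | rfl | rfl | rfl | rfl
  · exact ⟨(1, 0, 0), by decide, by simp only [sg]; module⟩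
  · exact ⟨(-1, 0, 0), by decide, by simp only [sg, wt_ng]; module⟩
  · exact ⟨(0, 1, 0), by decide, by simp only [sg]; module⟩
  · exact ⟨(0, -1, 0), by decide, by simp only [sg, wt_ng]; module⟩
  · exact ⟨(0, 0, 1), by decide, by simp only [sg]; module⟩
  · exact ⟨(0, 0, -1), by decide, by simp only [sg, wt_ng]; module⟩

/-- the roots in coordinates -/
theorem exists_ok {v : V} (hv : IsR v) : ∃ s t, Ok s t ∧ la v • sg a₁ a₂ a₃ v = wt s + wt t := by
  have o1 : ∀ s : Fin 3 × Bool, Ok s s := fun s => Or.inr rfl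
  have h12 := hF.ne₁₂
  have h13 := hF.ne₁₃
  have h23 := hF.ne₂₃
  rcases hv with hv | hv
  · simp only [IsS, shortL, List.mem_cons, List.not_mem_nil, or_false] at hv
    rcases hv with rfl | rfl | rfl | rfl | rfl | rfl
    · exact ⟨a₁, a₁, o1 _, by simp only [sg, show la (1, 0, 0) = 2 by decide]; module⟩
    · exact ⟨ng a₁, ng a₁, o1 _, by simp only [sg, show la (-1, 0, 0) = 2 by decide, wt_ng]; module⟩
    · exact ⟨a₂, a₂, o1 _, by simp only [sg, show la (0, 1, 0) = 2 by decide]; module⟩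
    · exact ⟨ng a₂, ng a₂, o1 _, by simp only [sg, show la (0, -1, 0) = 2 by decide, wt_ng]; module⟩
    · exact ⟨a₃, a₃, o1 _, by simp only [sg, show la (0, 0, 1) = 2 by decide]; module⟩
    · exact ⟨ng a₃, ng a₃, o1 _, by simp only [sg, show la (0, 0, -1) = 2 by decide, wt_ng]; module⟩
  · simp only [IsL, longL, List.mem_cons, List.not_mem_nil, or_false] at hv
    rcases hv with rfl | rfl | rfl | rfl | rfl | rfl | rfl | rfl | rfl | rfl | rfl | rfl
    · exact ⟨a₁, a₂, Or.inl h12, by simp only [sg, show la (1, 1, 0) = 1 by decide]; module⟩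
    · exact ⟨a₁, ng a₂, Or.inl h12, by simp only [sg, show la (1, -1, 0) = 1 by decide, wt_ng]; module⟩
    · exact ⟨ng a₁, a₂, Or.inl h12, by simp only [sg, show la (-1, 1, 0) = 1 by decide, wt_ng]; module⟩
    · exact ⟨ng a₁, ng a₂, Or.inl h12, by simp only [sg, show la (-1, -1, 0) = 1 by decide, wt_ng]; module⟩
    · exact ⟨a₁, a₃, Or.inl h13, by simp only [sg, show la (1, 0, 1) = 1 by decide]; module⟩
    · exact ⟨a₁, ng a₃, Or.inl h13, by simp only [sg, show la (1, 0, -1) = 1 by decide, wt_ng]; module⟩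
    · exact ⟨ng a₁, a₃, Or.inl h13, by simp only [sg, show la (-1, 0, 1) = 1 by decide, wt_ng]; module⟩
    · exact ⟨ng a₁, ng a₃, Or.inl h13, by simp only [sg, show la (-1, 0, -1) = 1 by decide, wt_ng]; module⟩
    · exact ⟨a₂, a₃, Or.inl h23, by simp only [sg, show la (0, 1, 1) = 1 by decide]; module⟩
    · exact ⟨a₂, ng a₃, Or.inl h23, by simp only [sg, show la (0, 1, -1) = 1 by decide, wt_ng]; module⟩
    · exact ⟨ng a₂, a₃, Or.inl h23, by simp only [sg, show la (0, -1, 1) = 1 by decide, wt_ng]; module⟩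
    · exact ⟨ng a₂, ng a₃, Or.inl h23, by simp only [sg, show la (0, -1, -1) = 1 by decide, wt_ng]; module⟩

end Fr

/-! ### Coordinates of the roots of `C` -/

/-- `P v` is the root of `C` with the coordinates `v` -/
structure Co (C : Chart Om p (⊤ : Subgroup N)) (P : V → (C.I → ℤ)) : Prop where
  root : ∀ v, IsR v → IsRoot C.cs C.h (P v)
  surj : ∀ y, IsRoot C.cs C.h y → ∃ v, IsR v ∧ P v = y
  mem : ∀ v, IsR v → (P v ∈ C.R ↔ IsL v)
  neg : ∀ v, IsR v → P (-v) = -P v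
  cpr : ∀ u v, IsR u → IsR v → Nodes.Coroot.cpr C.cs C.h (P u) (P v) = la u * dot u v
  refl : ∀ u v, IsR u → IsR v → P u - Nodes.Coroot.cpr C.cs C.h (P u) (P v) • P v = P (refl v u)
  btwn : ∀ u v w, IsR u → IsR v → IsR w → u ≠ v → u ≠ -v → Btwn C.cs C.h (P u) (P v) (P w) → Bet u v w
  two : ∀ u v, IsS u → IsS v → IsR (u + v) → (2 : ℤ) • P (u + v) = P u + P v

theorem co_of (C : Chart Om p (⊤ : Subgroup N)) {E : (C.I → ℤ) →+ (Fin 3 → ℤ)} (hE : Eps C E)
    {a₁ a₂ a₃ : Fin 3 × Bool} (hF : Fr a₁ a₂ a₃) {P : V → (C.I → ℤ)}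
    (hP : ∀ v, IsR v → E (P v) = la v • sg a₁ a₂ a₃ v) : Co C P := by
  have hroot : ∀ v, IsR v → IsRoot C.cs C.h (P v) := fun v hv => by
    obtain ⟨s, t, hst, e⟩ := exists_ok hF hv
    exact (hE.root _).2 ⟨s, t, hst, by rw [hP v hv, e]⟩
  have hcpr : ∀ u v, IsR u → IsR v → Nodes.Coroot.cpr C.cs C.h (P u) (P v) = la u * dot u v := by
    intro u v hu hv
    have h1 := hE.cpr (P u) (P v) (hroot v hv)
    rw [hP u hu, hP v hv, ip_smul_left, ip_smul_right, ip_smul_left, ip_smul_right, ip_sg hF, ip_sg hF] at h1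
    have h2 := tab_la v (mem_rootsL.2 hv)
    have h3 : 0 < la v := by unfold la; split_ifs <;> norm_num
    rw [h2] at h1
    have h4 : la v * Nodes.Coroot.cpr C.cs C.h (P u) (P v) = la v * (la u * dot u v) := by linarith
    exact mul_left_cancel₀ h3.ne' h4
  refine ⟨hroot, ?_, ?_, ?_, hcpr, ?_, ?_, ?_⟩
  · intro y hy
    obtain ⟨s, t, hst, e⟩ := (hE.root y).1 hy
    obtain ⟨u, hu, eu⟩ := exists_short hF s
    obtain ⟨v, hv, ev⟩ := exists_short hF t
    have : ∃ w, IsR w ∧ la w • sg a₁ a₂ a₃ w = wt s + wt t := by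
      rcases hst with hst | rfl
      · have h1 : dot u v = 0 := by rw [← ip_sg hF, eu, ev]; exact ip_wt_ne hst
        have h2 := tab_orth u hu v hv h1
        refine ⟨u + v, Or.inr h2, ?_⟩
        rw [(tab_L _ h2).2.1, one_smul, sg_add, eu, ev]
      · refine ⟨u, Or.inl hu, ?_⟩
        rw [(tab_S _ hu).2.1, eu]
        module
    obtain ⟨w, hw, ew⟩ := this
    exact ⟨w, hw, hE.inj (by rw [hP w hw, ew, e])⟩
  · intro v hv
    rw [hE.mem _ (hroot v hv), hP v hv, ip_smul_left, ip_smul_right, ip_sg hF, tab_la v (mem_rootsL.2 hv)]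
    rcases hv with hv | hv
    · have h1 := tab_S v hv
      rw [h1.2.1]
      exact ⟨fun h0 => by norm_num at h0, fun h0 => absurd h0 h1.1⟩
    · have h1 := tab_L v hv
      rw [h1.2.1]
      exact ⟨fun _ => hv, fun _ => by norm_num⟩
  · intro v hv
    have h1 := tab_neg v (mem_rootsL.2 hv)
    apply hE.inj
    rw [hP _ h1.1, map_neg, hP v hv, h1.2.1, sg_neg, smul_neg]
  · intro u v hu hv
    have h1 := tab_refl u (mem_rootsL.2 hu) v (mem_rootsL.2 hv)
    have h3 : refl v u = u - pr u v • v := rfl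
    apply hE.inj
    rw [hP _ h1.1, h1.2, map_sub, map_zsmul, hP u hu, hP v hv, hcpr u v hu hv, smul_smul, h3, sg_sub, sg_smul,
      smul_sub, smul_smul]
    have h2 : pr u v = la v * dot u v := by unfold NI3.Sol.pr la; split_ifs <;> ring
    rw [h2]
    congr 2
    ring
  · intro u v w hu hv hw hne hne' hb
    obtain ⟨-, m, a, b, hm, ha, hb, e⟩ := hb
    have h0 : ∀ v, 0 < la v := fun v => by unfold la; split_ifs <;> norm_num
    refine bet_of (mul_pos hm (h0 w)) (mul_pos ha (h0 u)) (mul_pos hb (h0 v)) ?_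
      (cr_pos u (mem_rootsL.2 hu) v (mem_rootsL.2 hv) hne hne')
    apply sg_inj hF
    rw [sg_add, sg_smul, sg_smul, sg_smul, mul_smul, mul_smul, mul_smul, ← hP w hw, ← hP u hu, ← hP v hv,
      ← map_zsmul, ← map_zsmul, ← map_zsmul, ← map_add, e]
  · intro u v hu hv huv
    have h1 := tab_short u hu v hv huv
    apply hE.inj
    rw [map_zsmul, map_add, hP _ huv, hP u (Or.inl hu), hP v (Or.inl hv), (tab_S u hu).2.1, (tab_S v hv).2.1,
      (tab_L _ h1.2.1).2.1, one_smul, sg_add]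
    module

/-- **The coordinates of the roots of a `B₃`-chart.** -/
theorem exists_co {C : Chart Om p (⊤ : Subgroup N)} {F : Type} [Field F] [Fintype F] {c d : N}
    {A B A' : Subgroup N} {r r' b : C.I → ℤ} (H : PosB3 C F c d A B A' r r' b) :
    ∃ P, Co C P ∧ P (1, 1, 0) = r ∧ P (1, -1, 0) = r' ∧ P (0, 0, 1) = b := by
  classical
  obtain ⟨E, hE⟩ := exists_eps C H.ty
  have hr := C.cls.root r H.r_mem
  have hr' := C.cls.root r' H.r'_mem
  have orth : ∀ x y, IsRoot C.cs C.h y → form C.cs C.h x y = 0 → ip (E x) (E y) = 0 := by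
    intro x y hy h0
    have h1 := hE.cpr x y hy
    rw [(cpr_zero_iff C.cs C.h x hy).2 h0, zero_mul] at h1
    omega
  have shape : ∀ x, IsRoot C.cs C.h x → x ∈ C.R → ∃ s t : Fin 3 × Bool, s.1 ≠ t.1 ∧ E x = wt s + wt t := by
    intro x hx hR
    obtain ⟨s, t, hst, e⟩ := (hE.root x).1 hx
    rcases hst with hst | rfl
    · exact ⟨s, t, hst, e⟩
    · exfalso
      have h1 := (hE.mem x hx).1 hR
      rw [e, ip_add_left, ip_add_right, ip_wt_self] at h1
      norm_num at h1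
  obtain ⟨s, s', hs, es⟩ := shape r hr H.r_mem
  obtain ⟨t, t', ht, et⟩ := shape r' hr' H.r'_mem
  obtain ⟨k, ek⟩ : ∃ k, E b = wt k + wt k := by
    obtain ⟨k, k', hk, e⟩ := (hE.root b).1 H.b_root
    rcases hk with hk | rfl
    · exfalso
      apply H.b_not
      rw [hE.mem b H.b_root, e, ip_add_left, ip_add_right, ip_add_right, ip_wt_self, ip_wt_self, ip_wt_ne hk,
        ip_wt_ne hk.symm]
      norm_num
    · exact ⟨k, e⟩
  have hval : ∀ u : Fin 3 → ℤ, ip (wt k + wt k) u = 0 → u k.1 = 0 := by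
    intro u hu
    rw [ip_comm, ip_add_right, ip_wt_right] at hu
    have h1 : u k.1 * sn k = 0 := by omega
    rcases mul_eq_zero.1 h1 with h2 | h2
    · exact h2
    · exfalso
      have := sn_mul_self k
      rw [h2] at this
      norm_num at this
  obtain ⟨h1, h2, h3⟩ := tab_frame s s' t t' k hs ht
    (by rw [← es, ← et]; exact orth r r' hr' H.rr')
    (by rw [← es]; exact hval _ (by rw [← ek]; exact orth b r hr H.br))
    (by rw [← et]; exact hval _ (by rw [← ek]; exact orth b r' hr' H.br'))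
  obtain ⟨a₁, a₂, hF, e1, e2⟩ : ∃ a₁ a₂, Fr a₁ a₂ k ∧ E r = wt a₁ + wt a₂ ∧ E r' = wt a₁ - wt a₂ := by
    rcases h3 with h3 | h3
    · exact ⟨s, s', ⟨hs, h1, h2⟩, es, by rw [et, h3]⟩
    · exact ⟨s', s, ⟨hs.symm, h2, h1⟩, by rw [es, add_comm], by rw [et, h3]⟩
  have hex : ∀ v, IsR v → ∃ x, E x = la v • sg a₁ a₂ k v := by
    intro v hv
    obtain ⟨s, t, hst, e⟩ := exists_ok hF hv
    rw [e]
    exact hE.ex s t hst
  refine ⟨fun v => if h : IsR v then Classical.choose (hex v h) else 0, co_of C hE hF fun v hv => ?_, ?_, ?_, ?_⟩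
  · simp only [dif_pos hv]
    exact Classical.choose_spec (hex v hv)
  · have hv : IsR (1, 1, 0) := by decide
    simp only [dif_pos hv]
    apply hE.inj
    rw [Classical.choose_spec (hex _ hv), e1]
    simp only [sg, show la (1, 1, 0) = 1 by decide]
    module
  · have hv : IsR (1, -1, 0) := by decide
    simp only [dif_pos hv]
    apply hE.inj
    rw [Classical.choose_spec (hex _ hv), e2]
    simp only [sg, show la (1, -1, 0) = 1 by decide]
    module
  · have hv : IsR (0, 0, 1) := by decide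
    simp only [dif_pos hv]
    apply hE.inj
    rw [Classical.choose_spec (hex _ hv), ek]
    simp only [sg, show la (0, 0, 1) = 2 by decide]
    module

end Cfsg.Agent.OddHalf.NI.FTwo.FactsCo
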