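import Cfsg.Agent.OddHalf.NI.FTwo.HexNoInst
import Cfsg.Agent.Cit.HexInv
import Cfsg.Agent.Cit.HexG2

/-!
# (F2'), exceptional part: `HexFact` for `G₂(q)`; transport
-/

set_option autoImplicit false

namespace Cfsg.Agent.OddHalf.NI.HexNo

open Subgroup Cfsg Cfsg.Agent.Cit.HexBase Cfsg.Agent.Lib.SL2Mat

theorem Two.congr {X Y : Type*} [Group X] [Group Y] (e : X ≃* Y) {x : X} (h : Two x) : Two (e x) := by
  obtain ⟨E1, E2, h1, h2, c1, c2, n1, n2, ⟨F1, _, _, o1, ⟨e1⟩⟩, ⟨F2, _, _, o2, ⟨e2⟩⟩, hc⟩ := h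
  have hx : ∀ g : Y, g * e x = e x * g → e.symm g * x = x * e.symm g := by
    intro g hg
    apply e.injective
    rw [map_mul, map_mul, e.apply_symm_apply, hg]
  have key : ∀ E : Subgroup X, (∀ a ∈ E, a * x = x * a) → (∀ g, g * x = x * g → ∀ a ∈ E, g * a * g⁻¹ ∈ E) →
      (∀ a ∈ E.map e.toMonoidHom, a * e x = e x * a) ∧
      (∀ g, g * e x = e x * g → ∀ a ∈ E.map e.toMonoidHom, g * a * g⁻¹ ∈ E.map e.toMonoidHom) := by
    intro E hE hn
    constructor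
    · rintro _ ⟨a, ha, rfl⟩
      change e a * e x = e x * e a
      rw [← map_mul, hE a ha, map_mul]
    · rintro g hg _ ⟨a, ha, rfl⟩
      refine ⟨e.symm g * a * (e.symm g)⁻¹, hn _ (hx g hg) a ha, ?_⟩
      change e (e.symm g * a * (e.symm g)⁻¹) = g * e a * g⁻¹
      rw [map_mul, map_mul, map_inv, e.apply_symm_apply]
  obtain ⟨k1, l1⟩ := key E1 c1 n1
  obtain ⟨k2, l2⟩ := key E2 c2 n2
  refine ⟨E1.map e.toMonoidHom, E2.map e.toMonoidHom, ⟨x, h1, rfl⟩, ⟨x, h2, rfl⟩,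
    k1, k2, l1, l2,
    ⟨F1, _, _, o1, ⟨(E1.equivMapOfInjective _ e.injective).symm.trans e1⟩⟩,
    ⟨F2, _, _, o2, ⟨(E2.equivMapOfInjective _ e.injective).symm.trans e2⟩⟩, ?_⟩
  intro g g1 g2
  have hg : ∀ E : Subgroup X, (∀ a ∈ E.map e.toMonoidHom, g * a = a * g) →
      ∀ a ∈ E, e.symm g * a = a * e.symm g := by
    intro E hE a ha
    have h3 := hE _ ⟨a, ha, rfl⟩
    apply e.injective
    rw [map_mul, map_mul, e.apply_symm_apply]
    exact h3
  rcases hc _ (hg E1 g1) (hg E2 g2) with h3 | h3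
  · left
    rw [← e.apply_symm_apply g, h3, map_one]
  · right
    rw [← h3, e.apply_symm_apply]

theorem HexFact.congr {X Y : Type*} [Group X] [Group Y] (e : X ≃* Y) (h : HexFact X) : HexFact Y := by
  intro y hy hy1
  have h1 := (h (e.symm y) (by rw [← map_mul, hy, map_one]) (fun h0 => hy1 (by
    rw [← e.apply_symm_apply y, h0, map_one]))).congr e
  rwa [e.apply_symm_apply] at h1

theorem hexFact_of_hexGrp {E : Type} [Field E] {σ : E ≃+* E} {L : Type*} [Group L] (c : HexGrp σ L) [Finite E]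
    [Finite L] (h2 : (2 : E) ≠ 0) : HexFact L := by
  refine hexFact_of_class c h2 fun x hx hx1 => ?_
  obtain ⟨g, hg⟩ := isConj_iff.1 (c.isConj_invol h2 c.z_sq (c.z_ne h2) hx hx1)
  exact ⟨g, hg⟩

theorem hexFact_g2 {F : Type} [Field F] [Finite F] (h2 : (2 : F) ≠ 0) : HexFact ↥(Lie.chevG2.group F) := by
  have : Finite ↥(Lie.chevG2.group F) := inferInstance
  exact hexFact_of_hexGrp (Cfsg.Agent.Cit.HexG2.g2 F h2) h2

end Cfsg.Agent.OddHalf.NI.HexNo
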