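import Cfsg.Agent.OddHalf.NI.FTwo.HexEnd

/-!
# (F2'), exceptional part, for a component `J₁` with `J₁ / O(J₁) ≃ SL₂(F)`
-/

set_option autoImplicit false

namespace Cfsg.Agent.OddHalf.NI.HexNo

open Subgroup Cfsg Cfsg.Agent.Cit.HexBase Cfsg.Agent.Lib.SL2Mat
open Cfsg.Agent.SignalizersComponents Cfsg.Agent.SignalizersComponents.Components

/-- **(F2'), exceptional part** (abstract form), modulo cores. -/
theorem false_of_two_mod {L : Type*} [Group L] [Finite L] (hX : HexFact (L ⧸ center L))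
    {j1 j2 : L} {J1 : Subgroup L} (h1 : j1 ∈ center L) (hj1 : j1 ∈ J1) (h2 : j2 * j2 = 1)
    (h2c : j2 ∉ center L) (hJ : J1 ≤ centralizer ({j2} : Set L))
    (hsub : (J1.subgroupOf (centralizer ({j2} : Set L))).IsSubnormal)
    (hq : IsQuasisimple J1)
    (hcen : ∀ u ∈ center J1, ∃ m, Odd m ∧ (u ^ m = 1 ∨ u ^ m = ⟨j1, hj1⟩)) : False := by
  classical
  let π : L →* L ⧸ center L := QuotientGroup.mk' (center L)
  have hπ : ∀ g, π g = 1 ↔ g ∈ center L := fun g => QuotientGroup.eq_one_iff g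
  have hx1 : π j2 ≠ 1 := fun h => h2c ((hπ _).1 h)
  have hx2 : π j2 * π j2 = 1 := by rw [← map_mul, h2, map_one]
  have hT := hX (π j2) hx2 hx1
  -- the preimage of the centraliser
  let D : Subgroup L := (centralizer ({π j2} : Set (L ⧸ center L))).comap π
  have hCD : centralizer ({j2} : Set L) ≤ D := by
    intro g hg
    rw [mem_comap, mem_centralizer_singleton_iff, ← map_mul, ← map_mul, mem_centralizer_singleton_iff.1 hg]
  have hD : ∀ g ∈ D, ∃ c ∈ center L, g⁻¹ * j2 * g = c * j2 := by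
    intro g hg
    rw [mem_comap, mem_centralizer_singleton_iff] at hg
    refine ⟨g⁻¹ * j2 * g * j2⁻¹, (hπ _).1 ?_, by group⟩
    rw [map_mul, map_mul, map_mul, map_inv, map_inv]
    calc (π g)⁻¹ * π j2 * π g * (π j2)⁻¹ = (π g)⁻¹ * (π j2 * π g) * (π j2)⁻¹ := by group
      _ = 1 := by rw [← hg]; group
  have hN : ((centralizer ({j2} : Set L)).subgroupOf D).Normal := by
    constructor
    intro a ha g
    rw [mem_subgroupOf, mem_centralizer_singleton_iff] at ha ⊢
    obtain ⟨c, hc, hg⟩ := hD g g.2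
    rw [mem_center_iff] at hc
    have h5 : (a : L) * ((g : L)⁻¹ * j2 * g) = (g : L)⁻¹ * j2 * g * a := by
      rw [hg, ← mul_assoc, hc, mul_assoc, ha, mul_assoc]
    change (g : L) * a * (g : L)⁻¹ * j2 = j2 * ((g : L) * a * (g : L)⁻¹)
    calc (g : L) * a * (g : L)⁻¹ * j2 = g * (a * ((g : L)⁻¹ * j2 * g)) * (g : L)⁻¹ := by group
      _ = _ := by rw [h5]; group
  have hJD : J1 ≤ D := hJ.trans hCD
  have hsub' : (J1.subgroupOf D).IsSubnormal := by
    refine IsSubnormal.trans (K := (centralizer ({j2} : Set L)).subgroupOf D) (fun a ha => hJ ha) ?_ hN.isSubnormal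
    let f' : ↥((centralizer ({j2} : Set L)).subgroupOf D) →* ↥(centralizer ({j2} : Set L)) :=
      { toFun := fun a => ⟨a.1.1, a.2⟩, map_one' := rfl, map_mul' := fun _ _ => rfl }
    exact hsub.comap f'
  -- the image
  let f : D →* centralizer ({π j2} : Set (L ⧸ center L)) :=
    { toFun := fun a => ⟨π a, a.2⟩, map_one' := rfl, map_mul' := fun _ _ => rfl }
  have hf : Function.Surjective f := by
    rintro ⟨y, hy⟩
    obtain ⟨g, rfl⟩ := QuotientGroup.mk'_surjective (center L) y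
    exact ⟨⟨g, hy⟩, rfl⟩
  have hJq : IsQuasisimple (J1.subgroupOf D) :=
    ComponentNormalize.quasisimple_congr (subgroupOfEquivOfLe hJD).symm hq
  have hnt : Nontrivial ↥((J1.subgroupOf D).map f) := by
    rw [Subgroup.nontrivial_iff_ne_bot]
    intro h0
    rw [eq_bot_iff, map_le_iff_le_comap] at h0
    apply quasisimple_not_isMulCommutative hq
    refine ⟨⟨fun a b => Subtype.ext ?_⟩⟩
    have h5 : f ⟨a, hJD a.2⟩ = 1 := mem_bot.1 (mem_comap.1 (h0 (show (⟨a, hJD a.2⟩ : D) ∈ J1.subgroupOf D from a.2)))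
    have h6 : (a : L) ∈ center L := (hπ _).1 (congrArg Subtype.val h5)
    exact (mem_center_iff.1 h6 b).symm
  have hB : IsComponent ((J1.subgroupOf D).map f) :=
    ⟨hsub'.map hf, QuasisimpleQuotient.isQuasisimple_of_surjective (f.subgroupMap (J1.subgroupOf D))
      (f.subgroupMap_surjective _) hJq⟩
  refine hT.false_of_component hB ?_
  rintro ⟨y, hy, hyx⟩
  have hyJ : (y : L) ∈ J1 := hy
  have hyx' : π y = π j2 := congrArg Subtype.val hyx
  -- `y` is central in `J1`
  have hyc : (⟨y, hyJ⟩ : J1) ∈ center J1 := by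
    have hp : Group.IsPerfect J1 := hq.1
    have h5 : (QuotientGroup.mk' (center J1)) ⟨y, hyJ⟩ ∈ center (J1 ⧸ center J1) := by
      rw [mem_center_iff]
      intro w
      obtain ⟨a, rfl⟩ := QuotientGroup.mk'_surjective (center J1) w
      rw [← map_mul, ← map_mul, QuotientGroup.mk'_eq_mk']
      refine ⟨(a * ⟨y, hyJ⟩)⁻¹ * (⟨y, hyJ⟩ * a), ?_, by group⟩
      rw [mem_center_iff]
      intro b
      apply Subtype.ext
      have h6 : ((a : L) * y)⁻¹ * (y * a) ∈ center L := by
        rw [← hπ, map_mul, map_inv, map_mul, map_mul, hyx', ← map_mul, ← map_mul,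
          mem_centralizer_singleton_iff.1 (hJ a.2), inv_mul_cancel]
      exact mem_center_iff.1 h6 b
    rw [Group.IsPerfect.center_quotient_center_eq_bot, mem_bot] at h5
    exact (QuotientGroup.eq_one_iff _).1 h5
  obtain ⟨m, ⟨k, rfl⟩, hu⟩ := hcen _ hyc
  have h8 : π j2 ^ (2 * k + 1) = 1 := by
    rw [← hyx', ← map_pow]
    rcases hu with h5 | h5
    · have h6 : (y : L) ^ (2 * k + 1) = 1 := congrArg Subtype.val h5
      rw [h6, map_one]
    · have h6 : (y : L) ^ (2 * k + 1) = j1 := congrArg Subtype.val h5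
      rw [h6, hπ]
      exact h1
  apply hx1
  rw [pow_succ, pow_mul, pow_two, hx2, one_pow, one_mul] at h8
  exact h8

end Cfsg.Agent.OddHalf.NI.HexNo
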