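import Cfsg.Agent.Cit.LongAbs
import Cfsg.Agent.Cit.HexCent2
import Cfsg.Agent.SignalizersComponents.QuasisimpleQuotient

/-!
# (F2'), exceptional part: quotients `G₂(q)`, `³D₄(q)` do not occur (abstract part)

`Two x`: the centraliser of the involution `x` has two normal subgroups `SL₂` which contain `x` and whose
common centraliser is `⟨x⟩`.  Then `C(x)` has no component without `x` (`Two.false_of_component`).
`false_of_two`: if `L` is quasisimple and all involutions of `L / Z(L)` are of this sort, there is no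
`J₁ ≅ SL₂(F)`, `|F| > 3` odd, subnormal in `C_L(j₂)`, with `Z(J₁) ≤ Z(L)`.
-/

set_option autoImplicit false

namespace Cfsg.Agent.OddHalf.NI.HexNo

open Subgroup Cfsg Cfsg.Agent.SignalizersComponents Cfsg.Agent.SignalizersComponents.Components
  Cfsg.Agent.Cit.LongAbs

/-- two `SL₂` over the involution `x` -/
def Two {X : Type*} [Group X] (x : X) : Prop :=
  ∃ E1 E2 : Subgroup X, x ∈ E1 ∧ x ∈ E2 ∧ (∀ a ∈ E1, a * x = x * a) ∧ (∀ a ∈ E2, a * x = x * a) ∧
    (∀ g, g * x = x * g → ∀ a ∈ E1, g * a * g⁻¹ ∈ E1) ∧ (∀ g, g * x = x * g → ∀ a ∈ E2, g * a * g⁻¹ ∈ E2) ∧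
    (∃ (F : Type) (_ : Field F) (_ : Fintype F), Odd (Fintype.card F) ∧
      Nonempty (E1 ≃* Matrix.SpecialLinearGroup (Fin 2) F)) ∧
    (∃ (F : Type) (_ : Field F) (_ : Fintype F), Odd (Fintype.card F) ∧
      Nonempty (E2 ≃* Matrix.SpecialLinearGroup (Fin 2) F)) ∧
    ∀ g, (∀ a ∈ E1, g * a = a * g) → (∀ a ∈ E2, g * a = a * g) → g = 1 ∨ g = x

/-- all involutions are of this sort -/
def HexFact (X : Type*) [Group X] : Prop := ∀ x : X, x * x = 1 → x ≠ 1 → Two x

variable {X : Type*} [Group X] {x : X}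

theorem Two.conj (h : Two x) (k : X) : Two (k * x * k⁻¹) := by
  obtain ⟨E1, E2, h1, h2, c1, c2, n1, n2, ⟨F1, _, _, o1, ⟨e1⟩⟩, ⟨F2, _, _, o2, ⟨e2⟩⟩, hc⟩ := h
  have hx : ∀ g, g * (k * x * k⁻¹) = k * x * k⁻¹ * g → (k⁻¹ * g * k) * x = x * (k⁻¹ * g * k) := by
    intro g hg
    calc k⁻¹ * g * k * x = k⁻¹ * (g * (k * x * k⁻¹)) * k := by group
      _ = _ := by rw [hg]; group
  have key : ∀ E : Subgroup X, (∀ a ∈ E, a * x = x * a) → (∀ g, g * x = x * g → ∀ a ∈ E, g * a * g⁻¹ ∈ E) →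
      (∀ a ∈ E.map (MulAut.conj k).toMonoidHom, a * (k * x * k⁻¹) = k * x * k⁻¹ * a) ∧
      (∀ g, g * (k * x * k⁻¹) = k * x * k⁻¹ * g → ∀ a ∈ E.map (MulAut.conj k).toMonoidHom,
        g * a * g⁻¹ ∈ E.map (MulAut.conj k).toMonoidHom) := by
    intro E hE hn
    constructor
    · rintro _ ⟨a, ha, rfl⟩
      change k * a * k⁻¹ * (k * x * k⁻¹) = k * x * k⁻¹ * (k * a * k⁻¹)
      have := hE a ha
      calc k * a * k⁻¹ * (k * x * k⁻¹) = k * (a * x) * k⁻¹ := by group
        _ = _ := by rw [this]; group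
    · rintro g hg _ ⟨a, ha, rfl⟩
      refine ⟨(k⁻¹ * g * k) * a * (k⁻¹ * g * k)⁻¹, hn _ (hx g hg) a ha, ?_⟩
      change k * ((k⁻¹ * g * k) * a * (k⁻¹ * g * k)⁻¹) * k⁻¹ = g * (k * a * k⁻¹) * g⁻¹
      group
  obtain ⟨k1, l1⟩ := key E1 c1 n1
  obtain ⟨k2, l2⟩ := key E2 c2 n2
  refine ⟨E1.map (MulAut.conj k).toMonoidHom, E2.map (MulAut.conj k).toMonoidHom, ⟨x, h1, rfl⟩, ⟨x, h2, rfl⟩,
    k1, k2, l1, l2,
    ⟨F1, _, _, o1, ⟨(E1.equivMapOfInjective _ (MulAut.conj k).injective).symm.trans e1⟩⟩,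
    ⟨F2, _, _, o2, ⟨(E2.equivMapOfInjective _ (MulAut.conj k).injective).symm.trans e2⟩⟩, ?_⟩
  intro g g1 g2
  have hg : ∀ E : Subgroup X, (∀ a ∈ E.map (MulAut.conj k).toMonoidHom, g * a = a * g) →
      ∀ a ∈ E, (k⁻¹ * g * k) * a = a * (k⁻¹ * g * k) := by
    intro E hE a ha
    have h3 := hE _ ⟨a, ha, rfl⟩
    change g * (k * a * k⁻¹) = k * a * k⁻¹ * g at h3
    calc k⁻¹ * g * k * a = k⁻¹ * (g * (k * a * k⁻¹)) * k := by group
      _ = _ := by rw [h3]; group
  rcases hc _ (hg E1 g1) (hg E2 g2) with h3 | h3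
  · left
    have : g = k * (k⁻¹ * g * k) * k⁻¹ := by group
    rw [this, h3]; group
  · right
    have : g = k * (k⁻¹ * g * k) * k⁻¹ := by group
    rw [this, h3]

/-- no component of `C(x)` avoids `x` -/
theorem Two.false_of_component [Finite X] (h : Two x) {B : Subgroup (centralizer ({x} : Set X))} (hB : IsComponent B)
    (hx : (⟨x, mem_centralizer_singleton_iff.2 rfl⟩ : centralizer ({x} : Set X)) ∉ B) : False := by
  obtain ⟨E1, E2, h1, h2, c1, c2, n1, n2, ⟨F1, _, _, o1, ⟨e1⟩⟩, ⟨F2, _, _, o2, ⟨e2⟩⟩, hc⟩ := h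
  have key : ∀ (E : Subgroup X) (F : Type) [Field F] [Fintype F], Odd (Fintype.card F) → x ∈ E →
      (∀ a ∈ E, a * x = x * a) → (∀ g, g * x = x * g → ∀ a ∈ E, g * a * g⁻¹ ∈ E) →
      (E ≃* Matrix.SpecialLinearGroup (Fin 2) F) → ∀ b ∈ B, ∀ a ∈ E, (b : X) * a = a * b := by
    intro E F _ _ ho hxE hE hn e
    have hle : E ≤ centralizer ({x} : Set X) := fun a ha => mem_centralizer_singleton_iff.2 (hE a ha)
    have hN : (E.subgroupOf (centralizer ({x} : Set X))).Normal := by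
      constructor
      intro a ha g
      rw [mem_subgroupOf] at ha ⊢
      exact hn g (mem_centralizer_singleton_iff.1 g.2) a ha
    rcases eq_or_commute ho hN.isSubnormal ((subgroupOfEquivOfLe hle).trans e) hB with h3 | h3
    · exfalso
      apply hx
      rw [← h3]
      exact hxE
    · rw [commutator_eq_bot_iff_le_centralizer] at h3
      intro b hb a ha
      have h4 := mem_centralizer_iff.1 (h3 (x := ⟨a, hle ha⟩) ha) b hb
      exact congrArg Subtype.val h4
  have k1 := key E1 F1 o1 h1 c1 n1 e1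
  have k2 := key E2 F2 o2 h2 c2 n2 e2
  have hbot : B = ⊥ := by
    rw [eq_bot_iff]
    intro b hb
    rw [mem_bot]
    rcases hc (b : X) (fun a ha => k1 b hb a ha) (fun a ha => k2 b hb a ha) with h3 | h3
    · exact Subtype.ext h3
    · exfalso
      apply hx
      have : b = ⟨x, mem_centralizer_singleton_iff.2 rfl⟩ := Subtype.ext h3
      rwa [← this]
  have := quasisimple_nontrivial hB.2
  rw [hbot] at this
  exact not_nontrivial _ this

/-- **(F2'), exceptional part** (abstract form). -/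
theorem false_of_two {L : Type*} [Group L] [Finite L] (hX : HexFact (L ⧸ center L))
    {j1 j2 : L} {J1 : Subgroup L} (h1 : j1 ∈ center L) (h11 : j1 ≠ 1) (hj1 : j1 ∈ J1) (h2 : j2 * j2 = 1)
    (h2c : j2 ∉ center L) (hJ : J1 ≤ centralizer ({j2} : Set L))
    (hsub : (J1.subgroupOf (centralizer ({j2} : Set L))).IsSubnormal)
    {F : Type*} [Field F] [Fintype F] (ho : Odd (Fintype.card F)) (h3 : 3 < Fintype.card F)
    (e : Nonempty (J1 ≃* Matrix.SpecialLinearGroup (Fin 2) F)) : False := by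
  classical
  obtain ⟨e⟩ := e
  have hq : IsQuasisimple J1 := ComponentNormalize.quasisimple_congr e.symm (quasisimple_SL2 ho h3.ne')
  let π : L →* L ⧸ center L := QuotientGroup.mk' (center L)
  have hπ : ∀ g, π g = 1 ↔ g ∈ center L := fun g => QuotientGroup.eq_one_iff g
  have hx1 : π j2 ≠ 1 := fun h => h2c ((hπ _).1 h)
  have hx2 : π j2 * π j2 = 1 := by rw [← map_mul, h2, map_one]
  have hT := hX (π j2) hx2 hx1
  -- the preimage of the centraliser
  let D : Subgroup L := (centralizer ({π j2} : Set (L ⧸ center L))).comap π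
  have hCD : centralizer ({j2} : Set L) ≤ D := by
    intro g hg
    rw [mem_comap, mem_centralizer_singleton_iff, ← map_mul, ← map_mul, mem_centralizer_singleton_iff.1 hg]
  have hD : ∀ g ∈ D, ∃ c ∈ center L, g⁻¹ * j2 * g = c * j2 := by
    intro g hg
    rw [mem_comap, mem_centralizer_singleton_iff] at hg
    refine ⟨g⁻¹ * j2 * g * j2⁻¹, (hπ _).1 ?_, by group⟩
    rw [map_mul, map_mul, map_mul, map_inv, map_inv]
    calc (π g)⁻¹ * π j2 * π g * (π j2)⁻¹ = (π g)⁻¹ * (π j2 * π g) * (π j2)⁻¹ := by group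
      _ = 1 := by rw [← hg]; group
  have hN : ((centralizer ({j2} : Set L)).subgroupOf D).Normal := by
    constructor
    intro a ha g
    rw [mem_subgroupOf, mem_centralizer_singleton_iff] at ha ⊢
    obtain ⟨c, hc, hg⟩ := hD g g.2
    rw [mem_center_iff] at hc
    have h5 : (a : L) * ((g : L)⁻¹ * j2 * g) = (g : L)⁻¹ * j2 * g * a := by
      rw [hg, ← mul_assoc, hc, mul_assoc, ha, mul_assoc]
    change (g : L) * a * (g : L)⁻¹ * j2 = j2 * ((g : L) * a * (g : L)⁻¹)
    calc (g : L) * a * (g : L)⁻¹ * j2 = g * (a * ((g : L)⁻¹ * j2 * g)) * (g : L)⁻¹ := by group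
      _ = _ := by rw [h5]; group
  have hJD : J1 ≤ D := hJ.trans hCD
  have hsub' : (J1.subgroupOf D).IsSubnormal := by
    refine IsSubnormal.trans (K := (centralizer ({j2} : Set L)).subgroupOf D) (fun a ha => hJ ha) ?_ hN.isSubnormal
    let f' : ↥((centralizer ({j2} : Set L)).subgroupOf D) →* ↥(centralizer ({j2} : Set L)) :=
      { toFun := fun a => ⟨a.1.1, a.2⟩, map_one' := rfl, map_mul' := fun _ _ => rfl }
    exact hsub.comap f'
  -- the image
  let f : D →* centralizer ({π j2} : Set (L ⧸ center L)) :=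
    { toFun := fun a => ⟨π a, a.2⟩, map_one' := rfl, map_mul' := fun _ _ => rfl }
  have hf : Function.Surjective f := by
    rintro ⟨y, hy⟩
    obtain ⟨g, rfl⟩ := QuotientGroup.mk'_surjective (center L) y
    exact ⟨⟨g, hy⟩, rfl⟩
  have hJq : IsQuasisimple (J1.subgroupOf D) :=
    ComponentNormalize.quasisimple_congr (subgroupOfEquivOfLe hJD).symm hq
  have hnt : Nontrivial ↥((J1.subgroupOf D).map f) := by
    rw [Subgroup.nontrivial_iff_ne_bot]
    intro h0
    rw [eq_bot_iff, map_le_iff_le_comap] at h0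
    apply quasisimple_not_isMulCommutative hq
    refine ⟨⟨fun a b => Subtype.ext ?_⟩⟩
    have h5 : f ⟨a, hJD a.2⟩ = 1 := mem_bot.1 (mem_comap.1 (h0 (show (⟨a, hJD a.2⟩ : D) ∈ J1.subgroupOf D from a.2)))
    have h6 : (a : L) ∈ center L := (hπ _).1 (congrArg Subtype.val h5)
    exact (mem_center_iff.1 h6 b).symm
  have hB : IsComponent ((J1.subgroupOf D).map f) :=
    ⟨hsub'.map hf, QuasisimpleQuotient.isQuasisimple_of_surjective (f.subgroupMap (J1.subgroupOf D))
      (f.subgroupMap_surjective _) hJq⟩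
  refine hT.false_of_component hB ?_
  rintro ⟨y, hy, hyx⟩
  have hyJ : (y : L) ∈ J1 := hy
  have hyx' : π y = π j2 := congrArg Subtype.val hyx
  -- `y` is central in `J1`
  have hyc : (⟨y, hyJ⟩ : J1) ∈ center J1 := by
    have hp : Group.IsPerfect J1 := hq.1
    have h5 : (QuotientGroup.mk' (center J1)) ⟨y, hyJ⟩ ∈ center (J1 ⧸ center J1) := by
      rw [mem_center_iff]
      intro w
      obtain ⟨a, rfl⟩ := QuotientGroup.mk'_surjective (center J1) w
      rw [← map_mul, ← map_mul, QuotientGroup.mk'_eq_mk']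
      refine ⟨(a * ⟨y, hyJ⟩)⁻¹ * (⟨y, hyJ⟩ * a), ?_, by group⟩
      rw [mem_center_iff]
      intro b
      apply Subtype.ext
      have h6 : ((a : L) * y)⁻¹ * (y * a) ∈ center L := by
        rw [← hπ, map_mul, map_inv, map_mul, map_mul, hyx', ← map_mul, ← map_mul,
          mem_centralizer_singleton_iff.1 (hJ a.2), inv_mul_cancel]
      exact mem_center_iff.1 h6 b
    rw [Group.IsPerfect.center_quotient_center_eq_bot, mem_bot] at h5
    exact (QuotientGroup.eq_one_iff _).1 h5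
  -- the centre of `SL₂`
  have hcen : ∀ (u : L) (hu : u ∈ J1), (⟨u, hu⟩ : J1) ∈ center J1 → u = 1 ∨
      e ⟨u, hu⟩ = Cfsg.Agent.Lib.SL2Mat.dg (-1) (neg_ne_zero.2 one_ne_zero) := by
    intro u hu hc
    rcases Cfsg.Agent.Cit.HexBase.central_cases (x := e ⟨u, hu⟩) (by
      intro w
      obtain ⟨v, rfl⟩ := e.surjective w
      rw [← map_mul, ← map_mul, mem_center_iff.1 hc v]) with h5 | h5
    · left
      rw [← map_one e] at h5
      exact congrArg Subtype.val (e.injective h5)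
    · exact Or.inr h5
  have hj1c : (⟨j1, hj1⟩ : J1) ∈ center J1 := by
    rw [mem_center_iff]
    intro b
    exact Subtype.ext (mem_center_iff.1 h1 b)
  rcases hcen y hyJ hyc with h5 | h5
  · rw [h5, map_one] at hyx'
    exact hx1 hyx'.symm
  · rcases hcen j1 hj1 hj1c with h6 | h6
    · exact h11 h6
    · have h7 : (⟨y, hyJ⟩ : J1) = ⟨j1, hj1⟩ := e.injective (h5.trans h6.symm)
      have h8 : (y : L) = j1 := congrArg Subtype.val h7
      rw [h8, (hπ _).2 h1] at hyx'
      exact hx1 hyx'.symm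

end Cfsg.Agent.OddHalf.NI.HexNo
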