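import Cfsg.Agent.OddHalf.NI.FTwo.HexNo

/-!
# (F2'), exceptional part: groups with root groups of type `G₂` or `³D₄`

`two_z`: `Two c.z` for every `c : HexGrp σ L`; `hexFact_of_class`.
-/

set_option autoImplicit false

namespace Cfsg.Agent.OddHalf.NI.HexNo

open Subgroup Cfsg Cfsg.Agent.Cit.HexBase Cfsg.Agent.Lib.SL2Mat

variable {E : Type} [Field E] {σ : E ≃+* E} {L : Type*} [Group L] (c : HexGrp σ L)

include c in
theorem two_z [Finite E] (h2 : (2 : E) ≠ 0) : Two c.z := by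
  classical
  have hodd : ∀ (K : Type) [Field K] [Fintype K], (2 : K) ≠ 0 → Odd (Fintype.card K) := by
    intro K _ _ hK
    rw [← Nat.not_even_iff_odd]
    intro he
    apply hK
    have : ringChar K = 2 := by
      have h1 : (Fintype.card K : K) = 0 := FiniteField.cast_card_eq_zero K
      obtain ⟨n, hp, hn⟩ := FiniteField.card K (ringChar K)
      have h3 : 2 ∣ ringChar K ^ (n : ℕ) := by rw [← hn]; exact he.two_dvd
      exact ((Nat.prime_dvd_prime_iff_eq Nat.prime_two hp).1 (Nat.prime_two.dvd_of_dvd_pow h3)).symm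
    rw [← Nat.cast_two, ← this]
    exact CharP.cast_eq_zero K (ringChar K)
  have hF : Fintype E := Fintype.ofFinite E
  have hF' : Fintype ↥(fx σ) := Fintype.ofFinite _
  have h2' : (2 : ↥(fx σ)) ≠ 0 := fun h => h2 (congrArg Subtype.val h)
  refine ⟨c.K1, c.K4, c.z_mem_K1, c.z_mem_K4, ?_, ?_, ?_, ?_, ⟨E, ‹Field E›, hF, hodd E h2, ?_⟩,
    ⟨↥(fx σ), inferInstance, hF', hodd _ h2', ?_⟩, ?_⟩
  · rintro _ ⟨x, rfl⟩
    exact (c.z_pb x).symm
  · rintro _ ⟨x, rfl⟩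
    exact (c.z_p4 x).symm
  · rintro g hg _ ⟨w, rfl⟩
    obtain ⟨x, y, t, ht, rfl⟩ := c.mem_CZ_form h2 hg
    have h3 : c.pb x * c.p4 y * c.pa (dg t ht) * c.pb w * (c.pb x * c.p4 y * c.pa (dg t ht))⁻¹ =
        c.pb x * (c.p4 y * (c.pa (dg t ht) * c.pb w * (c.pa (dg t ht))⁻¹) * (c.p4 y)⁻¹) * (c.pb x)⁻¹ := by group
    rw [h3, c.pa_dg_pb, ← c.comm_pb_p4, mul_inv_cancel_right, ← map_mul, ← map_inv, ← map_mul]
    exact ⟨_, rfl⟩
  · rintro g hg _ ⟨w, rfl⟩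
    obtain ⟨x, y, t, ht, rfl⟩ := c.mem_CZ_form h2 hg
    have h3 : c.pb x * c.p4 y * c.pa (dg t ht) * c.p4 w * (c.pb x * c.p4 y * c.pa (dg t ht))⁻¹ =
        c.pb x * (c.p4 y * (c.pa (dg t ht) * c.p4 w * (c.pa (dg t ht))⁻¹) * (c.p4 y)⁻¹) * (c.pb x)⁻¹ := by group
    rw [h3, c.pa_dg_p4 h2, ← map_mul, ← map_inv, ← map_mul, c.comm_pb_p4, mul_inv_cancel_right]
    exact ⟨_, rfl⟩
  · exact ⟨(MonoidHom.ofInjective (c.pb_inj h2)).symm⟩
  · exact ⟨(MonoidHom.ofInjective c.p4_inj).symm⟩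
  · intro g h3 h4
    exact c.centralizer_K1K4 h2 (fun x => h3 _ ⟨x, rfl⟩) (fun y => h4 _ ⟨y, rfl⟩)

include c in
/-- the facts for a group with one class of involutions -/
theorem hexFact_of_class [Finite E] (h2 : (2 : E) ≠ 0)
    (hcl : ∀ x : L, x * x = 1 → x ≠ 1 → ∃ g, g * c.z * g⁻¹ = x) : HexFact L := by
  intro x hx hx1
  obtain ⟨g, rfl⟩ := hcl x hx hx1
  exact (two_z c h2).conj g

end Cfsg.Agent.OddHalf.NI.HexNo
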