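import Cfsg.Agent.OddHalf.Table.AutNorm

/-!
# The parameters of the building of a root group datum

`card_pan` : the `i`-panels of the building of a root group datum have `|X (sr i)| + 1` chambers.
`exists_bldg` : a simple group `Y` with a root group datum of type `M ≅ M'` (through `e : I ≃ I'`) acts strongly
transitively on a thick building of type `M'` with parameters `|X (sr i)|`.
-/

set_option autoImplicit false
set_option linter.unusedSectionVars false

namespace Cfsg.Agent.OddHalf.NI.FTwo.IdentRgd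

open CoxeterSystem Cfsg.Agent.ChevalleyStructure.CoxeterGeom Cfsg.Agent.Tits.Roots Cfsg.Agent.Tits.Core
  Cfsg.Agent.Tits.RootComb Cfsg.Agent.Nodes.Comb Cfsg.Agent.Nodes.Reps Cfsg.Agent.Nodes.BNOf Cfsg.Agent.Nodes.BNOf.RGD
  Cfsg.Agent.FixBN Cfsg.Agent.Tits.OfBN Cfsg.Agent.Tits.OppRes Cfsg.Agent.LieExceptional.BNPairCore
  Cfsg.Agent.OddHalf.Table.AutBldg Cfsg.Agent.OddHalf.Table.AutRGD Cfsg.Agent.OddHalf.Table.AutNorm

universe v

variable {I W : Type*} {Y : Type v} [Fintype I] [DecidableEq I] [Group W] [Group Y] {M : CoxeterMatrix I}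
  {cs : CoxeterSystem M W} {A : I → I → ℤ} {h : IsCartan M A} {p : ℕ} {T : Subgroup Y} {n : I → Y}
  {X : (I → ℤ) → Subgroup Y} [Finite W] (R : RGD cs h p T n X) (hgen : B cs h T X ⊔ NN cs R.nsys = ⊤)

include R in
/-- `X (-sr i)` meets `B` trivially. -/
theorem eq_one_of_neg {i : I} {x : Y} (hx : x ∈ X (-sr i)) (hxB : x ∈ B cs h T X) : x = 1 := by
  by_contra hne
  obtain ⟨a, ha, t, ht, b, hb, e⟩ := R.rk1 i x hx hne
  have h1 : n i = (a * t)⁻¹ * x * b⁻¹ := by rw [e]; group
  have h2 : n i ∈ B cs h T X := by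
    rw [h1]
    exact mul_mem (mul_mem (inv_mem (mul_mem (X_le_B (isRoot_sr cs h i) (sr_nonneg i) ha) (T_le_B ht))) hxB)
      (inv_mem (X_le_B (isRoot_sr cs h i) (sr_nonneg i) hb))
  have h3 := R.eq_one_of_mem_B (rp_simple cs R.nsys i) h2
  have h4 := rep_simple_sr cs h i
  rw [h3, map_one, Module.End.one_apply] at h4
  have h5 := congrFun h4 i
  rw [Pi.neg_apply, sr_self] at h5
  exact absurd h5 (by decide)

include R in
theorem eq_of_mk (i : I) {g x y : Y} (hx : x ∈ X (sr i)) (hy : y ∈ X (sr i))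
    (he : (QuotientGroup.mk (g * (x * n i)) : Y ⧸ B cs h T X) = QuotientGroup.mk (g * (y * n i))) : x = y := by
  rw [QuotientGroup.eq] at he
  have h1 : (g * (x * n i))⁻¹ * (g * (y * n i)) = (n i)⁻¹ * (x⁻¹ * y) * n i := by group
  rw [h1] at he
  have h2 : (n i)⁻¹ * (x⁻¹ * y) * n i ∈ X (-sr i) := by
    have := R.conj_mem' (rp_simple cs R.nsys i) (isRoot_sr cs h i) (mul_mem (inv_mem hx) hy)
    rwa [inv_simple, rep_simple_sr] at this
  have h3 := eq_one_of_neg R h2 he
  have h4 : x⁻¹ * y = 1 := by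
    have h5 : x⁻¹ * y = n i * ((n i)⁻¹ * (x⁻¹ * y) * n i) * (n i)⁻¹ := by group
    rw [h5, h3]; group
  exact (inv_mul_eq_one.1 h4)

include R in
theorem n_notMem (i : I) : n i ∉ B cs h T X := by
  intro h2
  have h3 := R.eq_one_of_mem_B (rp_simple cs R.nsys i) h2
  have h4 := rep_simple_sr cs h i
  rw [h3, map_one, Module.End.one_apply] at h4
  have h5 := congrFun h4 i
  rw [Pi.neg_apply, sr_self] at h5
  exact absurd h5 (by decide)

section

variable [hN : (((R.bnPair hgen).B ⊓ (R.bnPair hgen).N).subgroupOf (R.bnPair hgen).N).Normal]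
  (cs' : CoxeterSystem M (WP (R.bnPair hgen)))
  (hcs : ∀ i, cs'.simple i = QuotientGroup.mk
    (⟨(eS R hgen i : Y), (R.bnPair hgen).subset (eS R hgen i).2⟩ : (R.bnPair hgen).N))

/-- The panels of the building of a root group datum. -/
theorem card_pan [Finite Y] (i : I) (x : Y ⧸ (R.bnPair hgen).B) :
    Nat.card ((Bl R hgen cs' hcs).Pan i x) = Nat.card (X (sr i)) + 1 := by
  obtain ⟨g, rfl⟩ := QuotientGroup.mk_surjective x
  let f : X (sr i) → Y ⧸ (R.bnPair hgen).B := fun u => QuotientGroup.mk (g * ((u : Y) * n i))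
  have hf : Function.Injective f := fun u v huv => Subtype.ext (eq_of_mk R i u.2 v.2 huv)
  have hpan : (Bl R hgen cs' hcs).Pan i (QuotientGroup.mk g) = insert (QuotientGroup.mk g) (Set.range f) := by
    ext z
    rw [mem_pan_iff]
    constructor
    · rintro (rfl | ⟨u, hu, rfl⟩)
      · exact Or.inl rfl
      · exact Or.inr ⟨⟨u, hu⟩, rfl⟩
    · rintro (rfl | ⟨u, rfl⟩)
      · exact Or.inl rfl
      · exact Or.inr ⟨u, u.2, rfl⟩
  have hnot : (QuotientGroup.mk g : Y ⧸ (R.bnPair hgen).B) ∉ Set.range f := by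
    rintro ⟨u, hu⟩
    have h1 : (g * ((u : Y) * n i))⁻¹ * g ∈ B cs h T X := QuotientGroup.eq.1 hu
    apply n_notMem R i
    have h2 : n i = (u : Y)⁻¹ * ((g * ((u : Y) * n i))⁻¹ * g)⁻¹ := by group
    rw [h2]
    exact mul_mem (inv_mem (X_le_B (isRoot_sr cs h i) (sr_nonneg i) u.2)) (inv_mem h1)
  rw [hpan, Nat.card_coe_set_eq, Set.ncard_insert_of_notMem hnot (Set.toFinite _), ← Nat.card_coe_set_eq,
    Nat.card_congr (Equiv.ofInjective f hf).symm]

end

include R hgen in
/-- **The building of a root group datum**, with the labels `I'`. -/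
theorem exists_bldg [Finite Y] [IsSimpleGroup Y] {I' : Type*} {M' : CoxeterMatrix I'} (e : I ≃ I')
    (hM : ∀ i j, M i j = M' (e i) (e j)) [Nonempty I] :
    ∃ (W' : Type v) (_ : Group W') (_ : Finite W') (cs'' : CoxeterSystem M' W')
      (Δ : Bldg cs'' (Y ⧸ (R.bnPair hgen).B)), Δ.Thick ∧ Δ.StrongAct Y ∧
      ∀ i, Δ.Param (e i) (Nat.card (X (sr i))) := by
  have hN := Cfsg.Agent.Tits.OfBN.normal_subgroupOf (R.bnPair hgen)
  obtain ⟨cs', hcs⟩ := exists_sys R hgen
  have hM' : M.reindex e = M' := by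
    apply CoxeterMatrix.ext
    ext i j
    rw [CoxeterMatrix.reindex_apply, hM, Equiv.apply_symm_apply, Equiv.apply_symm_apply]
  subst hM'
  have hfin : Finite (WP (R.bnPair hgen)) := inferInstance
  have hcs2 : ∀ i', (cs'.reindex e).simple i' = QuotientGroup.mk
      (⟨((e.symm.trans (eS R hgen)) i' : Y), (R.bnPair hgen).subset ((e.symm.trans (eS R hgen)) i').2⟩ :
        (R.bnPair hgen).N) := fun i' => by
    rw [CoxeterSystem.reindex_simple, hcs]
    rfl
  have hcore := normalCore_eq_bot (R.bnPair hgen) ⟨_, ((eS R hgen) (Classical.arbitrary I)).2⟩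
  refine ⟨WP (R.bnPair hgen), inferInstance, hfin, cs'.reindex e,
    bldg (R.bnPair hgen) (e.symm.trans (eS R hgen)) (cs'.reindex e) hcs2, thick _ _ _ _,
    strongAct _ _ _ _ hcore, fun i x => ?_⟩
  rw [← card_pan R hgen cs' hcs i x]
  congr 1
  congr 1
  ext z
  show (z = x ∨ _ = (cs'.reindex e).simple (e i)) ↔ (z = x ∨ _ = cs'.simple i)
  rw [CoxeterSystem.reindex_simple, Equiv.symm_apply_apply]
  rfl

end Cfsg.Agent.OddHalf.NI.FTwo.IdentRgd
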