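import Cfsg.Agent.Lib.PSL2Mult
import Cfsg.Agent.OddHalf.NI.FTwo.Norm
import Cfsg.Agent.OddHalf.NI.FTwo.Entry

/-!
# NI (F2') modulo cores, 1: quasisimple groups `A` with `A / O(A) ≃ SL₂(F)`

* `SLm F A` : `A` is quasisimple, `A / O(A) ≃ SL₂(F)`, `|F| > 3` odd;
* `core_le_center`, `isPGroup_core` : `O(A) ≤ Z(A)` is a `p`-group, `p` the characteristic of `F`;
* `SLm.sl` : `O(A) = 1` gives `SL F A`;
* `central` : central elements of `A` have an odd power in `{1, z}`.
-/

set_option autoImplicit false
set_option linter.dupNamespace false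
set_option linter.unusedSectionVars false

namespace Cfsg.Agent.OddHalf.NI.FTwo

open Subgroup Cfsg
open Cfsg.Agent.SignalizersComponents.Components

/-- `A` is quasisimple and `A / O(A) ≃ SL₂(F)`, `|F| > 3` odd. -/
structure SLm (F : Type*) [Field F] [Fintype F] (A : Type*) [Group A] : Prop where
  odd : Odd (Fintype.card F)
  three : 3 < Fintype.card F
  quasi : IsQuasisimple A
  equiv : Nonempty ((A ⧸ oddCore A) ≃* Matrix.SpecialLinearGroup (Fin 2) F)

variable {F : Type*} [Field F] [Fintype F] {A : Type*} [Group A] [Finite A]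

/-- odd primes dividing the kernel of a perfect cover of `PSL₂(F)` divide `|F|` -/
theorem dvd_of_dvd_ker (hodd : Odd (Fintype.card F)) (h3 : 3 < Fintype.card F) {L : Type*} [Group L] [Finite L]
    {f : L →* Matrix.ProjectiveSpecialLinearGroup (Fin 2) F} (hf : Function.Surjective f)
    (hc : f.ker ≤ center L) (hL : commutator L = ⊤) {l : ℕ} (hl : l.Prime) (hl2 : l ≠ 2)
    (hd : l ∣ Nat.card f.ker) : l ∣ Fintype.card F := by
  have : Fact l.Prime := ⟨hl⟩
  by_cases h9 : Fintype.card F = 9
  · by_contra hcon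
    have hG : commutator (Matrix.ProjectiveSpecialLinearGroup (Fin 2) F) = ⊤ := by
      rw [eq_top_iff]
      have h4 : (commutator L).map f = ⊤ := by
        rw [hL, ← MonoidHom.range_eq_map, MonoidHom.range_eq_top.2 hf]
      rw [← h4, _root_.commutator_def, _root_.commutator_def, map_commutator]
      exact commutator_mono le_top le_top
    exact Cfsg.Agent.S0102.result hG
      (fun P => Cfsg.Agent.Lib.PSL2Mult.isCyclic_sylow_psl hodd hl2 hcon P) f hf hc hL hd
  · exact absurd hd (Cfsg.Agent.Lib.PSL2Mult.not_dvd_ker hodd h3 h9 hf hc hL hl2)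

namespace SLm

omit [Finite A] in
theorem core_normal (_h : SLm F A) : (oddCore A).Normal := Lib.Cores.pPrimeCore_normal 2

theorem core_le_center (h : SLm F A) : oddCore A ≤ center A := by
  have hn : (oddCore A).Normal := h.core_normal
  rcases SignalizersComponents.LayerBasic.quasisimple_normal h.quasi _ hn with h1 | h1
  · exfalso
    obtain ⟨e⟩ := h.equiv
    have h2 : Subsingleton (A ⧸ oddCore A) := by
      rw [h1]; exact QuotientGroup.subsingleton_quotient_top
    have h3 : Subsingleton (Matrix.SpecialLinearGroup (Fin 2) F) := e.symm.toEquiv.subsingleton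
    have h4 : IsQuasisimple (Matrix.SpecialLinearGroup (Fin 2) F) :=
      SignalizersComponents.SLQuasisimple.isQuasisimple_two
        (by rw [Nat.card_eq_fintype_card]; have := h.three; omega)
    exact quasisimple_center_ne_top h4 (Subsingleton.elim _ _)
  · exact h1

/-- the map onto `PSL₂(F)` -/
theorem exists_psl (h : SLm F A) : ∃ f : A →* Matrix.ProjectiveSpecialLinearGroup (Fin 2) F,
    Function.Surjective f ∧ f.ker ≤ center A ∧ oddCore A ≤ f.ker := by
  obtain ⟨e⟩ := h.equiv
  let f : A →* Matrix.ProjectiveSpecialLinearGroup (Fin 2) F :=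
    ((QuotientGroup.mk' (center (Matrix.SpecialLinearGroup (Fin 2) F))).comp e.toMonoidHom).comp
      (QuotientGroup.mk' (oddCore A))
  have hf : Function.Surjective f :=
    ((QuotientGroup.mk'_surjective _).comp e.surjective).comp (QuotientGroup.mk'_surjective _)
  refine ⟨f, hf, ?_, ?_⟩
  · rcases SignalizersComponents.LayerBasic.quasisimple_normal h.quasi f.ker inferInstance with h1 | h1
    · exfalso
      have h4 : IsQuasisimple (Matrix.SpecialLinearGroup (Fin 2) F) :=
        SignalizersComponents.SLQuasisimple.isQuasisimple_two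
          (by rw [Nat.card_eq_fintype_card]; have := h.three; omega)
      have h5 : Nontrivial (Matrix.SpecialLinearGroup (Fin 2) F ⧸ center _) := h4.2.toNontrivial
      obtain ⟨a, ha⟩ := exists_ne (1 : Matrix.SpecialLinearGroup (Fin 2) F ⧸ center _)
      obtain ⟨x, hx⟩ := hf a
      apply ha
      rw [← hx]
      exact MonoidHom.mem_ker.1 (by rw [h1]; trivial)
    · exact h1
  · intro x hx
    rw [MonoidHom.mem_ker]
    change (QuotientGroup.mk' _) (e ((QuotientGroup.mk' (oddCore A)) x)) = 1
    have h1 : (QuotientGroup.mk' (oddCore A)) x = 1 := (QuotientGroup.eq_one_iff x).2 hx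
    rw [h1, map_one, map_one]

theorem isPGroup_core (h : SLm F A) {p : ℕ} (hp : p.Prime) [CharP F p] : IsPGroup p (oddCore A) := by
  have : Fact p.Prime := ⟨hp⟩
  obtain ⟨f, hf, hc, hO⟩ := h.exists_psl
  obtain ⟨⟨k, hk0⟩, -, hk⟩ := FiniteField.card F p
  simp only [PNat.mk_coe] at hk
  rw [IsPGroup.iff_card]
  have h1 : ∀ l : ℕ, l.Prime → l ∣ Nat.card (oddCore A) → l = p := by
    intro l hl hd
    have hl2 : l ≠ 2 := by
      rintro rfl
      exact Cit.not_two_dvd_oddCore A hd
    have h2 : l ∣ Fintype.card F := dvd_of_dvd_ker h.odd h.three hf hc h.quasi.1.commutator_eq_top hl hl2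
      (hd.trans (Subgroup.card_dvd_of_le hO))
    rw [hk] at h2
    exact (Nat.prime_dvd_prime_iff_eq hl hp).1 (hl.dvd_of_dvd_pow h2)
  exact ⟨_, Nat.eq_prime_pow_of_unique_prime_dvd Nat.card_pos.ne' fun {l} hl hd => h1 l hl hd⟩

theorem sl (h : SLm F A) (hO : oddCore A = ⊥) : SL F A := by
  obtain ⟨e⟩ := h.equiv
  exact ⟨h.odd, h.three, ⟨((QuotientGroup.quotientMulEquivOfEq hO).trans QuotientGroup.quotientBot).symm.trans e⟩⟩

theorem perfect (h : SLm F A) : commutator A = ⊤ := h.quasi.1.commutator_eq_top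

/-- the involutions of `A` are equal and central -/
theorem exists_inv (h : SLm F A) {z : A} (hz : orderOf z = 2) :
    z ∈ center A ∧ ∀ u ∈ center A, ∃ m, Odd m ∧ (u ^ m = 1 ∨ u ^ m = z) := by
  obtain ⟨e⟩ := h.equiv
  have hn : (oddCore A).Normal := h.core_normal
  let π := QuotientGroup.mk' (oddCore A)
  have hodd : Odd (Nat.card (oddCore A)) := by
    rw [← Nat.not_even_iff_odd]
    exact fun he => Cit.not_two_dvd_oddCore A he.two_dvd
  have hzO : z ∉ oddCore A := by
    intro h1
    apply Cit.not_two_dvd_oddCore A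
    rw [← hz]
    have : orderOf (⟨z, h1⟩ : oddCore A) = orderOf z := by rw [← Subgroup.orderOf_coe]
    rw [← this]
    exact orderOf_dvd_natCard _
  have hS : SL F (Matrix.SpecialLinearGroup (Fin 2) F) := ⟨h.odd, h.three, ⟨MulEquiv.refl _⟩⟩
  -- the image of `z`
  have hpz : orderOf (e (π z)) = 2 := by
    apply orderOf_eq_prime
    · have h0 : z ^ 2 = 1 := by rw [← hz, pow_orderOf_eq_one]
      rw [← map_pow, ← map_pow, h0, map_one, map_one]
    · intro h1
      apply hzO
      rw [← map_one e] at h1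
      exact (QuotientGroup.eq_one_iff z).1 (e.injective h1)
  obtain ⟨w, hw, hwu⟩ := hS.unique
  -- `z` is central
  have hzc : z ∈ center A := by
    have h1 : e (π z) ∈ center _ := hS.mem_center hpz
    rw [mem_center_iff]
    -- `a ↦ [z, a]` is a homomorphism into `O(A)`
    have hcO := h.core_le_center
    have h2 : ∀ a, z * a * z⁻¹ * a⁻¹ ∈ oddCore A := by
      intro a
      have h3 : π (z * a * z⁻¹ * a⁻¹) = 1 := by
        apply e.injective
        rw [map_one, map_mul, map_mul, map_mul, map_mul, map_mul, map_mul, ← mem_center_iff.1 h1 (e (π a)),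
          map_inv, map_inv, map_inv, map_inv]
        group
      exact (QuotientGroup.eq_one_iff _).1 h3
    let g : A →* center A :=
      { toFun := fun a => ⟨z * a * z⁻¹ * a⁻¹, hcO (h2 a)⟩
        map_one' := by apply Subtype.ext; simp
        map_mul' := by
          intro a b
          apply Subtype.ext
          change z * (a * b) * z⁻¹ * (a * b)⁻¹ = z * a * z⁻¹ * a⁻¹ * (z * b * z⁻¹ * b⁻¹)
          have h3 := mem_center_iff.1 (hcO (h2 b)) (a⁻¹)
          calc z * (a * b) * z⁻¹ * (a * b)⁻¹ = z * a * z⁻¹ * ((z * b * z⁻¹ * b⁻¹) * a⁻¹) := by group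
            _ = z * a * z⁻¹ * (a⁻¹ * (z * b * z⁻¹ * b⁻¹)) := by rw [h3]
            _ = _ := by group }
    have hg : g.ker = ⊤ := by
      rw [eq_top_iff, ← h.perfect, _root_.commutator_def, commutator_le]
      intro a _ b _
      rw [MonoidHom.mem_ker, map_commutatorElement, commutatorElement_eq_one_iff_mul_comm]
      exact Subtype.ext (mem_center_iff.1 (g a).2 (g b)).symm
    intro a
    have h3 : g a = 1 := MonoidHom.mem_ker.1 (by rw [hg]; trivial)
    have h4 : z * a * z⁻¹ * a⁻¹ = 1 := congrArg Subtype.val h3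
    have h5 : z * a = a * z := by
      calc z * a = (z * a * z⁻¹ * a⁻¹) * (a * z) := by group
        _ = _ := by rw [h4, one_mul]
    exact h5.symm
  refine ⟨hzc, fun u hu => ?_⟩
  have huc : e (π u) ∈ center _ := by
    rw [mem_center_iff]
    intro s
    obtain ⟨b, rfl⟩ := e.surjective s
    obtain ⟨a, rfl⟩ := QuotientGroup.mk'_surjective _ b
    rw [← map_mul, ← map_mul, ← map_mul, ← map_mul, mem_center_iff.1 hu a]
  have hsq : (e (π u)) ^ 2 = 1 := by
    rw [Matrix.SpecialLinearGroup.mem_center_iff] at huc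
    obtain ⟨a, ha, hax⟩ := huc
    apply Subtype.ext
    rw [Fintype.card_fin] at ha
    rw [pow_two]
    change ((e (π u) : Matrix.SpecialLinearGroup (Fin 2) F) : Matrix (Fin 2) (Fin 2) F) *
      ((e (π u) : Matrix.SpecialLinearGroup (Fin 2) F) : Matrix (Fin 2) (Fin 2) F) = 1
    rw [← hax, ← map_mul, ← pow_two, ha, map_one]
  -- `u` or `u z` is in `O(A)`
  have h6 : u ∈ oddCore A ∨ u * z ∈ oddCore A := by
    rcases (Nat.dvd_prime Nat.prime_two).1 (orderOf_dvd_of_pow_eq_one hsq) with h7 | h7
    · left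
      rw [orderOf_eq_one_iff, ← map_one e] at h7
      exact (QuotientGroup.eq_one_iff u).1 (e.injective h7)
    · right
      have h8 : e (π u) = e (π z) := (hwu _ h7).trans (hwu _ hpz).symm
      have h9 : π (u * z) = 1 := by
        apply e.injective
        rw [map_mul, map_mul, h8, ← map_mul, ← map_mul, map_one]
        have : z * z = 1 := by rw [← pow_two, ← hz, pow_orderOf_eq_one]
        rw [this, map_one, map_one]
      exact (QuotientGroup.eq_one_iff _).1 h9
  refine ⟨Nat.card (oddCore A), hodd, ?_⟩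
  have key : ∀ v ∈ oddCore A, v ^ Nat.card (oddCore A) = 1 := by
    intro v hv
    have h7 : (⟨v, hv⟩ : oddCore A) ^ Nat.card (oddCore A) = 1 := pow_card_eq_one'
    exact congrArg Subtype.val h7
  rcases h6 with h7 | h7
  · exact Or.inl (key u h7)
  · right
    have h8 := key _ h7
    have hcomm : Commute u z := (mem_center_iff.1 hzc u)
    rw [hcomm.mul_pow] at h8
    have h9 : z ^ Nat.card (oddCore A) = z := by
      obtain ⟨m, hm⟩ := hodd
      rw [hm, pow_succ, pow_mul, ← hz, pow_orderOf_eq_one, one_pow, one_mul]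
    rw [h9] at h8
    have hzz : z * z = 1 := by rw [← pow_two, ← hz, pow_orderOf_eq_one]
    calc u ^ Nat.card (oddCore A) = u ^ Nat.card (oddCore A) * z * z := by rw [mul_assoc, hzz, mul_one]
      _ = z := by rw [h8, one_mul]

end SLm

end Cfsg.Agent.OddHalf.NI.FTwo
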