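import Cfsg.Agent.OddHalf.NI.FTwo.F2
import Cfsg.Agent.OddHalf.NI.FTwo.ModCore
import Cfsg.Agent.OddHalf.NI.FTwo.HexMod
import Cfsg.Agent.UGT.U2.PCoreRGD

/-!
# NI (F2') modulo cores

`core_bot` : in the situation of (F2') with `A`, `B` quasisimple, `A / O(A) ≃ B / O(B) ≃ SL₂(F)` only:
`O(A) = O(B) = 1`; `main_mod` : (F2') in this form.
-/

set_option autoImplicit false
set_option linter.dupNamespace false

namespace Cfsg.Agent.OddHalf.NI.FTwo

open Subgroup Cfsg
open Cfsg.Agent.Cit (cj mem_cj conj_mem_cj zz Hyp cls self_mem_cls TStmt HasPieces Piece)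
open Cfsg.Agent.SignalizersComponents.Components
open Cfsg.Agent.Nodes.Chart (Chart)

universe u

variable {N : Type u} [Group N]

/-- **The entry**, modulo cores. -/
theorem entry_mod [Finite N] (hT : TStmt.{u}) (hN : IsQuasisimple N) (hc : IsPGroup 2 (center N)) {d : N}
    {A B : Subgroup N} (hd : orderOf d = 2) (hdB : d ∈ B) (hAB : A ≠ B)
    (hA : CompIn (centralizer ({d} : Set N)) A) (hB : CompIn (centralizer ({d} : Set N)) B)
    {F : Type} [Field F] [Fintype F] (hBs : SLm F B) :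
    d ∉ center N ∧ Hyp (cls B) ∧ zz B = d ∧ Piece (cls B) (⊤ : Subgroup N) ∧ SL F B := by
  have hdc : d ∉ center N := by
    intro h1
    have h2 : centralizer ({d} : Set N) = ⊤ := by
      rw [eq_top_iff]
      intro x _
      rw [mem_centralizer_singleton_iff]
      exact (mem_center_iff.1 h1) x
    have key : ∀ K : Subgroup N, CompIn (centralizer ({d} : Set N)) K → K = ⊤ := by
      intro K hK
      rw [h2] at hK
      refine eq_top_of_component hN ?_
      have h3 := hK.comp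
      refine ⟨?_, isQuasisimple_of_mulEquiv (subgroupOfEquivOfLe le_top) h3.2⟩
      have h4 := h3.1.map (f := (Subgroup.topEquiv : (⊤ : Subgroup N) ≃* N).toMonoidHom)
        (Subgroup.topEquiv : (⊤ : Subgroup N) ≃* N).surjective
      convert h4 using 1
      ext x
      rw [mem_map]
      exact ⟨fun hx => ⟨⟨x, trivial⟩, hx, rfl⟩, by rintro ⟨y, hy, rfl⟩; exact hy⟩
    exact hAB ((key A hA).trans (key B hB).symm)
  have hperf : ⁅B, B⁆ = B := commutator_eq_of_quasisimple hBs.quasi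
  obtain ⟨e⟩ := hBs.equiv
  have hbig : Cit.Seven.IsBig (↥B ⧸ oddCore ↥B) :=
    Or.inl ⟨F, inferInstance, inferInstance, hBs.odd, hBs.three, ⟨e⟩⟩
  have hp2 : Fact (Nat.Prime 2) := ⟨Nat.prime_two⟩
  have hpc : IsPComponent 2 (B.subgroupOf (centralizer ({d} : Set N))) := by
    refine SignalizersComponents.EvenComponent.isPComponent_of_isComponent hB.comp ?_
    rw [Nat.card_congr (subgroupOfEquivOfLe hB.le).toEquiv, ← hd]
    have h1 : orderOf d = orderOf (⟨d, hdB⟩ : B) := by rw [← Subgroup.orderOf_coe]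
    rw [h1]
    exact orderOf_dvd_natCard _
  obtain ⟨hOm, hzz⟩ := Cit.Seven.hyp_of_comp d hd B hB.le hdB hpc hbig
  have hTy : Cit.Ty B := Or.inr ⟨Or.inl ⟨F, inferInstance, inferInstance, hBs.odd, ⟨e⟩⟩, hperf⟩
  have hTT := hT N (cls B) hOm (fun J hJ => by
    obtain ⟨g, rfl⟩ := hJ
    exact hTy.map_of_injective (MulAut.conj g).toMonoidHom (MulAut.conj g).injective) (Cit.uni_cls B)
  have hHP := (Cit.tt_iff_hasPieces hOm (core_eq_bot hN hc hd)).1 hTT
  refine ⟨hdc, hOm, hzz, piece_top hN hOm ⟨B, self_mem_cls B⟩ hHP, hBs.sl ?_⟩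
  have h1 := hHP.core B (self_mem_cls B)
  rw [Cit.OO_def] at h1
  exact (Subgroup.map_eq_bot_iff_of_injective _ B.subtype_injective).1 h1

/-- the cores are trivial -/
theorem core_bot [Finite N] (hT : TStmt.{u}) (hN : IsQuasisimple N)
    (hc2 : IsPGroup 2 (center N)) {c d : N} {A B : Subgroup N} (hc : c ∈ center N) (hco : orderOf c = 2)
    (hd : orderOf d = 2) (hcA : c ∈ A) (hdB : d ∈ B) (hAB : A ≠ B)
    (hA : CompIn (centralizer ({d} : Set N)) A) (hB : CompIn (centralizer ({d} : Set N)) B)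
    {F : Type} [Field F] [Fintype F] (hAs : SLm F A) (hBs : SLm F B) : SL F A ∧ SL F B := by
  obtain ⟨hdc, hOm, hzz, hP, hBs⟩ := entry_mod hT hN hc2 hd hdB hAB hA hB hBs
  refine ⟨?_, hBs⟩
  have hdd : d * d = 1 := by rw [← pow_two, ← hd]; exact pow_orderOf_eq_one d
  rcases hP with hmem | ⟨nmem, -, -, p, C, τ, kind, ok, -, ⟨F', _, _, hchar, hsl'⟩, zx⟩ |
    ⟨-, -, p, -, hp2, iso, -, -, -⟩ | ⟨-, -, -, ⟨K, hK, hKD⟩, hm⟩
  · exfalso
    obtain ⟨g, hg⟩ := hmem
    have h1 : B = ⊤ := by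
      rw [eq_top_iff]
      intro x _
      have h2 : g * x * g⁻¹ ∈ cj g B := by rw [← hg]; trivial
      rw [mem_cj] at h2
      have h3 : g⁻¹ * (g * x * g⁻¹) * g = x := by group
      rwa [h3] at h2
    apply hdc
    have h2 := hBs.mem_center (z := ⟨d, hdB⟩) (by rw [← Subgroup.orderOf_coe]; exact hd)
    rw [mem_center_iff] at h2 ⊢
    intro x
    exact congrArg Subtype.val (h2 ⟨x, by rw [h1]; trivial⟩)
  · obtain ⟨r, hr, g, -, hBr⟩ := C.om_conj B (self_mem_cls B) le_top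
    change B = cj g (Nodes.Perp.KK C.Z r) at hBr
    have hsl : ∀ s ∈ C.R, SL F (Nodes.Perp.KK C.Z s) := by
      intro s hs
      obtain ⟨k, hk⟩ := C.om s hs
      change Nodes.Perp.KK C.Z s = cj k B at hk
      rw [hk]; exact hBs.cj k
    have hcard : Fintype.card F' = Fintype.card F := by
      obtain ⟨e⟩ := hsl' r hr
      have h1 := (hsl r hr).card
      have h2 : Nat.card (Matrix.SpecialLinearGroup (Fin 2) F') = Nat.card (Nodes.Perp.KK C.Z r) :=
        Nat.card_congr e.toEquiv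
      rw [h1, Cfsg.Agent.S0276.card_sl_two rfl] at h2
      exact card_inj Fintype.one_lt_card (by have := hBs.three; omega) h2
    have hcF : CharP F p := charP_of_equiv hcard
    have hz1 := ZNe.z_ne_one C nmem
    have hzr : C.z r = g⁻¹ * d * g := by
      have h1 := Nodes.StdConn.zz_eq hOm C hr (hz1 r hr)
      change zz (Nodes.Perp.KK C.Z r) = _ at h1
      have h2 := hOm.zz_cj (C.om r hr) g
      change zz (cj g (Nodes.Perp.KK C.Z r)) = g * zz (Nodes.Perp.KK C.Z r) * g⁻¹ at h2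
      rw [← hBr, hzz, h1] at h2
      rw [h2]; group
    have hAr : CompIn (centralizer ({C.z r} : Set N)) (cj g⁻¹ A) := by
      have h1 := hA.conj g⁻¹
      have h2 : centralizer ({C.z r} : Set N) = cj g⁻¹ (centralizer ({d} : Set N)) := by
        rw [Cit.cj_centralizer, hzr, inv_inv]
      rw [h2]; exact h1
    have hBr' : CompIn (centralizer ({C.z r} : Set N)) (Nodes.Perp.KK C.Z r) := by
      have h1 := hB.conj g⁻¹
      have h2 : centralizer ({C.z r} : Set N) = cj g⁻¹ (centralizer ({d} : Set N)) := by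
        rw [Cit.cj_centralizer, hzr, inv_inv]
      have h3 : cj g⁻¹ B = Nodes.Perp.KK C.Z r := (congrArg (cj g⁻¹) hBr).trans (Cit.cj_inv_cj _ _)
      rw [h2, ← h3]; exact h1
    have hne : cj g⁻¹ A ≠ Nodes.Perp.KK C.Z r := by
      intro h1
      apply hAB
      rw [hBr, ← h1, Cit.cj_cj_inv]
    -- the core of `A`
    have hp : Fact p.Prime := ⟨C.prime⟩
    set O : Subgroup N := cj g⁻¹ ((oddCore A).map A.subtype) with hO
    have hOA : O ≤ cj g⁻¹ A := Cit.cj_mono _ (Subgroup.map_subtype_le _)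
    have hcomm : ∀ x ∈ O, ∀ y ∈ Nodes.Perp.KK C.Z r, x * y = y * x := fun x hx y hy =>
      ((mem_centralizer_iff.1 ((hAr.comm hBr' hne) (hOA hx))) y hy).symm
    have hOp : IsPGroup p O := ((hAs.isPGroup_core C.prime).map _).map _
    have hOs : (O.subgroupOf (centralizer ({C.z r} : Set N))).IsSubnormal := by
      refine IsSubnormal.trans (K := (cj g⁻¹ A).subgroupOf _) (fun a ha => hOA ha) ?_ hAr.comp.1
      refine Subgroup.Normal.isSubnormal ⟨fun a ha b => ?_⟩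
      obtain ⟨a', ha', hab⟩ : (a : N) ∈ O := ha
      obtain ⟨a₀, ha₀, rfl⟩ := ha'
      obtain ⟨b₀, hb₀, hbb⟩ : (b : N) ∈ cj g⁻¹ A := b.2
      have hn : (oddCore A).Normal := hAs.core_normal
      refine ⟨_, ⟨_, hn.conj_mem a₀ ha₀ ⟨b₀, hb₀⟩, rfl⟩, ?_⟩
      change g⁻¹ * (b₀ * a₀ * b₀⁻¹) * g⁻¹⁻¹ = (b : N) * a * (b : N)⁻¹
      have e1 : (b : N) = g⁻¹ * b₀ * g⁻¹⁻¹ := hbb.symm
      have e2 : (a : N) = g⁻¹ * a₀ * g⁻¹⁻¹ := hab.symm
      rw [e1, e2]; group
    have h1 := UGT.U2.PCoreRGD.eq_bot_of_levi C.cls (Nodes.ChartFrame.GG_eq C) hr hcomm hOs hOp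
    rw [hO] at h1
    have h2 : (oddCore A).map A.subtype = ⊥ := (Subgroup.map_eq_bot_iff_of_injective _ (MulAut.conj g⁻¹).injective).1 h1
    exact hAs.sl ((Subgroup.map_eq_bot_iff_of_injective _ A.subtype_injective).1 h2)
  · exfalso
    have hX : Cit.IsG2D4 p (N ⧸ center N) := by
      obtain ⟨e⟩ := centerQuotTop (N := N)
      obtain ⟨E, _, _, hE, h1⟩ := iso
      refine ⟨E, inferInstance, inferInstance, hE, ?_⟩
      rcases h1 with ⟨⟨f⟩⟩ | ⟨q, hq, hqE, ⟨f⟩⟩
      · exact Or.inl ⟨e.symm.trans f⟩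
      · exact Or.inr ⟨q, hq, hqE, ⟨e.symm.trans f⟩⟩
    refine HexNo.false_of_two_mod (HexNo.hexFact_of_isG2D4 hp2 hX) hc hcA hdd hdc hA.le hA.comp.1 hA.quasi ?_
    exact (hAs.exists_inv (z := ⟨c, hcA⟩) (by rw [← Subgroup.orderOf_coe]; exact hco)).2
  · exfalso
    obtain ⟨k, rfl⟩ := hK
    exact (hBs.cj k).not_isT (hm _ ⟨k, rfl⟩ hKD)

/-- **(F2') modulo cores.** -/
theorem main_mod (hT : TStmt.{u}) [Finite N] (hN : IsQuasisimple N)
    (hc2 : IsPGroup 2 (center N)) {c d : N} {A B : Subgroup N} (hc : c ∈ center N) (hco : orderOf c = 2)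
    (hd : orderOf d = 2) (hcA : c ∈ A) (hdB : d ∈ B) (hAB : A ≠ B)
    (hA : CompIn (centralizer ({d} : Set N)) A) (hB : CompIn (centralizer ({d} : Set N)) B)
    {F : Type} [Field F] [Fintype F] (hAs : SLm F A) (hBs : SLm F B) :
    SL F A ∧ SL F B ∧ ∃ A' : Subgroup N, CompIn (centralizer ({d} : Set N)) A' ∧ c * d ∈ A' ∧ SL F A' ∧
      (∀ K : Subgroup N, CompIn (centralizer ({d} : Set N)) K → K = A ∨ K = B ∨ K = A') ∧
      ChartB3 F N c d A B A' := by
  obtain ⟨h1, h2⟩ := core_bot hT hN hc2 hc hco hd hcA hdB hAB hA hB hAs hBs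
  exact ⟨h1, h2, main hT hN hc2 hc hco hd hcA hdB hAB hA hB h1 h2⟩

end Cfsg.Agent.OddHalf.NI.FTwo
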